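import Mathlib.AlgebraicGeometry.Morphisms.Flat
import Mathlib.RingTheory.Flat.FaithfullyFlat.Algebra

universe u

open CategoryTheory AlgebraicGeometry TensorProduct

namespace Groth.Agent.H13Desc

/-- If `A → B → C` has flat composite and `B → C → D` faithfully flat composite then `A → B` is flat. -/
theorem algebra_flat_of_refinement {A B C D : Type u} [CommRing A] [CommRing B] [CommRing C] [CommRing D]
    [Algebra A B] [Algebra A C] [Algebra A D] [Algebra B D] [IsScalarTower A B D]
    (g : B →ₐ[A] C) (h : C →ₐ[A] D) (hh : ∀ b, h (g b) = algebraMap B D b)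
    [Module.Flat A C] [Module.FaithfullyFlat B D] : Module.Flat A B := by
  rw [Module.Flat.iff_rTensor_preserves_injective_linearMap]
  intro N N' _ _ _ _ j hj
  have key : Function.Injective (LinearMap.lTensor N g.toLinearMap) := by
    have h1 : Function.Injective (LinearMap.rTensor N g.toLinearMap) := by
      have h2 : Function.Injective (LinearMap.rTensor N (h.comp g).toLinearMap) := by
        have e : ∀ x : B ⊗[A] N, LinearMap.rTensor N (h.comp g).toLinearMap x =
            AlgebraTensorModule.cancelBaseChange A B B D N (TensorProduct.mk B D (B ⊗[A] N) 1 x) := by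
          intro x
          induction x with
          | zero => simp
          | add x y hx hy => rw [map_add, map_add, map_add, hx, hy]
          | tmul b n => simp [hh, Algebra.smul_def]
        intro x y hxy
        rw [e, e] at hxy
        exact Module.FaithfullyFlat.tensorProduct_mk_injective _
          ((AlgebraTensorModule.cancelBaseChange A B B D N).injective hxy)
      rw [AlgHom.comp_toLinearMap, LinearMap.rTensor_comp] at h2
      exact Function.Injective.of_comp (by exact h2)
    exact (LinearMap.lTensor_inj_iff_rTensor_inj N g.toLinearMap).mpr h1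
  have hC := Module.Flat.rTensor_preserves_injective_linearMap (M := C) j hj
  have hc : ∀ x, LinearMap.lTensor N' g.toLinearMap (LinearMap.rTensor B j x) =
      LinearMap.rTensor C j (LinearMap.lTensor N g.toLinearMap x) := fun x => by
    induction x with
    | zero => simp
    | add x y hx hy => simp only [map_add, hx, hy]
    | tmul n b => simp
  intro x y hxy
  apply key
  apply hC
  rw [← hc, ← hc, hxy]

theorem ringHom_flat_of_refinement {A B C D : Type u} [CommRing A] [CommRing B] [CommRing C] [CommRing D]
    (φ : A →+* B) (ψ : B →+* C) (χ : C →+* D) (h₁ : (ψ.comp φ).Flat)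
    (h₂ : (χ.comp ψ).FaithfullyFlat) : φ.Flat := by
  algebraize [φ, ψ.comp φ, χ.comp ψ, χ.comp (ψ.comp φ)]
  have : IsScalarTower A B D := .of_algebraMap_eq' rfl
  exact algebra_flat_of_refinement (A := A) { ψ with commutes' := fun _ => rfl }
    { χ with commutes' := fun _ => rfl } (fun _ => rfl)

theorem faithfullyFlat_stalkMap {X Y : Scheme.{u}} (f : X ⟶ Y) [Flat f] (x : X) :
    (f.stalkMap x).hom.FaithfullyFlat := by
  have h := Flat.stalkMap f x
  algebraize [(f.stalkMap x).hom]
  have : IsLocalHom (algebraMap ↥(Y.presheaf.stalk (f x)) ↥(X.presheaf.stalk x)) := by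
    rw [RingHom.algebraMap_toAlgebra]; infer_instance
  exact Module.FaithfullyFlat.of_flat_of_isLocalHom

theorem flat_of_refinement {X Y Z Y' : Scheme.{u}} (f : X ⟶ Y) (q : Y ⟶ Z) (l : Y' ⟶ X)
    [Flat (l ≫ f)] [Surjective (l ≫ f)] [Flat (f ≫ q)] : Flat q := by
  refine Flat.of_stalkMap _ fun y => ?_
  obtain ⟨y', rfl⟩ := (l ≫ f).surjective y
  have h₁ := Flat.stalkMap (f ≫ q) (l y')
  have h₂ := faithfullyFlat_stalkMap (l ≫ f) y'
  rw [Scheme.Hom.stalkMap_comp] at h₁ h₂
  exact ringHom_flat_of_refinement _ _ _ h₁ h₂

theorem isReduced_of_flat_surjective {X Y : Scheme.{u}} (f : X ⟶ Y) [Flat f] [Surjective f]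
    [IsReduced X] : IsReduced Y := by
  have : ∀ y : Y, _root_.IsReduced (Y.presheaf.stalk y) := fun y => by
    obtain ⟨x, rfl⟩ := f.surjective y
    exact isReduced_of_injective _ (faithfullyFlat_stalkMap f x).injective
  exact isReduced_of_isReduced_stalk _

end Groth.Agent.H13Desc
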