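import Groth.Agent.H13Desc.QCohDescent
import Groth.Agent.H06Mod.StalkFinite
import Groth.Agent.H16Derived.KFlat.PerfCohLocal
import Groth.Agent.H16Derived.KFlat.PerfCoh
import Groth.Agent.H29Fitt.FreeLocal
import Groth.Agent.H22Alg.KModel
import Groth.Agent.H8Props.FunDescent.Stalk

/-!
# Finite type descends along flat, surjective, open morphisms, for arbitrary modules
-/

set_option autoImplicit false
set_option linter.style.haveILetI false
set_option backward.isDefEq.respectTransparency false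

universe u

open CategoryTheory CategoryTheory.Limits AlgebraicGeometry Opposite TopologicalSpace
open scoped TensorProduct

namespace Groth.Agent.H13Desc

attribute [local instance] H06Mod.stalkAlgebra

variable {X Y : Scheme.{u}}

/-- Generators of a restriction span the stalks. -/
theorem span_germs_of_generators (M : X.Modules) (U : X.Opens) (σ : (M.restrict U.ι).GeneratingSections)
    [Finite σ.I] :
    ∃ s : σ.I → Γ(M, U), ∀ (x : X) (hx : x ∈ U),
      Submodule.span (X.presheaf.stalk x) (Set.range fun j => M.presheaf.germ U x hx (s j)) = ⊤ := by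
  classical
  have := Fintype.ofFinite σ.I
  haveI : σ.IsFiniteType := ⟨inferInstanceAs (Finite σ.I)⟩
  let s : σ.I → Γ(M, U.ι ''ᵁ ⊤) := fun j =>
    (SheafOfModules.ιFree j ≫ σ.π : Coh.structureModule _ ⟶ M.restrict U.ι).app ⊤ (1 : Γ((U : Scheme.{u}), ⊤))
  refine ⟨fun j => M.presheaf.map (eqToHom U.ι_image_top.symm).op (s j), ?_⟩
  intro x hx
  obtain ⟨y, rfl⟩ : ∃ y : ↥(U : Scheme.{u}), U.ι y = x := ⟨⟨x, hx⟩, rfl⟩
  rw [eq_top_iff]
  rintro (m : M.presheaf.stalk (U.ι y)) -
  obtain ⟨a, rfl⟩ : ∃ a, (Scheme.Modules.restrictStalkNatIso U.ι y).hom.app M a = m :=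
    ⟨(Scheme.Modules.restrictStalkNatIso U.ι y).inv.app M m, by
      rw [← ConcreteCategory.comp_apply, ← NatTrans.comp_app, Iso.inv_hom_id]; rfl⟩
  have ha := H06Mod.exists_combination (M.restrict U.ι) σ y a
  induction ha using AddSubgroup.closure_induction with
  | mem z hz =>
    obtain ⟨W, hy, r, j, rfl⟩ := hz
    have h := congr($(Scheme.Modules.germ_restrictStalkNatIso_hom_app U.ι y M (U := W) hy)
      (r • (M.restrict U.ι).presheaf.map (homOfLE (le_top : W ≤ ⊤)).op
        ((SheafOfModules.ιFree j ≫ σ.π : Coh.structureModule _ ⟶ M.restrict U.ι).app ⊤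
          (1 : Γ((U : Scheme.{u}), ⊤)))))
    rw [ConcreteCategory.comp_apply] at h
    erw [h]
    rw [show (r • (M.restrict U.ι).presheaf.map (homOfLE (le_top : W ≤ ⊤)).op
        ((SheafOfModules.ιFree j ≫ σ.π : Coh.structureModule _ ⟶ M.restrict U.ι).app ⊤
          (1 : Γ((U : Scheme.{u}), ⊤))) : Γ(M.restrict U.ι, W))
        = ((U.ι.appIso W).inv r • M.presheaf.map (homOfLE (U.ι.image_mono le_top)).op (s j) :
          Γ(M, U.ι ''ᵁ W)) from rfl]
    rw [H06Mod.germ_smul, TopCat.Presheaf.germ_res_apply]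
    refine Submodule.smul_mem _ _ (Submodule.subset_span ⟨j, ?_⟩)
    exact TopCat.Presheaf.germ_res_apply _ _ _ _ _
  | zero => rw [map_zero]; exact zero_mem _
  | add a b _ _ ha hb => rw [map_add]; exact add_mem ha hb
  | neg a _ ha => erw [map_neg]; exact neg_mem ha

/-- Being a combination of given germs is an open condition. -/
theorem exists_nhd_mem_span (M : X.Modules) {U : X.Opens} {ι : Type} [Fintype ι] (a : ι → Γ(M, U))
    (t : Γ(M, U)) (x : X) (hx : x ∈ U)
    (h : M.presheaf.germ U x hx t ∈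
      Submodule.span (X.presheaf.stalk x) (Set.range fun j => M.presheaf.germ U x hx (a j))) :
    ∃ (V : X.Opens) (_ : x ∈ V) (hVU : V ≤ U) (r : ι → Γ(X, V)),
      M.presheaf.map (homOfLE hVU).op t = ∑ j, r j • M.presheaf.map (homOfLE hVU).op (a j) := by
  classical
  obtain ⟨c, hc⟩ := (Submodule.mem_span_range_iff_exists_fun (R := X.presheaf.stalk x)).mp h
  choose O hxO r hr using fun j => X.presheaf.exists_germ_eq (c j)
  let W : X.Opens := Finset.univ.inf O ⊓ U
  have hfin : x ∈ Finset.univ.inf O :=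
    Finset.inf_induction (p := fun V : X.Opens => x ∈ V) trivial (fun _ h₁ _ h₂ => ⟨h₁, h₂⟩)
      fun j _ => hxO j
  have hWO : ∀ j, W ≤ O j := fun j => inf_le_left.trans (Finset.inf_le (Finset.mem_univ j))
  have hWU : W ≤ U := inf_le_right
  have hxW : x ∈ W := ⟨hfin, hx⟩
  have heq : M.presheaf.germ W x hxW (M.presheaf.map (homOfLE hWU).op t) =
      M.presheaf.germ W x hxW (∑ j, X.presheaf.map (homOfLE (hWO j)).op (r j) •
        M.presheaf.map (homOfLE hWU).op (a j)) := by
    rw [TopCat.Presheaf.germ_res_apply, map_sum, ← hc]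
    refine Finset.sum_congr rfl fun j _ => ?_
    rw [H06Mod.germ_smul, TopCat.Presheaf.germ_res_apply, TopCat.Presheaf.germ_res_apply, hr]
  obtain ⟨V, hxV, i, i', hij⟩ := M.presheaf.germ_eq x hxW hxW _ _ heq
  refine ⟨V, hxV, (leOfHom i).trans hWU, fun j =>
    X.presheaf.map (homOfLE ((leOfHom i).trans (hWO j))).op (r j), ?_⟩
  rw [Subsingleton.elim i' i, map_sum] at hij
  refine (?_ : _ = M.presheaf.map i.op (M.presheaf.map (homOfLE hWU).op t)).trans (hij.trans ?_)
  · rw [← ConcreteCategory.comp_apply, ← Functor.map_comp]; rfl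
  refine Finset.sum_congr rfl fun j _ => ?_
  rw [Scheme.Modules.map_smul, ← ConcreteCategory.comp_apply, ← Functor.map_comp,
    ← ConcreteCategory.comp_apply, ← Functor.map_comp]
  rfl

/-- A local combination lifts to a free module. -/
theorem exists_preimage_freeHom (M : Y.Modules) (U : Y.Opens) {n : ℕ} (m : Fin n → Γ(M, U))
    {V : (U : Scheme.{u}).Opens} (t : Γ(M, U.ι ''ᵁ V)) {V'' : Y.Opens} (hle : V'' ≤ U.ι ''ᵁ V)
    (r : Fin n → Γ(Y, V'')) {z : (U : Scheme.{u})} (hz : U.ι z ∈ V'') (hVU : U.ι ''ᵁ V ≤ U)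
    (hr : M.presheaf.map (homOfLE hle).op t =
      ∑ j, r j • M.presheaf.map (homOfLE hle).op (M.presheaf.map (homOfLE hVU).op (m j))) :
    ∃ (D : (U : Scheme.{u}).Opens) (_ : z ∈ D) (hDV : D ≤ V)
      (a : Γ(FlatMod.freeMod (U : Scheme.{u}) n, D)),
      (H29Fitt.freeHom (M.restrict U.ι) fun j =>
        (M.restrictAppIso U.ι ⊤).inv (M.presheaf.map (eqToHom U.ι_image_top).op (m j))).app D a =
          (M.restrict U.ι).presheaf.map (homOfLE hDV).op t := by
  let N := M.restrict U.ι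
  let D : (U : Scheme.{u}).Opens := U.ι ⁻¹ᵁ V''
  have hD : U.ι ''ᵁ D = V'' := by
    rw [Scheme.Hom.image_preimage_eq_opensRange_inf, Scheme.Opens.opensRange_ι]
    exact inf_eq_right.2 (hle.trans hVU)
  have hDV : D ≤ V := by
    intro w hw
    obtain ⟨w', hw', e⟩ := hle hw
    exact U.ι.isOpenEmbedding.injective e ▸ hw'
  have hDU : U.ι ''ᵁ D ≤ U := hD.le.trans (hle.trans hVU)
  let r' : Fin n → Γ(Y, U.ι ''ᵁ D) := fun j => Y.presheaf.map (eqToHom hD).op (r j)
  refine ⟨D, hz, hDV, ∑ j, (U.ι.appIso D).hom (r' j) • H29Fitt.gen (U : Scheme.{u}) n j D, ?_⟩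
  have h2 : M.presheaf.map (eqToHom hD).op (M.presheaf.map (homOfLE hle).op t) =
      ∑ j, r' j • M.presheaf.map (homOfLE hDU).op (m j) := by
    rw [hr, map_sum]
    refine Finset.sum_congr rfl fun j _ => ?_
    rw [Scheme.Modules.map_smul]
    congr 1
    simp only [← ConcreteCategory.comp_apply, ← Functor.map_comp]
    rfl
  let i' : Γ(M, U.ι ''ᵁ D) →+ Γ(N, D) := (M.restrictAppIso U.ι D).inv.hom
  have h3 : N.presheaf.map (homOfLE hDV).op t =
      i' (M.presheaf.map (eqToHom hD).op (M.presheaf.map (homOfLE hle).op t)) := by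
    simp only [← ConcreteCategory.comp_apply, ← Functor.map_comp]
    rfl
  rw [h3, h2, map_sum, map_sum]
  refine Finset.sum_congr rfl fun j _ => ?_
  rw [Scheme.Modules.Hom.app_smul, H29Fitt.freeHom_gen]
  have h4 : N.presheaf.map (homOfLE (le_top : D ≤ ⊤)).op
      ((M.restrictAppIso U.ι ⊤).inv (M.presheaf.map (eqToHom U.ι_image_top).op (m j))) =
      i' (M.presheaf.map (homOfLE hDU).op (m j)) := by
    rw [← ConcreteCategory.comp_apply (M.restrictAppIso U.ι ⊤).inv,
      Scheme.Modules.restrictAppIso_inv_map, ConcreteCategory.comp_apply]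
    refine congrArg i' ?_
    rw [← ConcreteCategory.comp_apply, ← Functor.map_comp]
    rfl
  refine (congrArg ((U.ι.appIso D).hom (r' j) • ·) h4).trans ?_
  exact (Scheme.Modules.smul_restrictAppIso_inv_apply U.ι M D (r' j) _).symm

/-- Finite type from sections spanning all stalks. -/
theorem isFT_of_span (M : Y.Modules)
    (h : ∀ y : Y, ∃ (U : Y.Opens) (_ : y ∈ U) (n : ℕ) (m : Fin n → Γ(M, U)),
      ∀ (z : Y) (hz : z ∈ U),
        Submodule.span (Y.presheaf.stalk z) (Set.range fun j => M.presheaf.germ U z hz (m j)) = ⊤) :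
    CohB1.IsFT M := by
  refine H16Derived.KFlat.Stalk.isFT_of_local fun y => ?_
  obtain ⟨U, hyU, n, m, hm⟩ := h y
  refine ⟨_, U.ι, inferInstance, ⟨⟨y, hyU⟩, rfl⟩, ?_⟩
  let N := M.restrict U.ι
  let g : Fin n → Γ(N, ⊤) := fun j =>
    (M.restrictAppIso U.ι ⊤).inv (M.presheaf.map (eqToHom U.ι_image_top).op (m j))
  suffices Epi (H29Fitt.freeHom N g) from
    H16Derived.KFlat.Stalk.isFT_of_epi (H29Fitt.freeHom N g)
      (H29Fitt.isFT_of_isFP _ (H8Props.FinLocFree.isFP_of_isFinLocFree _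
        (H22Alg.KModel.finLocFree_free n)))
  refine (H8Props.FunDescent.epi_iff _).mpr fun z b => ?_
  obtain ⟨V, hzV, t, rfl⟩ := N.presheaf.exists_germ_eq b
  let V' : Y.Opens := U.ι ''ᵁ V
  have hz' : U.ι z ∈ V' := ⟨z, hzV, rfl⟩
  have hV'U : V' ≤ U := by rintro _ ⟨w, -, rfl⟩; exact w.2
  have hspan : M.presheaf.germ V' (U.ι z) hz' t ∈ Submodule.span (Y.presheaf.stalk (U.ι z))
      (Set.range fun j => M.presheaf.germ V' (U.ι z) hz' (M.presheaf.map (homOfLE hV'U).op (m j))) := by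
    simp only [TopCat.Presheaf.germ_res_apply]
    rw [hm]
    trivial
  obtain ⟨V'', hzV'', hle, r, hr⟩ := exists_nhd_mem_span M _ t _ hz' hspan
  obtain ⟨D, hzD, hDV, a, key⟩ := exists_preimage_freeHom M U m t hle (fun j => r j) hzV'' hV'U hr
  refine ⟨(FlatMod.freeMod (U : Scheme.{u}) n).presheaf.germ D z hzD a, ?_⟩
  rw [H06Mod.stalkLin_germ]
  rw [key]
  exact TopCat.Presheaf.germ_res_apply _ _ _ _ _

/-- Finite type descends along flat, surjective, open morphisms. -/
theorem isFT_of_pullback (f : X ⟶ Y) [Flat f] [Surjective f] (hf : IsOpenMap f.base) (F : Y.Modules)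
    (h : CohB1.IsFT ((Scheme.Modules.pullback f).obj F)) : CohB1.IsFT F := by
  classical
  refine isFT_of_span F fun y => ?_
  obtain ⟨x, rfl⟩ := f.surjective y
  let P := (Scheme.Modules.pullback f).obj F
  obtain ⟨W, hxW, σ, hσ⟩ := H10Coh.exists_generators_nhd P h x
  obtain ⟨s, hs⟩ := span_germs_of_generators P W σ
  haveI := Fintype.ofFinite σ.I
  -- finitely many germs of `F` whose pullbacks give the germs of the generators
  have hrep : ∀ j, ∃ S : Finset (X.presheaf.stalk x × F.presheaf.stalk (f x)),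
      P.presheaf.germ W x hxW (s j) = ∑ p ∈ S, p.1 • H06Mod.pullStalk f F x p.2 := fun j => by
    obtain ⟨z, hz⟩ := (H06Mod.pullStalkLin_bijective f F x).2 (P.presheaf.germ W x hxW (s j))
    obtain ⟨S, hS⟩ := TensorProduct.exists_finset z
    refine ⟨S, hz.symm.trans ?_⟩
    rw [hS, map_sum]
    exact Finset.sum_congr rfl fun p _ => H06Mod.pullStalkLin_tmul f F x p.1 p.2
  choose S hS using hrep
  let T : Finset (F.presheaf.stalk (f x)) := Finset.univ.biUnion fun j => (S j).image Prod.snd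
  choose O hO ν hν using fun q : T => F.presheaf.exists_germ_eq q.1
  let n := T.card
  let e : Fin n ≃ T := T.equivFin.symm
  let U : Y.Opens := Finset.univ.inf fun k => O (e k)
  have hyU : f x ∈ U := Finset.inf_induction (p := fun V : Y.Opens => f x ∈ V) trivial
    (fun _ h₁ _ h₂ => ⟨h₁, h₂⟩) fun k _ => hO (e k)
  have hUO : ∀ k, U ≤ O (e k) := fun k => Finset.inf_le (Finset.mem_univ k)
  let m : Fin n → Γ(F, U) := fun k => F.presheaf.map (homOfLE (hUO k)).op (ν (e k))
  let W₁ : X.Opens := W ⊓ f ⁻¹ᵁ U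
  have hxW₁ : x ∈ W₁ := ⟨hxW, hyU⟩
  let a : Fin n → Γ(P, W₁) := fun k =>
    P.presheaf.map (homOfLE (inf_le_right : W₁ ≤ f ⁻¹ᵁ U)).op (OmegaSh.pullSect f F U (m k))
  have hnhd : ∀ j, ∃ (V : X.Opens) (_ : x ∈ V) (hV : V ≤ W₁) (r : Fin n → Γ(X, V)),
      P.presheaf.map (homOfLE hV).op (P.presheaf.map (homOfLE (inf_le_left : W₁ ≤ W)).op (s j)) =
        ∑ k, r k • P.presheaf.map (homOfLE hV).op (a k) := by
    intro j
    refine exists_nhd_mem_span P a _ x hxW₁ ?_
    rw [TopCat.Presheaf.germ_res_apply, hS j]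
    refine Submodule.sum_mem _ fun p hp => Submodule.smul_mem _ _ (Submodule.subset_span ?_)
    have hpT : p.2 ∈ T := Finset.mem_biUnion.mpr ⟨j, Finset.mem_univ _, Finset.mem_image.mpr ⟨p, hp, rfl⟩⟩
    refine ⟨e.symm ⟨p.2, hpT⟩, ?_⟩
    show P.presheaf.germ W₁ x hxW₁ (P.presheaf.map _ _) = _
    rw [TopCat.Presheaf.germ_res_apply, ← H06Mod.pullStalk_germ f F x U hyU]
    congr 1
    show F.presheaf.germ U (f x) hyU (F.presheaf.map _ _) = p.2
    rw [TopCat.Presheaf.germ_res_apply, hν, Equiv.apply_symm_apply]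
  choose V hxV hV r hr using hnhd
  let W' : X.Opens := Finset.univ.inf V ⊓ W₁
  have hxW' : x ∈ W' := ⟨Finset.inf_induction (p := fun V : X.Opens => x ∈ V) trivial
    (fun _ h₁ _ h₂ => ⟨h₁, h₂⟩) fun j _ => hxV j, hxW₁⟩
  let U' : Y.Opens := ⟨f '' (W' : Set X), hf _ W'.isOpen⟩
  have hU' : U' ≤ U := by
    rintro _ ⟨w, hw, rfl⟩
    exact hw.2.2
  refine ⟨U', ⟨x, hxW', rfl⟩, n, fun k => F.presheaf.map (homOfLE hU').op (m k), ?_⟩
  rintro _ ⟨w, hw, rfl⟩
  haveI := H06Mod.faithfullyFlat_stalk f w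
  have hwW : w ∈ W := hw.2.1
  have hwU : f w ∈ U := hw.2.2
  let N : Submodule (Y.presheaf.stalk (f w)) (F.presheaf.stalk (f w)) :=
    Submodule.span _ (Set.range fun k => F.presheaf.germ U (f w) hwU (m k))
  suffices N = ⊤ by simpa only [TopCat.Presheaf.germ_res_apply] using this
  -- the base change of `N` is everything
  have hsurj : Function.Surjective (N.subtype.lTensor (X.presheaf.stalk w)) := by
    let L : X.presheaf.stalk w ⊗[Y.presheaf.stalk (f w)] N →ₗ[X.presheaf.stalk w]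
        P.presheaf.stalk w := H06Mod.pullStalkLin f F w ∘ₗ N.subtype.baseChange (X.presheaf.stalk w)
    have hL : Function.Surjective L := by
      rw [← LinearMap.range_eq_top, eq_top_iff, ← hs w hwW, Submodule.span_le]
      rintro _ ⟨j, rfl⟩
      have hwV : w ∈ V j := Finset.inf_le (s := Finset.univ) (f := V) (Finset.mem_univ j) hw.1
      have h1 := congrArg (P.presheaf.germ (V j) w hwV) (hr j)
      rw [TopCat.Presheaf.germ_res_apply, TopCat.Presheaf.germ_res_apply, map_sum] at h1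
      show P.presheaf.germ W w hwW (s j) ∈ LinearMap.range L
      rw [h1]
      refine Submodule.sum_mem _ fun k _ => ?_
      rw [H06Mod.germ_smul]
      refine Submodule.smul_mem _ _ ⟨(1 : X.presheaf.stalk w) ⊗ₜ
        ⟨F.presheaf.germ U (f w) hwU (m k), Submodule.subset_span ⟨_, rfl⟩⟩, ?_⟩
      show H06Mod.pullStalkLin f F w ((1 : X.presheaf.stalk w) ⊗ₜ F.presheaf.germ U (f w) hwU (m k)) = _
      rw [H06Mod.pullStalkLin_tmul, one_smul, H06Mod.pullStalk_germ, TopCat.Presheaf.germ_res_apply,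
        TopCat.Presheaf.germ_res_apply]
    intro z
    obtain ⟨b, hb⟩ := hL (H06Mod.pullStalkLin f F w z)
    refine ⟨b, ?_⟩
    rw [← LinearMap.baseChange_eq_ltensor]
    exact (H06Mod.pullStalkLin_bijective f F w).1 hb
  have := (Module.FaithfullyFlat.lTensor_surjective_iff_surjective _ (X.presheaf.stalk w) N.subtype).mp hsurj
  rw [← Submodule.range_subtype N, LinearMap.range_eq_top]
  exact this

end Groth.Agent.H13Desc
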