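import Mathlib.AlgebraicGeometry.Sites.Fpqc
import Mathlib.AlgebraicGeometry.Morphisms.Descent

universe w u

open CategoryTheory CategoryTheory.Limits AlgebraicGeometry

namespace Groth.Agent.H13Desc

variable {ι : Type w} {S : Scheme.{u}} {X : ι → Scheme.{u}} {f : ∀ i, X i ⟶ S}

theorem fpqc_flat (hf : Presieve.ofArrows X f ∈ Scheme.fpqcPrecoverage S) (i : ι) : Flat (f i) :=
  ((Scheme.ofArrows_mem_precoverage_iff (P := @Flat)).mp hf.2).2 i

theorem fpqc_covers (hf : Presieve.ofArrows X f ∈ Scheme.fpqcPrecoverage S) (x : S) :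
    ∃ i, x ∈ Set.range (f i) :=
  ((Scheme.ofArrows_mem_precoverage_iff (P := @Flat)).mp hf.2).1 x

theorem fpqc_quasiCompactCover (hf : Presieve.ofArrows X f ∈ Scheme.fpqcPrecoverage S) :
    QuasiCompactCover (PreZeroHypercover.mk ι X f) :=
  Scheme.presieve₀_mem_qcPrecoverage_iff.mp hf.1

/-- Over an affine (more generally compact) open, an fpqc family is refined by a finite affine one. -/
theorem fpqc_exists_affine_refinement (hf : Presieve.ofArrows X f ∈ Scheme.fpqcPrecoverage S)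
    (U : S.Opens) (hU : IsAffineOpen U) :
    ∃ (n : ℕ) (a : Fin n → ι) (V : ∀ k, (X (a k)).Opens) (g : ∀ k, (V k).toScheme ⟶ U.toScheme),
      (∀ k, IsAffineOpen (V k)) ∧ (∀ k, g k ≫ U.ι = (V k).ι ≫ f (a k)) ∧
      Flat (Sigma.desc g) ∧ Surjective (Sigma.desc g) ∧ QuasiCompact (Sigma.desc g) := by
  have := fpqc_quasiCompactCover hf
  obtain ⟨n, a, V, hV, h⟩ := QuasiCompactCover.exists_isAffineOpen_of_isCompact
    (PreZeroHypercover.mk ι X f) hU.isCompact
  have hle : ∀ k, V k ≤ (f (a k)) ⁻¹ᵁ U := fun k x hx => by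
    show f (a k) x ∈ (U : Set S)
    rw [← h]; exact Set.mem_iUnion.mpr ⟨k, ⟨x, hx, rfl⟩⟩
  let g : ∀ k, (V k).toScheme ⟶ U.toScheme := fun k => (f (a k)).resLE U (V k) (hle k)
  refine ⟨n, a, V, g, hV, fun k => (f (a k)).resLE_comp_ι _, ?_, ?_, ?_⟩
  · have : ∀ k, Flat (g k) := fun k => by
      have := fpqc_flat hf (a k)
      infer_instance
    infer_instance
  · refine ⟨fun x => ?_⟩
    have hx : U.ι x ∈ (U : Set S) := x.2
    rw [← h] at hx
    obtain ⟨k, v, hv, hvx⟩ := Set.mem_iUnion.mp hx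
    let v' : (V k).toScheme := ⟨v, hv⟩
    refine ⟨Sigma.ι (fun k => (V k).toScheme) k v', ?_⟩
    apply U.ι.isOpenEmbedding.injective
    calc U.ι (Sigma.desc g (Sigma.ι (fun k => (V k).toScheme) k v'))
        = (Sigma.ι (fun k => (V k).toScheme) k ≫ Sigma.desc g ≫ U.ι) v' := rfl
      _ = ((V k).ι ≫ f (a k)) v' := by rw [Sigma.ι_desc_assoc, (f (a k)).resLE_comp_ι (hle k)]
      _ = U.ι x := hvx
  · have : IsAffine U.toScheme := hU
    have : ∀ k, IsAffine (V k).toScheme := hV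
    infer_instance

/-- Sets with open preimages along an fpqc family are open. -/
theorem isOpen_of_fpqc (hf : Presieve.ofArrows X f ∈ Scheme.fpqcPrecoverage S) (s : Set S)
    (hs : ∀ i, IsOpen (f i ⁻¹' s)) : IsOpen s := by
  rw [isOpen_iff_forall_mem_open]
  intro x hxs
  obtain ⟨_, ⟨U : S.Opens, hU, rfl⟩, hxU, -⟩ :=
    S.isBasis_affineOpens.exists_subset_of_mem_open (Set.mem_univ x) isOpen_univ
  obtain ⟨n, a, V, g, -, hg, _, _, _⟩ := fpqc_exists_affine_refinement hf U hU
  have hq := (Flat.isQuotientMap_of_surjective (Sigma.desc g)).isOpen_preimage (s := U.ι ⁻¹' s)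
  have ho : IsOpen (U.ι ⁻¹' s) := by
    apply hq.mp
    rw [(sigmaOpenCover fun k => (V k).toScheme).isOpenCover_opensRange.isOpen_iff_inter]
    intro (k : Fin n)
    rw [Scheme.Hom.coe_opensRange, ← Set.image_preimage_eq_inter_range]
    apply (Scheme.Hom.isOpenEmbedding (Sigma.ι (fun k => (V k).toScheme) k)).isOpenMap
    have e : (Sigma.ι (fun k => (V k).toScheme) k ≫ Sigma.desc g ≫ U.ι) = (V k).ι ≫ f (a k) := by
      rw [Sigma.ι_desc_assoc, hg]
    have := (hs (a k)).preimage (V k).ι.continuous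
    rw [← Set.preimage_comp, ← TopCat.coe_comp, ← Scheme.Hom.comp_base, ← e] at this
    exact this
  exact ⟨U.ι '' (U.ι ⁻¹' s), Set.image_preimage_subset _ _, U.ι.isOpenEmbedding.isOpenMap _ ho,
    ⟨⟨x, hxU⟩, hxs, rfl⟩⟩

/-- A Zariski-local property descending along fpqc surjections is fpqc local on the target. -/
theorem of_fpqc_target (P : MorphismProperty Scheme.{u}) [IsZariskiLocalAtTarget P]
    [P.DescendsAlong (@Surjective ⊓ @Flat ⊓ @QuasiCompact : MorphismProperty Scheme.{u})]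
    (hf : Presieve.ofArrows X f ∈ Scheme.fpqcPrecoverage S) {T : Scheme.{u}} (q : T ⟶ S)
    (h : ∀ i, P (pullback.snd q (f i))) : P q := by
  refine IsZariskiLocalAtTarget.of_iSup_eq_top (fun U : S.affineOpens => (U : S.Opens))
    (iSup_affineOpens_eq_top S) fun ⟨U, hU⟩ => ?_
  obtain ⟨n, a, V, g, -, hg, hfl, hsu, hqc⟩ := fpqc_exists_affine_refinement hf U hU
  refine MorphismProperty.of_pullback_snd_of_descendsAlong (g := Sigma.desc g)
    (Q := @Surjective ⊓ @Flat ⊓ @QuasiCompact) ⟨⟨hsu, hfl⟩, hqc⟩ ?_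
  rw [IsZariskiLocalAtTarget.iff_of_openCover (P := P) (sigmaOpenCover fun k => (V k).toScheme)]
  intro (k : Fin n)
  have e : (Sigma.ι (fun k => (V k).toScheme) k ≫ Sigma.desc g) ≫ U.ι = (V k).ι ≫ f (a k) := by
    rw [Category.assoc, Sigma.ι_desc_assoc, hg]
  have s2 := IsPullback.of_hasPullback (q ∣_ U) (Sigma.desc g)
  have s3 := IsPullback.of_hasPullback (pullback.snd (q ∣_ U) (Sigma.desc g))
    (Sigma.ι (fun k => (V k).toScheme) k)
  have big := (s3.paste_horiz s2).paste_horiz (isPullback_morphismRestrict q U).flip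
  rw [e] at big
  have s4 := IsPullback.of_hasPullback (pullback.snd q (f (a k))) (V k).ι
  have big' := s4.paste_horiz (IsPullback.of_hasPullback q (f (a k)))
  have h4 : P (pullback.snd (pullback.snd q (f (a k))) (V k).ι) :=
    IsZariskiLocalAtTarget.of_isPullback s4 (h (a k))
  rw [← IsPullback.isoIsPullback_hom_snd _ _ big' big, P.cancel_left_of_respectsIso] at h4
  exact h4

end Groth.Agent.H13Desc
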