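import Groth.Prelude.Def_Mor2
import Groth.Agent.H11QAff.Basic
import Groth.Agent.H18Descent.Basic
import Mathlib.AlgebraicGeometry.Morphisms.FlatDescent
import Mathlib.AlgebraicGeometry.QuasiAffine

/-!
# fpqc descent of quasi-affine morphisms
-/

set_option autoImplicit false
universe u

open CategoryTheory CategoryTheory.Limits AlgebraicGeometry MorphismProperty TopologicalSpace

namespace Groth.Agent.H13Desc.QuasiAffineDescent

open Groth.Agent

/-- quasi-affine morphisms, as a morphism property -/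
abbrev qAff : MorphismProperty Scheme.{u} := fun _ _ f => Mor2.IsQuasiAffine f

lemma isQuasiAffine_top {X Y : Scheme.{u}} [IsAffine Y] (f : X ⟶ Y) (hf : Mor2.IsQuasiAffine f) :
    X.IsQuasiAffine := by
  have := hf.2 ⊤ (isAffineOpen_top Y)
  exact H11QAff.isQuasiAffine_of_iso (X.topIso.symm ≪≫ X.isoOfEq (by simp : (⊤ : X.Opens) = f ⁻¹ᵁ ⊤))

lemma of_isQuasiAffine {X Y : Scheme.{u}} [IsAffine Y] (f : X ⟶ Y) [X.IsQuasiAffine] :
    Mor2.IsQuasiAffine f :=
  H11QAff.isQuasiAffine_of_cover f fun y => ⟨⊤, isAffineOpen_top Y, trivial,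
    H11QAff.isQuasiAffine_of_iso X.topIso⟩

instance : (qAff.{u}).RespectsIso := by
  refine RespectsIso.mk _ (fun e f hf => ?_) (fun e f hf => ?_)
  · exact H11QAff.comp _ _ (H11QAff.of_isImmersion e.hom) hf
  · exact H11QAff.comp _ _ hf (H11QAff.of_isImmersion e.hom)

instance : (qAff.{u}).IsStableUnderBaseChange := by
  refine IsStableUnderBaseChange.mk' (P := qAff) fun X Y S f g _ hg => ?_
  have h1 := H11QAff.baseChange g hg f
  rw [← pullbackSymmetry_hom_comp_snd f g]
  exact H11QAff.comp _ _ (H11QAff.of_isImmersion _) h1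

instance : IsZariskiLocalAtTarget (qAff.{u}) := by
  refine IsZariskiLocalAtTarget.mk' (fun {X Y} f U hf => ?_) (fun {X Y} f ι U hU h => ?_)
  · exact MorphismProperty.of_isPullback (P := qAff) (isPullback_morphismRestrict f U).flip hf
  · refine H11QAff.isQuasiAffine_of_cover f fun y => ?_
    obtain ⟨i, hi⟩ := Opens.mem_iSup.mp (hU.ge (Set.mem_univ y) : y ∈ iSup U)
    obtain ⟨V, hV, hyV, hle⟩ := exists_isAffineOpen_mem_and_subset (x := y) (U := U i) hi
    refine ⟨V, hV, hyV, ?_⟩
    let V' : (U i : Scheme.{u}).Opens := (U i).ι ⁻¹ᵁ V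
    have hV' : IsAffineOpen V' := hV.preimage_of_isOpenImmersion (U i).ι
      (by rw [Scheme.Opens.opensRange_ι]; exact hle)
    have h2 := (h i).2 V' hV'
    have e : (f ⁻¹ᵁ U i).ι ''ᵁ ((f ∣_ U i) ⁻¹ᵁ V') = f ⁻¹ᵁ V := by
      rw [image_morphismRestrict_preimage f (U i) V']
      congr 1
      rw [Scheme.Hom.image_preimage_eq_opensRange_inf, Scheme.Opens.opensRange_ι]
      exact inf_eq_right.2 hle
    rw [← e]
    exact H11QAff.isQuasiAffine_of_iso ((f ⁻¹ᵁ U i).ι.isoImage _).symm

set_option backward.isDefEq.respectTransparency.types false in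
instance qAff_descends_fpqc : DescendsAlong qAff.{u} H18Descent.fpqc.{u} := by
  apply IsZariskiLocalAtTarget.descendsAlong_inf_quasiCompact
  · rw [inf_comm]
    exact inf_le_inf le_rfl (IsLocalIso.le_of_isZariskiLocalAtSource _)
  intro R S Y φ g hφ hfst
  have hq : H18Descent.fpqc (Spec.map φ) := ⟨hφ, inferInstance⟩
  have hfst1 := hfst.1
  have : QuasiCompact g :=
    MorphismProperty.of_pullback_fst_of_descendsAlong (P := @QuasiCompact) (Q := H18Descent.fpqc) hq hfst1
  have hPq : (pullback (Spec.map φ) g).IsQuasiAffine := isQuasiAffine_top _ hfst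
  have : QuasiSeparated g :=
    MorphismProperty.of_pullback_fst_of_descendsAlong (P := @QuasiSeparated) (Q := H18Descent.fpqc) hq
      ((HasAffineProperty.iff_of_isAffine (P := @QuasiSeparated)).mpr inferInstance)
  have hYc : CompactSpace Y := QuasiCompact.compactSpace_of_compactSpace g
  have hYs : QuasiSeparatedSpace Y := (HasAffineProperty.iff_of_isAffine (P := @QuasiSeparated)).mp ‹_›
  have : Flat (Spec.map φ) := hφ.2
  have H : IsPullback (pullback.snd (Spec.map φ) g) (pullback.fst (Spec.map φ) g) g (Spec.map φ) :=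
    (IsPullback.of_hasPullback _ _).flip
  have hpo := (isIso_pushoutSection_iff H (US := ⊤) (UT := ⊤) (UX := ⊤) (UY := ⊤)
    (le_top.trans (by simp)) (le_top.trans (by simp)) (by simp)).mp
    (isIso_pushoutSection_of_isQuasiSeparated_of_flat_right _ _ _ _ (isAffineOpen_top _)
      (isAffineOpen_top _) isCompact_univ
      (by simpa using isQuasiSeparated_univ (α := Y)))
  simp only [Scheme.Hom.appLE] at hpo
  have hpo' : IsPushout g.appTop (Spec.map φ).appTop (pullback.snd (Spec.map φ) g).appTop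
      (pullback.fst (Spec.map φ) g).appTop := by
    simpa [Scheme.Hom.appTop] using hpo
  have hbot := isPullback_SpecMap_of_isPushout _ _ _ _ hpo'
  have hout : IsPullback (pullback.snd (Spec.map φ) g) (pullback.fst (Spec.map φ) g ≫ (Spec S).toSpecΓ)
      (g ≫ (Spec R).toSpecΓ) (Spec.map (Spec.map φ).appTop) := by
    refine IsPullback.of_iso H (Iso.refl _) (Iso.refl _) (asIso (Spec S).toSpecΓ)
      (asIso (Spec R).toSpecΓ) ?_ ?_ ?_ ?_ <;> simp [Scheme.toSpecΓ_naturality]
  rw [Scheme.toSpecΓ_naturality g, Scheme.toSpecΓ_naturality (pullback.fst (Spec.map φ) g)] at hout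
  have htop := IsPullback.of_bot hout (Scheme.toSpecΓ_naturality _) hbot
  have hsurj : Surjective (Spec.map (Spec.map φ).appTop) := by
    exact (MorphismProperty.arrow_mk_iso_iff @Surjective
      (arrowIsoSpecΓOfIsAffine (Spec.map φ))).mp hφ.1
  have hflat : Flat (Spec.map (Spec.map φ).appTop) := by
    exact (MorphismProperty.arrow_mk_iso_iff @Flat
      (arrowIsoSpecΓOfIsAffine (Spec.map φ))).mp hφ.2
  have hq' : H18Descent.fpqc (Spec.map (pullback.snd (Spec.map φ) g).appTop) :=
    MorphismProperty.of_isPullback hbot.flip ⟨⟨hsurj, hflat⟩, inferInstance⟩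
  have : IsOpenImmersion Y.toSpecΓ :=
    MorphismProperty.of_isPullback_of_descendsAlong (P := @IsOpenImmersion) (Q := H18Descent.fpqc)
      htop.flip hq' (inferInstanceAs <| IsOpenImmersion (pullback (Spec.map φ) g).toSpecΓ)
  have : Y.IsQuasiAffine := { }
  exact of_isQuasiAffine g

end Groth.Agent.H13Desc.QuasiAffineDescent
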