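import Groth.Agent.S7295
import Groth.Agent.S6184
import Groth.Prelude.Def_BigSite

/-!
# Exactness of inverse images between big and small sites
-/

set_option autoImplicit false
set_option linter.style.haveILetI false

universe u

open CategoryTheory CategoryTheory.Limits AlgebraicGeometry Opposite

namespace Groth.Agent.H13Desc.BigExact

variable (K : Precoverage Scheme.{u})

/-- An additive left adjoint between abelian categories preserving monomorphisms is exact. -/
theorem preservesFiniteLimits_of_adj {C D : Type*} [Category C] [Category D] [Abelian C] [Abelian D]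
    {L : C ⥤ D} {R : D ⥤ C} (adj : L ⊣ R) [L.Additive] [L.PreservesMonomorphisms] :
    PreservesFiniteLimits L := by
  haveI : PreservesColimitsOfSize.{0, 0} L := adj.leftAdjoint_preservesColimits
  haveI : L.PreservesHomology := Functor.preservesHomology_of_preservesMonos_and_cokernels _
  exact Functor.preservesFiniteLimits_of_preservesHomology _

section Shriek

variable {X Y : Scheme.{u}} (f : X ⟶ Y)

theorem preservesMonomorphisms_shriekAb : (BigSite.shriekAb K f).PreservesMonomorphisms := by
  haveI := Groth.Agent.S7295.preservesMonomorphisms_lan_overMap f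
  haveI : (Functor.sheafPullbackConstruction.sheafPullback (Over.map f) AddCommGrpCat.{u + 1}
      (QuotSh.J K X) (QuotSh.J K Y)).PreservesMonomorphisms := by
    haveI : (sheafToPresheaf (QuotSh.J K X) AddCommGrpCat.{u + 1}).PreservesMonomorphisms :=
      Functor.preservesMonomorphisms_of_adjunction (sheafificationAdjunction _ _)
    haveI : (presheafToSheaf (QuotSh.J K Y) AddCommGrpCat.{u + 1}).PreservesMonomorphisms :=
      preservesMonomorphisms_of_preservesLimitsOfShape _
    unfold Functor.sheafPullbackConstruction.sheafPullback; infer_instance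
  exact Functor.PreservesMonomorphisms.of_iso (Functor.sheafPullbackConstruction.sheafPullbackIso
    (Over.map f) AddCommGrpCat.{u + 1} (QuotSh.J K X) (QuotSh.J K Y)).symm

theorem preservesFiniteLimits_shriekAb : PreservesFiniteLimits (BigSite.shriekAb K f) := by
  haveI := preservesMonomorphisms_shriekAb K f
  haveI : (BigSite.shriekAb K f).Additive := (BigSite.shriekAbAdj K f).left_adjoint_additive
  exact preservesFiniteLimits_of_adj (BigSite.shriekAbAdj K f)

end Shriek

section Pi

variable (S : Scheme.{u}) [BigSite.AEtCont K S]

theorem representablyFlat_a : RepresentablyFlat (EtFppf.a S) := by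
  haveI : PreservesFiniteLimits (EtFppf.a S) :=
    inferInstanceAs (PreservesFiniteLimits (Scheme.Etale.forget S))
  exact flat_of_preservesFiniteLimits _

theorem preservesMonomorphisms_piEtPull : (BigSite.piEtPull K S).PreservesMonomorphisms := by
  haveI := representablyFlat_a S
  haveI : ((EtFppf.a S).op.lan : _ ⥤ _ ⥤ AddCommGrpCat.{u + 1}).PreservesMonomorphisms := by
    refine Groth.Agent.S7295.preservesMonomorphisms_lan_of_colim _ fun Z P Q φ hφ => ?_
    haveI : IsFiltered (CostructuredArrow (EtFppf.a S).op Z) :=
      IsFiltered.of_equivalence (structuredArrowOpEquivalence (EtFppf.a S) Z.unop)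
    haveI : Mono (Functor.whiskerLeft (CostructuredArrow.proj (EtFppf.a S).op Z) φ) :=
      @NatTrans.mono_of_mono_app _ _ _ _ _ _ _ fun x => inferInstanceAs (Mono (φ.app _))
    haveI := Groth.Agent.S7295.ab5'.{u}
    haveI : PreservesFiniteLimits (colim (J := CostructuredArrow (EtFppf.a S).op Z)
      (C := AddCommGrpCat.{u + 1})) := inferInstance
    exact (colim (J := CostructuredArrow (EtFppf.a S).op Z) (C := AddCommGrpCat.{u + 1})).map_mono _
  haveI : (Functor.sheafPullbackConstruction.sheafPullback (EtFppf.a S) AddCommGrpCat.{u + 1}
      S.smallEtaleTopology (QuotSh.J K S)).PreservesMonomorphisms := by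
    haveI : (sheafToPresheaf S.smallEtaleTopology AddCommGrpCat.{u + 1}).PreservesMonomorphisms :=
      Functor.preservesMonomorphisms_of_adjunction (sheafificationAdjunction _ _)
    haveI : (presheafToSheaf (QuotSh.J K S) AddCommGrpCat.{u + 1}).PreservesMonomorphisms :=
      preservesMonomorphisms_of_preservesLimitsOfShape _
    unfold Functor.sheafPullbackConstruction.sheafPullback; infer_instance
  exact Functor.PreservesMonomorphisms.of_iso (Functor.sheafPullbackConstruction.sheafPullbackIso
    (EtFppf.a S) AddCommGrpCat.{u + 1} S.smallEtaleTopology (QuotSh.J K S)).symm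

theorem preservesFiniteLimits_piEtPull : PreservesFiniteLimits (BigSite.piEtPull K S) := by
  haveI := preservesMonomorphisms_piEtPull K S
  haveI : (BigSite.piEtPull K S).Additive := (BigSite.piEtAdj K S).left_adjoint_additive
  exact preservesFiniteLimits_of_adj (BigSite.piEtAdj K S)

/-- Restriction to the small étale site is exact for the étale topology. -/
theorem resEt_exact : PreservesFiniteLimits (BigSite.resEt Scheme.etalePrecoverage S) ∧
    PreservesFiniteColimits (BigSite.resEt Scheme.etalePrecoverage S) := by
  haveI : PreservesLimitsOfSize.{0, 0} (BigSite.resEt Scheme.etalePrecoverage S) :=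
    (BigSite.piEtAdj Scheme.etalePrecoverage S).rightAdjoint_preservesLimits
  haveI : PreservesColimitsOfSize.{0, 0} (BigSite.resEt Scheme.etalePrecoverage S) :=
    (BigSite.iEtAdj Scheme.etalePrecoverage S).leftAdjoint_preservesColimits
  exact ⟨inferInstance, inferInstance⟩

end Pi

section Pull

variable {T S : Scheme.{u}} (f : T ⟶ S)

/-- Restriction along a morphism of schemes is exact on abelian sheaves of the big sites. -/
theorem pullBig_exact : PreservesFiniteLimits (BigSite.pullBig K f AddCommGrpCat.{u + 1}) ∧
    PreservesFiniteColimits (BigSite.pullBig K f AddCommGrpCat.{u + 1}) := by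
  haveI : PreservesLimitsOfSize.{0, 0} (BigSite.pullBig K f AddCommGrpCat.{u + 1}) :=
    (BigSite.shriekAbAdj K f).rightAdjoint_preservesLimits
  haveI : PreservesColimitsOfSize.{0, 0} (BigSite.pullBig K f AddCommGrpCat.{u + 1}) :=
    (BigSite.bigAdj K f AddCommGrpCat.{u + 1}).leftAdjoint_preservesColimits
  exact ⟨inferInstance, inferInstance⟩

theorem injective_pullBig (I : BigSite.Ab K S) [Injective I] :
    Injective ((BigSite.pullBig K f AddCommGrpCat.{u + 1}).obj I) := by
  haveI := preservesMonomorphisms_shriekAb K f
  exact Injective.injective_of_adjoint (BigSite.shriekAbAdj K f) I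

theorem injective_resEt [BigSite.AEtCont K S] (I : BigSite.Ab K S) [Injective I] :
    Injective ((BigSite.resEt K S).obj I) := by
  haveI := preservesMonomorphisms_piEtPull K S
  exact Injective.injective_of_adjoint (BigSite.piEtAdj K S) I

theorem injective_resEtAlong [BigSite.AEtCont K T] (I : BigSite.Ab K S) [Injective I] :
    Injective ((BigSite.resEtAlong K f).obj I) := by
  haveI := injective_pullBig K f I
  exact injective_resEt K ((BigSite.pullBig K f AddCommGrpCat.{u + 1}).obj I)

theorem resEtAlong_exact : PreservesFiniteLimits (BigSite.resEtAlong Scheme.etalePrecoverage f) ∧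
    PreservesFiniteColimits (BigSite.resEtAlong Scheme.etalePrecoverage f) := by
  obtain ⟨h1, h2⟩ := pullBig_exact Scheme.etalePrecoverage f
  obtain ⟨h3, h4⟩ := resEt_exact T
  exact ⟨comp_preservesFiniteLimits _ _, comp_preservesFiniteColimits _ _⟩

end Pull

end Groth.Agent.H13Desc.BigExact
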