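import Mathlib.CategoryTheory.Abelian.RightDerived
import Mathlib.Algebra.Homology.ShortComplex.ExactFunctor
import Mathlib.Algebra.Homology.QuasiIso

/-!
# Exact functors preserving injectives commute with right derived functors
-/

set_option autoImplicit false

open CategoryTheory CategoryTheory.Limits

namespace Groth.Agent.H13Desc.DerivedComm

universe v₁ v₂ v₃ v₄ u₁ u₂ u₃ u₄

variable {A : Type u₁} [Category.{v₁} A] [Abelian A] [HasInjectiveResolutions A]
  {B : Type u₂} [Category.{v₂} B] [Abelian B]
  {A' : Type u₃} [Category.{v₃} A'] [Abelian A'] [HasInjectiveResolutions A']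
  {B' : Type u₄} [Category.{v₄} B'] [Abelian B']
  (F : A ⥤ B) [F.Additive] (F' : A' ⥤ B') [F'.Additive]
  (G' : A ⥤ A') [G'.Additive] [PreservesFiniteLimits G'] [PreservesFiniteColimits G']
  (G : B ⥤ B') [G.Additive] [PreservesFiniteLimits G] [PreservesFiniteColimits G]

/-- The image of an injective resolution. -/
noncomputable def mapResolution (hinj : ∀ I : A, Injective I → Injective (G'.obj I)) {X : A}
    (I : InjectiveResolution X) : InjectiveResolution (G'.obj X) where
  cocomplex := (G'.mapHomologicalComplex _).obj I.cocomplex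
  injective n := hinj _ (I.injective n)
  ι := (HomologicalComplex.singleMapHomologicalComplex G' (ComplexShape.up ℕ) 0).inv.app X ≫
    (G'.mapHomologicalComplex _).map I.ι
  quasiIso := inferInstance

/-- `G (R^n F X) ≅ R^n F' (G' X)`. -/
theorem nonempty_iso (hinj : ∀ I : A, Injective I → Injective (G'.obj I)) (e : F ⋙ G ≅ G' ⋙ F')
    (n : ℕ) (X : A) : Nonempty (G.obj ((F.rightDerived n).obj X) ≅ (F'.rightDerived n).obj (G'.obj X)) := by
  obtain ⟨I⟩ : Nonempty (InjectiveResolution X) := HasInjectiveResolution.out
  let K := (F.mapHomologicalComplex _).obj I.cocomplex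
  let e₁ : (G.mapHomologicalComplex _).obj K ≅
      (F'.mapHomologicalComplex _).obj (mapResolution G' hinj I).cocomplex :=
    HomologicalComplex.Hom.isoOfComponents (fun i => e.app (I.cocomplex.X i))
      (fun i j _ => (e.hom.naturality (I.cocomplex.d i j)).symm)
  exact ⟨G.mapIso (I.isoRightDerivedObj F n) ≪≫ ((K.sc n).mapHomologyIso G).symm ≪≫
    (HomologicalComplex.homologyFunctor B' _ n).mapIso e₁ ≪≫
    ((mapResolution G' hinj I).isoRightDerivedObj F' n).symm⟩

end Groth.Agent.H13Desc.DerivedComm
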