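import Groth.Agent.H12AlgSp.LargeFieldLift
import Mathlib.AlgebraicGeometry.Morphisms.FormallyUnramified
import Mathlib.AlgebraicGeometry.Morphisms.Etale
import Mathlib.AlgebraicGeometry.Fiber
import Mathlib.RingTheory.Etale.Field
import Mathlib.RingTheory.AlgebraicIndependent.TranscendenceBasis
import Mathlib.RingTheory.AlgebraicIndependent.Transcendental

/-!
Fibres in etale squares.
-/

universe u

open CategoryTheory CategoryTheory.Limits AlgebraicGeometry

namespace Groth.Agent.H13Desc

theorem etale_SpecMap_residueFieldMap {X Y : Scheme.{u}} (f : X ⟶ Y) [Etale f] (x : X) :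
    Etale (Spec.map (f.residueFieldMap x)) := by
  have hfin := Groth.Agent.H12AlgSp.finite_residueFieldMap_etale f x
  have hsep : letI := (f.residueFieldMap x).hom.toAlgebra
      Algebra.IsSeparable (Y.residueField (f x)) (X.residueField x) := inferInstance
  rw [HasRingHomProperty.Spec_iff (P := @Etale)]
  algebraize [(f.residueFieldMap x).hom]
  have : Module.Finite (Y.residueField (f x)) (X.residueField x) := hfin
  have := hsep
  have : Algebra.Etale (Y.residueField (f x)) (X.residueField x) := ⟨(Algebra.FormallyEtale.iff_isSeparable _ _).2 inferInstance, Algebra.FinitePresentation.of_finiteType.1 inferInstance⟩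
  exact RingHom.etale_algebraMap.2 this

/-- The map of fibres in an etale square is etale. -/
theorem etale_fiberMap {U U' V V' : Scheme.{u}} (h : U ⟶ V) (h' : U' ⟶ V') (a : U' ⟶ U)
    (b : V' ⟶ V) [Etale a] [Etale b] (comm : h' ≫ b = a ≫ h) (v' : V')
    (φ : h'.fiber v' ⟶ h.fiber (b v')) (hφ1 : φ ≫ h.fiberι (b v') = h'.fiberι v' ≫ a)
    (hφ2 : φ ≫ h.fiberToSpecResidueField (b v') = h'.fiberToSpecResidueField v' ≫ Spec.map (b.residueFieldMap v')) :
    Etale φ := by
  let a' : U' ⟶ pullback h b := pullback.lift a h' comm.symm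
  have h1 : Etale (pullback.fst h b) := inferInstance
  have : Etale (a' ≫ pullback.fst h b) := by rw [pullback.lift_fst]; infer_instance
  have : Etale a' := Etale.of_comp a' (pullback.fst h b)
  have sqI := isPullback_fiberToSpecResidueField_of_isPullback (IsPullback.of_hasPullback h b) v'
  set q₁ := pullback.map (pullback.snd h b) (V'.fromSpecResidueField v') h (V.fromSpecResidueField (b v'))
    (pullback.fst h b) (Spec.map (b.residueFieldMap v')) b pullback.condition.symm (by simp) with hq₁
  have := etale_SpecMap_residueFieldMap b v'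
  have hq : Etale q₁ := MorphismProperty.of_isPullback (P := @Etale) sqI.flip this
  let ψ : h'.fiber v' ⟶ (pullback.snd h b).fiber v' :=
    pullback.map h' (V'.fromSpecResidueField v') (pullback.snd h b) (V'.fromSpecResidueField v') a' (𝟙 _) (𝟙 _)
      (by rw [Category.comp_id, pullback.lift_snd]) (by simp)
  have sqψ : IsPullback (h'.fiberι v') ψ a' ((pullback.snd h b).fiberι v') := by
    refine IsPullback.of_bot ?_ (pullback.lift_fst _ _ _).symm
      (IsPullback.of_hasPullback (pullback.snd h b) (V'.fromSpecResidueField v'))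
    have e1 : ψ ≫ pullback.snd (pullback.snd h b) (V'.fromSpecResidueField v') = h'.fiberToSpecResidueField v' :=
      (pullback.lift_snd _ _ _).trans (Category.comp_id _)
    have e2 : a' ≫ pullback.snd h b = h' := pullback.lift_snd _ _ _
    rw [e1, e2]
    exact IsPullback.of_hasPullback h' (V'.fromSpecResidueField v')
  have hψ : Etale ψ := MorphismProperty.of_isPullback (P := @Etale) sqψ (inferInstanceAs (Etale a'))
  have e : φ = ψ ≫ q₁ := by
    refine pullback.hom_ext ?_ ?_
    · refine hφ1.trans ?_
      exact ((Category.assoc _ _ _).trans ((congrArg (ψ ≫ ·) (pullback.lift_fst _ _ _)).trans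
        ((reassoc_of% (pullback.lift_fst _ _ _ : ψ ≫ (pullback.snd h b).fiberι v' = h'.fiberι v' ≫ a')) _ |>.trans
          (congrArg (h'.fiberι v' ≫ ·) (pullback.lift_fst _ _ _))))).symm
    · refine hφ2.trans ?_
      exact ((Category.assoc _ _ _).trans ((congrArg (ψ ≫ ·) (pullback.lift_snd _ _ _)).trans
        ((Category.assoc _ _ _).symm.trans (congrArg (· ≫ Spec.map (b.residueFieldMap v'))
          ((pullback.lift_snd _ _ _).trans (Category.comp_id _)))))).symm
  rw [e]
  exact MorphismProperty.comp_mem (W := @Etale) ψ q₁ hψ hq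

/-- The transcendence degree of the residue field extension at a point. -/
noncomputable def resTrdeg' {X Y : Scheme.{u}} (f : X ⟶ Y) (x : X) : Cardinal.{u} :=
  @Algebra.trdeg (Y.residueField (f x)) (X.residueField x) _ _ (f.residueFieldMap x).hom.toAlgebra

theorem resTrdeg'_comp {X Y Z : Scheme.{u}} (f : X ⟶ Y) (g : Y ⟶ Z) (x : X) :
    resTrdeg' (f ≫ g) x = resTrdeg' g (f x) + resTrdeg' f x := by
  let a1 : Algebra (Z.residueField (g (f x))) (Y.residueField (f x)) := (g.residueFieldMap (f x)).hom.toAlgebra
  let a2 : Algebra (Y.residueField (f x)) (X.residueField x) := (f.residueFieldMap x).hom.toAlgebra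
  let a3 : Algebra (Z.residueField (g (f x))) (X.residueField x) := ((f ≫ g).residueFieldMap x).hom.toAlgebra
  have : IsScalarTower (Z.residueField (g (f x))) (Y.residueField (f x)) (X.residueField x) :=
    .of_algebraMap_eq fun r => ConcreteCategory.congr_hom (Scheme.residueFieldMap_comp f g x) r
  exact (trdeg_add_eq (A := X.residueField x) (Z.residueField (g (f x))) (Y.residueField (f x))).symm

theorem resTrdeg'_of_etale {X Y : Scheme.{u}} (f : X ⟶ Y) [Etale f] (x : X) : resTrdeg' f x = 0 := by
  let a : Algebra (Y.residueField (f x)) (X.residueField x) := (f.residueFieldMap x).hom.toAlgebra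
  have : Module.Finite (Y.residueField (f x)) (X.residueField x) :=
    Groth.Agent.H12AlgSp.finite_residueFieldMap_etale f x
  exact trdeg_eq_zero

end Groth.Agent.H13Desc
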