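import Groth.Agent.H13Inf.Basic
import Groth.Agent.H12AlgSp.Points

/-!
Colimits of schemes with effective etale descent are colimits of algebraic spaces.
-/

set_option backward.isDefEq.respectTransparency false
set_option linter.style.haveILetI false

universe w v u

open CategoryTheory CategoryTheory.Limits AlgebraicGeometry Opposite
open AlgSp Groth.Agent.H12AlgSp

namespace Groth.Agent.H13EffColim

variable {S : Scheme.{u}}

/-- A coproduct of separated schemes over a base is separated. -/
theorem isSeparated_sigmaDesc {ι : Type u} {X : ι → Scheme.{u}} {B : Scheme.{u}} (f : ∀ i, X i ⟶ B)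
    (hf : ∀ i, IsSeparated (f i)) : IsSeparated (Sigma.desc f) := by
  let d := Sigma.desc f
  refine ⟨IsClosedImmersion.of_isPreimmersion _ ?_⟩
  rw [← isOpen_compl_iff, isOpen_iff_forall_mem_open]
  intro w hw
  obtain ⟨i, x, hx⟩ := (sigmaOpenCover X).exists_eq (pullback.fst d d w)
  obtain ⟨j, y, hy⟩ := (sigmaOpenCover X).exists_eq (pullback.snd d d w)
  let O : (pullback d d).Opens :=
    (pullback.fst d d ⁻¹ᵁ (Sigma.ι X i).opensRange) ⊓ (pullback.snd d d ⁻¹ᵁ (Sigma.ι X j).opensRange)
  have hwO : w ∈ O := ⟨⟨x, hx⟩, ⟨y, hy⟩⟩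
  have hdiag : ∀ z, pullback.fst d d (pullback.diagonal d z) = z ∧ pullback.snd d d (pullback.diagonal d z) = z :=
    fun z => ⟨by rw [← Scheme.Hom.comp_apply, pullback.diagonal_fst]; rfl,
      by rw [← Scheme.Hom.comp_apply, pullback.diagonal_snd]; rfl⟩
  by_cases hij : i = j
  · subst hij
    let m : pullback (f i) (f i) ⟶ pullback d d :=
      pullback.map _ _ _ _ (Sigma.ι X i) (Sigma.ι X i) (𝟙 B) (by simp [d]) (by simp [d])
    have hr : Set.range m = O := by
      rw [Scheme.Pullback.range_map]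
      rfl
    obtain ⟨v, rfl⟩ : w ∈ Set.range m := hr ▸ hwO
    have hdi : pullback.diagonal (f i) ≫ m = Sigma.ι X i ≫ pullback.diagonal d := by
      apply pullback.hom_ext <;> simp [m]
    refine ⟨m '' (Set.range (pullback.diagonal (f i)))ᶜ, ?_, m.isOpenEmbedding.isOpenMap _
      (pullback.diagonal (f i)).isClosedEmbedding.isClosed_range.isOpen_compl,
      ⟨v, ?_, rfl⟩⟩
    · rintro _ ⟨v', hv', rfl⟩ ⟨z, hz⟩
      have hz' : z ∈ (Sigma.ι X i).opensRange := by
        rw [← (hdiag z).1, hz]
        exact (hr.le ⟨v', rfl⟩ : m v' ∈ O).1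
      obtain ⟨x', rfl⟩ := hz'
      refine hv' ⟨x', m.isOpenEmbedding.injective ?_⟩
      rw [← hz, ← Scheme.Hom.comp_apply, hdi]
      rfl
    · rintro ⟨x', hx'⟩
      exact hw ⟨Sigma.ι X i x', by rw [← Scheme.Hom.comp_apply, ← hdi, Scheme.Hom.comp_apply, hx']⟩
  · refine ⟨O, ?_, O.isOpen, hwO⟩
    rintro u ⟨h1, h2⟩ ⟨z, rfl⟩
    change pullback.fst d d _ ∈ (Sigma.ι X i).opensRange at h1
    change pullback.snd d d _ ∈ (Sigma.ι X j).opensRange at h2
    rw [(hdiag z).1] at h1
    rw [(hdiag z).2] at h2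
    exact ((disjoint_opensRange_sigmaι X i j hij).le_bot ⟨h1, h2⟩ :)

theorem surjective_of_repWith_pullback {X : Sp S} {U : Over S} {a : (yon S).obj U ⟶ X}
    (hs : RepWith @Surjective a) {T W : Over S} {g : (yon S).obj T ⟶ X} {t : (yon S).obj W ⟶ (yon S).obj U}
    {w : W ⟶ T} (sq : IsPullback t ((yon S).map w) a g) : Surjective w.left :=
  hs.2 g t w sq

/-- Every algebraic space has an etale chart separated over the base. -/
theorem exists_separated_atlas {F : Sp S} (hF : IsAlgSpace F) :
    ∃ (U : Over S) (p : (yon S).obj U ⟶ F), IsSeparated U.hom ∧ RepWith @Etale p ∧ RepWith @Surjective p := by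
  obtain ⟨U, p, hp, hps⟩ := hF.atlas
  let X : U.left.affineCover.I₀ → Scheme.{u} := U.left.affineCover.X
  let U' : Over S := Over.mk (Sigma.desc fun i => U.left.affineCover.f i ≫ U.hom)
  let c : U' ⟶ U := Over.homMk (Sigma.desc U.left.affineCover.f) (by
    apply Sigma.hom_ext
    intro i
    change Sigma.ι X i ≫ Sigma.desc _ ≫ U.hom = Sigma.ι X i ≫ Sigma.desc _
    rw [Sigma.ι_desc_assoc, Sigma.ι_desc])
  have hcE : Etale c.left := IsZariskiLocalAtSource.of_openCover (P := @Etale) (sigmaOpenCover X) fun i => by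
    change Etale (Sigma.ι X i ≫ Sigma.desc U.left.affineCover.f)
    rw [Sigma.ι_desc]
    infer_instance
  have hcS : Surjective c.left := ⟨fun u => by
    obtain ⟨i, y, hy⟩ := U.left.affineCover.exists_eq u
    refine ⟨Sigma.ι X i y, ?_⟩
    change (Sigma.ι X i ≫ Sigma.desc U.left.affineCover.f) y = u
    rw [Sigma.ι_desc]
    exact hy⟩
  exact ⟨U', (yon S).map c ≫ p, isSeparated_sigmaDesc _ fun i => inferInstance,
    repWith_comp ((repWith_yon_map_iff _ _).2 hcE) hp, repWith_comp ((repWith_yon_map_iff _ _).2 hcS) hps⟩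

variable {I : Type v} [Category.{w} I] {D : I ⥤ Over S} {c : Cocone D}

/-- A colimit of schemes as a colimit over the base. -/
noncomputable def overColimit (h : IsColimit ((Over.forget S).mapCocone c)) : IsColimit c :=
  isColimitOfReflects (Over.forget S) h

/-- Maps to an algebraic space are determined on a colimit of schemes. -/
theorem hom_ext_space (hc : IsColimit ((Over.forget S).mapCocone c)) {Z : Sp S} (hZ : IsAlgSpace Z)
    {m₁ m₂ : (yon S).obj c.pt ⟶ Z}
    (h : ∀ i, (yon S).map (c.ι.app i) ≫ m₁ = (yon S).map (c.ι.app i) ≫ m₂) : m₁ = m₂ := by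
  obtain ⟨E, e, l, sq⟩ := hZ.diag (prod.lift m₁ m₂)
  have : Mono (diag Z) := mono_of_mono_fac (show diag Z ≫ prod.fst = 𝟙 Z from prod.lift_fst _ _)
  haveI : Mono ((yon S).map e) := sq.mono_snd_of_mono
  haveI : Mono e := (yon S).mono_of_mono_map inferInstance
  have hl : ∀ i, ((yon S).map (c.ι.app i) ≫ m₁) ≫ diag Z = (yon S).map (c.ι.app i) ≫ prod.lift m₁ m₂ := fun i => by
    apply Limits.prod.hom_ext
    · simp
    · simp [h i]
  choose k hk using fun i => (yon S).map_surjective
    (sq.lift ((yon S).map (c.ι.app i) ≫ m₁) ((yon S).map (c.ι.app i)) (hl i))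
  have hke : ∀ i, k i ≫ e = c.ι.app i := fun i => (yon S).map_injective (by
    rw [Functor.map_comp, hk, sq.lift_snd])
  let s : Cocone D :=
    { pt := E
      ι := { app := k
             naturality := fun i j f => by
              rw [← cancel_mono e, Category.assoc, hke]
              simp [hke] } }
  have hσ : (overColimit hc).desc s ≫ e = 𝟙 _ := (overColimit hc).hom_ext fun i => by
    rw [← Category.assoc, IsColimit.fac]
    exact (hke i).trans (Category.comp_id _).symm
  have hc' := (congrArg ((yon S).map ((overColimit hc).desc s) ≫ ·) sq.w)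
  rw [← Category.assoc, ← Category.assoc, ← Functor.map_comp, hσ, CategoryTheory.Functor.map_id,
    Category.id_comp] at hc'
  have e₁ := congrArg (· ≫ prod.fst) hc'
  have e₂ := congrArg (· ≫ prod.snd) hc'
  simp only [Category.assoc, prod.lift_fst, prod.lift_snd, Category.comp_id] at e₁ e₂
  exact e₁.symm.trans e₂

/-- Existence of maps out of colimits of schemes with effective etale descent. -/
theorem exists_desc (h₂ : ∀ x : ↥c.pt.left, ∃ (i : I) (y : ↥(D.obj i).left), (c.ι.app i).left y = x)
    (h₃ : ∀ (D' : I ⥤ Over S) (α : D' ⟶ D) (c' : Cocone D') (a : c'.pt ⟶ c.pt), Etale a.left →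
      (∀ i, IsPullback (c'.ι.app i) (α.app i) a (c.ι.app i)) → Nonempty (IsColimit ((Over.forget S).mapCocone c')))
    (h₄ : ∀ (D' : I ⥤ Over S) (α : D' ⟶ D), NatTrans.Equifibered α → (∀ i, Etale (α.app i).left) →
      (∀ i, IsSeparated (α.app i).left) →
      ∃ (c' : Cocone D') (a : c'.pt ⟶ c.pt), Etale a.left ∧ ∀ i, IsPullback (c'.ι.app i) (α.app i) a (c.ι.app i))
    {Z : Sp S} (hZ : IsAlgSpace Z) (φ : ∀ i, (yon S).obj (D.obj i) ⟶ Z)
    (hφ : ∀ {i j : I} (f : i ⟶ j), (yon S).map (D.map f) ≫ φ j = φ i) :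
    ∃ m : (yon S).obj c.pt ⟶ Z, ∀ i, (yon S).map (c.ι.app i) ≫ m = φ i := by
  obtain ⟨U, p, hUs, hpe, hps⟩ := exists_separated_atlas hZ
  choose W w t sq using fun i => hpe.1 (φ i)
  choose t' ht' using fun i => (yon S).map_surjective (t i)
  have hlift : ∀ {i j : I} (f : i ⟶ j), ∃ g : W i ⟶ W j, g ≫ w j = w i ≫ D.map f ∧ g ≫ t' j = t' i := by
    intro i j f
    obtain ⟨g, hg⟩ := (yon S).map_surjective ((sq j).lift (t i) ((yon S).map (w i) ≫ (yon S).map (D.map f))
      (by rw [(sq i).w, Category.assoc, hφ]))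
    exact ⟨g, (yon S).map_injective (by rw [Functor.map_comp, hg, (sq j).lift_snd, Functor.map_comp]),
      (yon S).map_injective (by rw [Functor.map_comp, hg, ht', ht', (sq j).lift_fst])⟩
  choose g hgw hgt using @hlift
  have hext : ∀ {T : Over S} {j : I} {a b : T ⟶ W j}, a ≫ w j = b ≫ w j → a ≫ t' j = b ≫ t' j → a = b := by
    intro T j a b e₁ e₂
    apply (yon S).map_injective
    apply (sq j).hom_ext
    · rw [← ht', ← Functor.map_comp, ← Functor.map_comp, e₂]
    · rw [← Functor.map_comp, ← Functor.map_comp, e₁]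
  let D' : I ⥤ Over S :=
    { obj := W
      map := g
      map_id := fun i => hext (by rw [hgw]; simp) (by rw [hgt]; simp)
      map_comp := fun {i j k} f f' => hext
        (by rw [hgw, Category.assoc, hgw, ← Category.assoc (g f) (w j), hgw, Category.assoc, D.map_comp])
        (by rw [hgt, Category.assoc, hgt, hgt]) }
  let α : D' ⟶ D := { app := w, naturality := fun i j f => hgw f }
  have hαe : ∀ i, Etale (α.app i).left := fun i => hpe.2 (φ i) (t i) (w i) (sq i)
  have hαs : ∀ i, Surjective (α.app i).left := fun i => hps.2 (φ i) (t i) (w i) (sq i)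
  have hαsep : ∀ i, IsSeparated (α.app i).left := fun i => by
    let k : (W i).left ⟶ pullback U.hom (D.obj i).hom :=
      pullback.lift (t' i).left (w i).left ((Over.w (t' i)).trans (Over.w (w i)).symm)
    haveI : Mono k := ⟨fun {T} a b e => by
      have e₁ := congrArg (· ≫ pullback.fst _ _) e
      have e₂ := congrArg (· ≫ pullback.snd _ _) e
      simp only [k, Category.assoc, pullback.lift_fst, pullback.lift_snd] at e₁ e₂
      have hw : b ≫ (W i).hom = a ≫ (W i).hom := by
        rw [← Over.w (w i), ← Category.assoc, ← Category.assoc, e₂]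
      exact congrArg (fun x => x.left) (hext (T := Over.mk (a ≫ (W i).hom))
        (a := Over.homMk a rfl) (b := Over.homMk b hw) (Over.OverMorphism.ext e₂) (Over.OverMorphism.ext e₁))⟩
    haveI := hUs
    rw [show (α.app i).left = k ≫ pullback.snd U.hom (D.obj i).hom from (pullback.lift_snd _ _ _).symm]
    infer_instance
  have hsqD : ∀ {i j : I} (f : i ⟶ j), IsPullback (g f) (w i) (w j) (D.map f) := fun {i j} f => by
    refine IsPullback.of_map (yon S) (hgw f) ?_
    refine IsPullback.of_right ?_ (by rw [← Functor.map_comp, ← Functor.map_comp, hgw]) (sq j)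
    rw [← ht' j, ← Functor.map_comp, hgt, ht', hφ]
    exact sq i
  obtain ⟨c', a, hae, hsq⟩ := h₄ D' α (fun i j f => hsqD f) hαe hαsep
  obtain ⟨hc'⟩ := h₃ D' α c' a hae hsq
  haveI := hae
  haveI : Surjective a.left := ⟨fun x => by
    obtain ⟨i, y, hy⟩ := h₂ x
    obtain ⟨z, hz⟩ := (hαs i).surj y
    refine ⟨(c'.ι.app i).left z, ?_⟩
    have := congrArg (fun q => q.left z) (hsq i).w
    simp only [Over.comp_left, Scheme.Hom.comp_apply] at this
    exact this.trans ((congrArg _ hz).trans hy)⟩
  let st : Cocone D' :=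
    { pt := U
      ι := { app := t'
             naturality := fun i j f => by simpa [D'] using hgt f } }
  let τ : c'.pt ⟶ U := (overColimit hc').desc st
  have hτ : ∀ i, c'.ι.app i ≫ τ = t' i := fun i => (overColimit hc').fac st i
  -- the two pullbacks of `τ` to the self product have the same image in `Z`
  let C₂ : Over S := pullback a a
  let p₁ : C₂ ⟶ c'.pt := pullback.fst a a
  let p₂ : C₂ ⟶ c'.pt := pullback.snd a a
  have hsqO := (IsPullback.of_hasPullback a a).map (Over.forget S)
  haveI : Etale p₁.left := MorphismProperty.of_isPullback (P := @Etale) hsqO.flip hae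
  have hpp : (yon S).map p₁ ≫ (yon S).map τ ≫ p = (yon S).map p₂ ≫ (yon S).map τ ≫ p := by
    let π : C₂ ⟶ c.pt := p₁ ≫ a
    haveI : Etale π.left := inferInstanceAs (Etale (p₁.left ≫ a.left))
    let D₂ : I ⥤ Over S :=
      { obj := fun i => pullback π (c.ι.app i)
        map := fun {i j} f => pullback.lift (pullback.fst _ _) (pullback.snd _ _ ≫ D.map f)
          (by rw [Category.assoc, c.w, pullback.condition])
        map_id := fun i => by apply pullback.hom_ext <;> simp
        map_comp := fun f f' => by apply pullback.hom_ext <;> simp }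
    let α₂ : D₂ ⟶ D := { app := fun i => pullback.snd π (c.ι.app i), naturality := fun i j f => pullback.lift_snd _ _ _ }
    let c₂ : Cocone D₂ :=
      { pt := C₂
        ι := { app := fun i => pullback.fst π (c.ι.app i)
               naturality := fun i j f => by simp [D₂] } }
    obtain ⟨hc₂⟩ := h₃ D₂ α₂ c₂ π inferInstance fun i => IsPullback.of_hasPullback π (c.ι.app i)
    refine hom_ext_space hc₂ hZ fun i => ?_
    let q₁ := (hsq i).lift (c₂.ι.app i ≫ p₁) (α₂.app i) (by
      rw [Category.assoc]; exact pullback.condition)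
    let q₂ := (hsq i).lift (c₂.ι.app i ≫ p₂) (α₂.app i) (by
      rw [Category.assoc]; exact (congrArg (c₂.ι.app i ≫ ·) pullback.condition.symm).trans pullback.condition)
    have hq : ∀ (q : D₂.obj i ⟶ W i) (pp : C₂ ⟶ c'.pt), q ≫ c'.ι.app i = c₂.ι.app i ≫ pp → q ≫ α.app i = α₂.app i →
        (yon S).map (c₂.ι.app i) ≫ (yon S).map pp ≫ (yon S).map τ ≫ p = (yon S).map (α₂.app i) ≫ φ i := by
      intro q pp e₁ e₂
      rw [← Functor.map_comp_assoc, ← e₁, Functor.map_comp, Category.assoc, ← Functor.map_comp_assoc _ (c'.ι.app i),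
        hτ, ht', (sq i).w, ← Functor.map_comp_assoc]
      exact congrArg (fun x => (yon S).map x ≫ φ i) e₂
    exact (hq q₁ p₁ ((hsq i).lift_fst _ _ _) ((hsq i).lift_snd _ _ _)).trans
      (hq q₂ p₂ ((hsq i).lift_fst _ _ _) ((hsq i).lift_snd _ _ _)).symm
  have hcov : Sieve.ofArrows (fun _ : PUnit.{u + 1} => c'.pt) (fun _ => a) ∈ J S c.pt :=
    H13AlgSp.ofArrows_mem_J _ (fun _ => inferInstanceAs (Flat a.left))
      (fun _ => inferInstanceAs (LocallyOfFinitePresentation a.left))
      fun x => ⟨PUnit.unit, a.left.surjective x⟩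
  obtain ⟨m, hm⟩ := H13Inf.exists_glue (fun _ : PUnit.{u + 1} => a) hcov (fun _ => (yon S).map τ ≫ p)
    fun _ _ Z' gi gj e => by
      rw [← pullback.lift_fst gi gj e, Functor.map_comp, Category.assoc]
      conv_rhs => rw [← pullback.lift_snd gi gj e, Functor.map_comp, Category.assoc]
      exact congrArg ((yon S).map (pullback.lift gi gj e) ≫ ·) hpp
  refine ⟨m, fun i => ?_⟩
  haveI := hαe i
  haveI := hαs i
  have hcov' : Sieve.ofArrows (fun _ : PUnit.{u + 1} => W i) (fun _ => w i) ∈ J S (D.obj i) :=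
    H13AlgSp.ofArrows_mem_J _ (fun _ => inferInstanceAs (Flat (α.app i).left))
      (fun _ => inferInstanceAs (LocallyOfFinitePresentation (α.app i).left))
      fun x => ⟨PUnit.unit, (α.app i).left.surjective x⟩
  refine H13AlgSp.hom_ext_of_cover _ hcov' fun _ => ?_
  rw [← Functor.map_comp_assoc, show w i ≫ c.ι.app i = c'.ι.app i ≫ a from (hsq i).w.symm,
    Functor.map_comp, Category.assoc, hm PUnit.unit, ← Functor.map_comp_assoc, hτ, ht', (sq i).w]

end Groth.Agent.H13EffColim
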