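import Groth.Agent.H13Desc.DescFam
import Mathlib.AlgebraicGeometry.Morphisms.Flat

set_option backward.isDefEq.respectTransparency false
set_option backward.isDefEq.respectTransparency.types false

universe w'' w' w u

open CategoryTheory CategoryTheory.Limits AlgebraicGeometry
open Desc

namespace Groth.Agent.H13Desc

variable {S S' S'' : Scheme.{u}} {ι : Type w} {X : ι → Scheme.{u}} {f : ∀ i, X i ⟶ S}
  {ι' : Type w'} {X' : ι' → Scheme.{u}} {f' : ∀ j, X' j ⟶ S'}

/-- Faithfulness of pullback when points lift after epimorphisms. -/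
theorem pullDDFam_faithful_of_epi {α : ι' → ι} {p : S' ⟶ S} {p' : ∀ j, X' j ⟶ X (α j)}
    (w : ∀ j, p' j ≫ f (α j) = f' j ≫ p)
    (hL : ∀ (i : ι) {T : Scheme.{u}} (x : T ⟶ X i), ∃ (T' : Scheme.{u}) (g : T' ⟶ T), Epi g ∧
      ∃ (j : ι') (r : T' ⟶ X' j), (r ≫ p' j) ≫ f (α j) = (g ≫ x) ≫ f i) :
    (pullDDFam w).Faithful := by
  refine ⟨fun {D E} a b hab => ?_⟩
  ext i : 2
  apply Over.OverMorphism.ext
  obtain ⟨T', g, hg, j, r, hr⟩ := hL i (D.obj i).hom
  set u := D.φ (g ≫ (D.obj i).hom) (r ≫ p' j) hr.symm ⟨g, rfl⟩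
  have hu : a.push u = b.push u := by
    rw [← (pullPts w D j r).apply_symm_apply u, ← pullPts_push, ← pullPts_push, hab]
  rw [← hom_comm, ← hom_comm, Equiv.apply_eq_iff_eq] at hu
  exact (cancel_epi g).mp (congrArg Subtype.val hu)

theorem pullDDFam_faithful_of_flat_surjective {α : ι' → ι} {p' : ∀ j, X' j ⟶ X (α j)}
    {g : ∀ j, X' j ⟶ S} (w : ∀ j, p' j ≫ f (α j) = g j ≫ 𝟙 S) (j : ι') [Flat (g j)] [Surjective (g j)] :
    (pullDDFam w).Faithful :=
  pullDDFam_faithful_of_epi w fun i T x =>
    ⟨_, pullback.fst (x ≫ f i) (g j), Flat.epi_of_flat_of_surjective _, j, pullback.snd _ _, by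
      rw [Category.assoc, w, Category.comp_id, ← pullback.condition, Category.assoc]⟩

/-- Pullback along the identity of a family. -/
noncomputable def pullDDFamId {p' : ∀ i, X i ⟶ X (id i)} (hp' : ∀ i, p' i = 𝟙 (X i))
    (w : ∀ i, p' i ≫ f (id i) = f i ≫ 𝟙 S) : pullDDFam (α := id) w ≅ 𝟭 (SchDDFam f) :=
  have hr : ∀ {T : Scheme.{u}} {i : ι} (r : T ⟶ X i), r ≫ p' i = r := fun r => by
    rw [hp']; exact Category.comp_id _
  NatIso.ofComponents
    (fun D => ddFamIso
      (fun j => liftsIso
        (fun T r => (pullPts w D j r).trans (Equiv.subtypeEquivRight fun v => by simp only [hr]; rfl))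
        (fun T T' g x y _ v v' hv => pullPts_natural w D g x y v v' hv))
      (fun T j₀ j₁ x₀ x₁ h v u hu => by
        rw [comp_liftsIso_hom] at hu ⊢
        have e := congrArg Subtype.val (pull_phi w D x₀ x₁ h v)
        refine Eq.trans ?_ e.symm
        exact phi_congr D (hr x₀).symm (hr x₁).symm _ _ _ _ hu))
    (fun {D E} a => by
      ext j : 2
      apply Over.OverMorphism.ext
      simp [ddFamIso, liftsIso, pullPts, liftsPullbackEquiv, pullDDFam, pullDDFamObj])

/-- Composite pullback of descent data is pullback along the composite morphism of families. -/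
noncomputable def pullDDFamComp {ι'' : Type w''} {X'' : ι'' → Scheme.{u}} {f'' : ∀ k, X'' k ⟶ S''}
    {α : ι' → ι} {p : S' ⟶ S} {p' : ∀ j, X' j ⟶ X (α j)} (w : ∀ j, p' j ≫ f (α j) = f' j ≫ p)
    {β : ι'' → ι'} {q : S'' ⟶ S'} {q' : ∀ k, X'' k ⟶ X' (β k)} (v : ∀ k, q' k ≫ f' (β k) = f'' k ≫ q)
    (u : ∀ k, (q' k ≫ p' (β k)) ≫ f (α (β k)) = f'' k ≫ (q ≫ p)) :
    pullDDFam w ⋙ pullDDFam v ≅ pullDDFam (α := fun k => α (β k)) u :=
  NatIso.ofComponents
    (fun D => ddFamIso
      (fun k => liftsIso
        (fun T r => (pullPts v ((pullDDFam w).obj D) k r).trans ((pullPts w D (β k) (r ≫ q' k)).trans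
          ((Equiv.subtypeEquivRight fun z => by rw [Category.assoc]).trans (pullPts u D k r).symm)))
        (fun T T' g x y hy z z' hz => by
          subst hy
          simp only [Equiv.trans_apply, pullPts_symm_val]
          apply pullback.hom_ext
          · simp only [pullback.lift_fst, Category.assoc]
            exact pullPts_natural w D g _ _ _ _ (pullPts_natural v _ g x _ z z' hz)
          · simp only [pullback.lift_snd, Category.assoc]))
      (fun T k₀ k₁ x₀ x₁ h z z' hz => by
        rw [comp_liftsIso_hom] at hz ⊢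
        obtain rfl := Subtype.ext hz
        refine congrArg Subtype.val ((pullPts u D k₁ x₁).injective (Subtype.ext ?_))
        simp only [Equiv.trans_apply, pull_phi, Equiv.apply_symm_apply]
        refine Eq.trans ?_ (congrArg Subtype.val (congrArg (pullPts w D _ _)
          (pull_phi v ((pullDDFam w).obj D) x₀ x₁ h z))).symm
        rw [pull_phi]
        exact phi_congr D (Category.assoc _ _ _).symm (Category.assoc _ _ _).symm _ _ _ _ rfl))
    (fun {D E} a => by
      ext k : 2
      apply Over.OverMorphism.ext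
      apply pullback.hom_ext <;>
        simp [ddFamIso, liftsIso, pullPts, liftsPullbackEquiv, pullDDFam, pullDDFamObj])

theorem toDDFam_map_snd (f : ∀ i, X i ⟶ S) {U U' : Over S} (g : U ⟶ U') (i : ι) :
    (((toDDFam f).map g).hom i).left ≫ pullback.snd (f i) U'.hom = pullback.snd (f i) U.hom ≫ g.left :=
  pullback.lift_snd _ _ _

theorem toDDFam_full_faithful (f : ∀ i, X i ⟶ S) (hf : Presieve.ofArrows X f ∈ Scheme.fpqcPrecoverage S) :
    (toDDFam f).Full ∧ (toDDFam f).Faithful := by
  have hR := fun (U : Over S) => Scheme.fpqcTopology.pullback_stable U.hom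
    (Precoverage.generate_mem_toGrothendieck hf)
  constructor
  · refine ⟨fun {U U'} k => ?_⟩
    let R : Sieve U.left := Sieve.pullback U.hom (Sieve.generate (Presieve.ofArrows X f))
    have lift : ∀ ⦃T : Scheme.{u}⦄ (g : T ⟶ U.left), R g → ∃ (i : ι) (r : T ⟶ X i), r ≫ f i = g ≫ U.hom := by
      rintro T g ⟨_, r, _, ⟨i⟩, hr⟩
      exact ⟨i, r, hr⟩
    let val : ∀ {T : Scheme.{u}} (g : T ⟶ U.left) (i : ι) (r : T ⟶ X i), r ≫ f i = g ≫ U.hom →
        (T ⟶ U'.left) := fun g i r hr =>
      pullback.lift r g hr ≫ (k.hom i).left ≫ pullback.snd (f i) U'.hom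
    have indep : ∀ {T : Scheme.{u}} (g : T ⟶ U.left) (i : ι) (r : T ⟶ X i) (hr : r ≫ f i = g ≫ U.hom)
        (i' : ι) (r' : T ⟶ X i') (hr' : r' ≫ f i' = g ≫ U.hom), val g i r hr = val g i' r' hr' := by
      intro T g i r hr i' r' hr'
      let v : Lifts (((toDDFam f).obj U).obj i) r := ⟨pullback.lift r g hr, pullback.lift_fst _ _ _⟩
      have h := congrArg Subtype.val (hom_comm k r r' (hr.trans hr'.symm) v)
      have h2 := congrArg (· ≫ pullback.snd (f i') U'.hom) h
      simpa [SchDDFam.Hom.push, toDDFam, canonicalDDFam, v, val] using h2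
    obtain ⟨a, ha⟩ := exists_glue (hR U) (fun T g hg => val g _ _ (lift g hg).choose_spec.choose_spec)
      (fun T T' g h hg => by
        refine (indep _ _ _ _ _ (h ≫ (lift g hg).choose_spec.choose) ?_).trans ?_
        · rw [Category.assoc, (lift g hg).choose_spec.choose_spec, Category.assoc]
        · simp only [val, ← Category.assoc]
          congr 2
          apply pullback.hom_ext <;> simp)
    have key : ∀ {T : Scheme.{u}} (g : T ⟶ U.left) (i : ι) (r : T ⟶ X i) (hr : r ≫ f i = g ≫ U.hom),
        g ≫ a = val g i r hr := by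
      intro T g i r hr
      have hg : R g := ⟨_, r, _, ⟨i⟩, hr⟩
      rw [ha g hg]
      exact indep _ _ _ _ _ _ _
    have haw : a ≫ U'.hom = U.hom := hom_eq_of_sieve (hR U) _ _ fun T g hg => by
      obtain ⟨i, r, hr⟩ := lift g hg
      have hk : (k.hom i).left ≫ pullback.fst (f i) U'.hom = pullback.fst (f i) U.hom := Over.w (k.hom i)
      rw [← Category.assoc, key g i r hr]
      simp only [val, Category.assoc]
      rw [← pullback.condition, reassoc_of% hk, pullback.lift_fst_assoc, hr]
    refine ⟨Over.homMk a haw, ?_⟩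
    ext i : 2
    apply Over.OverMorphism.ext
    apply pullback.hom_ext
    · simpa [toDDFam, canonicalDDFam] using (Over.w (k.hom i)).symm
    · rw [toDDFam_map_snd]
      refine (key _ i _ pullback.condition).trans ?_
      have e : pullback.lift (pullback.fst (f i) U.hom) (pullback.snd (f i) U.hom) pullback.condition
          = 𝟙 (pullback (f i) U.hom) := by
        apply pullback.hom_ext <;> simp
      simp only [val]
      rw [e]
      exact Category.id_comp _
  · refine ⟨fun {U U'} a b hab => Over.OverMorphism.ext (hom_eq_of_sieve (hR U) _ _ fun T g hg => ?_)⟩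
    obtain ⟨_, r, _, ⟨i⟩, hr⟩ := hg
    rw [← pullback.lift_snd r g hr, Category.assoc, ← toDDFam_map_snd, hab, toDDFam_map_snd,
      Category.assoc]

end Groth.Agent.H13Desc
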