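import Groth.Prelude.Def_Desc
import Mathlib.AlgebraicGeometry.Sites.Fpqc
import Mathlib.AlgebraicGeometry.Morphisms.Etale

set_option backward.isDefEq.respectTransparency false
set_option backward.isDefEq.respectTransparency.types false

universe u

open CategoryTheory CategoryTheory.Limits AlgebraicGeometry

namespace Groth.Agent.H13Desc

variable {X S : Scheme.{u}} (p : X ⟶ S)

theorem toDD_map_left {U U' : Over S} (g : U ⟶ U') :
    ((Desc.toDD p).map g).hom.left ≫ pullback.snd p U'.hom = pullback.snd p U.hom ≫ g.left :=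
  pullback.lift_snd _ _ _

theorem toDD_map_eq_iff {U U' : Over S} (g g' : U ⟶ U') :
    (Desc.toDD p).map g = (Desc.toDD p).map g' ↔
      pullback.snd p U.hom ≫ g.left = pullback.snd p U.hom ≫ g'.left := by
  constructor
  · intro h
    rw [← toDD_map_left, h, toDD_map_left]
  · intro h
    ext
    exact pullback.hom_ext (by simp [Desc.toDD, Desc.canonicalDD]) (by simp [Desc.toDD, Desc.canonicalDD, h])

theorem toDD_faithful [Surjective p] [Flat p] : (Desc.toDD p).Faithful := by
  refine ⟨fun {U U'} g g' h => Over.OverMorphism.ext ?_⟩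
  have := Flat.epi_of_flat_of_surjective (pullback.snd p U.hom)
  exact (cancel_epi _).mp ((toDD_map_eq_iff p g g').mp h)

theorem toDD_full [∀ U : Over S, EffectiveEpi (pullback.snd p U.hom)] : (Desc.toDD p).Full := by
  refine ⟨fun {U U'} h => ?_⟩
  let s := pullback.snd p U.hom
  let a : pullback p U.hom ⟶ U'.left := h.hom.left ≫ pullback.snd p U'.hom
  have ha : ∀ {Z : Scheme.{u}} (g₁ g₂ : Z ⟶ pullback p U.hom), g₁ ≫ s = g₂ ≫ s → g₁ ≫ a = g₂ ≫ a := by
    intro Z g₁ g₂ e
    have e' : (g₁ ≫ pullback.fst p U.hom) ≫ p = (g₂ ≫ pullback.fst p U.hom) ≫ p := by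
      rw [Category.assoc, Category.assoc, pullback.condition, ← Category.assoc, ← Category.assoc]
      exact congrArg (· ≫ U.hom) e
    have hc := h.comm (T := Z) _ _ e' ⟨g₁, rfl⟩ ⟨g₁ ≫ h.hom.left, by
      rw [Category.assoc, Over.w h.hom]; rfl⟩ rfl
    have h2 : ((((Desc.toDD p).obj U).φ _ _ e') ⟨g₁, rfl⟩).1 = g₂ :=
      pullback.hom_ext (pullback.lift_fst _ _ _) ((pullback.lift_snd _ _ _).trans e)
    rw [h2] at hc
    have h3 := congrArg (· ≫ pullback.snd p U'.hom) hc
    simp only [Desc.toDD, Desc.canonicalDD, Equiv.coe_fn_mk, Desc.canMap_val] at h3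
    rw [pullback.lift_snd] at h3
    simpa [a] using h3
  let b := EffectiveEpi.desc s a ha
  have hb : s ≫ b = a := EffectiveEpi.fac s a ha
  have hw : b ≫ U'.hom = U.hom := by
    have : h.hom.left ≫ pullback.fst p U'.hom = pullback.fst p U.hom := Over.w h.hom
    rw [← cancel_epi s, reassoc_of% hb]
    simp only [a, s, Category.assoc]
    rw [← pullback.condition, reassoc_of% this, pullback.condition]
  refine ⟨Over.homMk b hw, ?_⟩
  ext
  refine pullback.hom_ext ?_ ?_
  · simp only [Desc.toDD, Desc.canonicalDD]
    simp only [Over.homMk_left, pullback.lift_fst, Category.comp_id]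
    exact (Over.w h.hom).symm
  · rw [toDD_map_left]
    exact hb

theorem toDD_full_of_fpqc [Surjective p] [Flat p] [QuasiCompact p] : (Desc.toDD p).Full :=
  toDD_full p

/-- Two sections agreeing after a surjection are equal when the target is étale over the base. -/
theorem etale_hom_ext {W T V : Scheme.{u}} (s : W ⟶ T) [Surjective s] (q : V ⟶ S) [Etale q]
    (g g' : T ⟶ V) (hq : g ≫ q = g' ≫ q) (h : s ≫ g = s ≫ g') : g = g' := by
  let d := pullback.lift g g' hq
  have : IsOpenImmersion (pullback.fst d (pullback.diagonal q)) := inferInstance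
  have : Surjective (pullback.fst d (pullback.diagonal q)) := by
    have e : s ≫ d = (s ≫ g) ≫ pullback.diagonal q :=
      pullback.hom_ext (by simp [d]) (by simp [d, h])
    have : Surjective (pullback.lift s (s ≫ g) e ≫ pullback.fst d (pullback.diagonal q)) := by
      rw [pullback.lift_fst]; infer_instance
    exact Surjective.of_comp (pullback.lift s (s ≫ g) e) _
  have : IsIso (pullback.fst d (pullback.diagonal q)) := by
    rw [isIso_iff_isOpenImmersion_and_epi_base]
    exact ⟨inferInstance, (TopCat.epi_iff_surjective _).mpr (Scheme.Hom.surjective _)⟩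
  have e := pullback.condition (f := d) (g := pullback.diagonal q)
  have e1 := congrArg (· ≫ pullback.fst q q) e
  have e2 := congrArg (· ≫ pullback.snd q q) e
  simp only [Category.assoc, d, pullback.lift_fst, pullback.lift_snd, pullback.diagonal_fst,
    pullback.diagonal_snd] at e1 e2
  rw [← cancel_epi (pullback.fst d (pullback.diagonal q)), e1, e2]

theorem toDD_map_injective_etale [Surjective p] (U₁ U₂ : Over S) [Etale U₂.hom] :
    Function.Injective ((Desc.toDD p).map : (U₁ ⟶ U₂) → _) := fun g g' h =>
  Over.OverMorphism.ext (etale_hom_ext (pullback.snd p U₁.hom) U₂.hom g.left g'.left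
    (by simp) ((toDD_map_eq_iff p g g').mp h))

end Groth.Agent.H13Desc
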