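import Groth.Prelude.Def_BigSite
import Mathlib.CategoryTheory.Sites.Continuous
import Mathlib.CategoryTheory.Sites.LocallyBijective
import Mathlib.CategoryTheory.Sites.EpiMono
import Mathlib.CategoryTheory.IsConnected
import Mathlib.CategoryTheory.Limits.Types.Colimits
import Mathlib.Algebra.Homology.ShortComplex.ExactFunctor

/-!
# Almost cocontinuous functors between large sites
-/

set_option autoImplicit false
set_option linter.style.haveILetI false
set_option linter.unusedSectionVars false
set_option backward.isDefEq.respectTransparency false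

universe u

noncomputable section

open CategoryTheory CategoryTheory.Limits Opposite AlgebraicGeometry

namespace Groth.Agent.H13Desc.AlmostCocontBig

variable {C D : Type (u + 1)} [Category.{u} C] [Category.{u} D]
  (J : GrothendieckTopology C) (K : GrothendieckTopology D) (v : C ⥤ D) [v.IsContinuous J K]

/-- The comparison map. -/
def cmp (G : Dᵒᵖ ⥤ Type (u + 1)) :
    (presheafToSheaf J (Type (u + 1))).obj (v.op ⋙ G) ⟶
      (v.sheafPushforwardContinuous (Type (u + 1)) J K).obj ((presheafToSheaf K (Type (u + 1))).obj G) :=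
  ((sheafificationAdjunction J (Type (u + 1))).homEquiv (v.op ⋙ G)
      ((v.sheafPushforwardContinuous (Type (u + 1)) J K).obj ((presheafToSheaf K (Type (u + 1))).obj G))).symm
        (Functor.whiskerLeft v.op (toSheafify K G))

/-- The comparison as a natural transformation. -/
def cmpNat : (Functor.whiskeringLeft Cᵒᵖ Dᵒᵖ (Type (u + 1))).obj v.op ⋙ presheafToSheaf J (Type (u + 1)) ⟶
    presheafToSheaf K (Type (u + 1)) ⋙ v.sheafPushforwardContinuous (Type (u + 1)) J K where
  app G := cmp J K v G
  naturality G G' f := by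
    refine (((sheafificationAdjunction J (Type (u + 1))).homEquiv_naturality_left_symm _ _).symm.trans ?_).trans
      ((sheafificationAdjunction J (Type (u + 1))).homEquiv_naturality_right_symm _ _)
    congr 1
    ext X x
    exact ConcreteCategory.congr_hom (NatTrans.congr_app (toSheafify_naturality K f) (op (v.obj X.unop))) x

variable (hu : BigSite.IsAlmostCocontinuous v J K)

include hu in
theorem isIso_cmp (G : Dᵒᵖ ⥤ Type (u + 1))
    (hG : ∀ V : D, (⊥ : Sieve V) ∈ K V → Nonempty (Unique (G.obj (op V)))) : IsIso (cmp J K v G) := by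
  let η := toSheafify K G
  have hη : J.W (Functor.whiskerLeft v.op η) := by
    rw [J.W_iff_isLocallyBijective]
    refine ⟨⟨fun {X} x y h => ?_⟩, ⟨fun {U} s => ?_⟩⟩
    · obtain ⟨R', hR', hcases⟩ := hu X.unop _
        (Presheaf.equalizerSieve_mem K η (X := op (v.obj X.unop)) x y h)
      refine J.superset_covering (fun V g hg => ?_) hR'
      rcases hcases g hg with hbot | h'
      · obtain ⟨hq⟩ := hG _ hbot
        exact @Subsingleton.elim _ (@Unique.instSubsingleton _ hq) _ _
      · exact h'
    · obtain ⟨R', hR', hcases⟩ := hu U _ (Presheaf.imageSieve_mem K η (U := op (v.obj U)) s)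
      refine J.superset_covering (fun V g hg => ?_) hR'
      rcases hcases g hg with hbot | h'
      · obtain ⟨hq⟩ := hG _ hbot
        exact ⟨hq.default, ((isSheaf_iff_isSheaf_of_type _ _).1 ((presheafToSheaf K (Type (u + 1))).obj G).property
          _ hbot).isSeparatedFor.ext fun _ _ h => h.elim⟩
      · exact h'
  haveI : IsIso ((presheafToSheaf J (Type (u + 1))).map (Functor.whiskerLeft v.op η)) := (J.W_iff _).1 hη
  exact IsIso.comp_isIso' this (NatIso.isIso_app_of_isIso (sheafificationAdjunction J (Type (u + 1))).counit _)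


include hu in
theorem preservesColimitsOfShape (I : Type) [SmallCategory I] [FinCategory I] [IsConnected I] :
    PreservesColimitsOfShape I (v.sheafPushforwardContinuous (Type (u + 1)) J K) := by
  have hempty : ∀ (F : Sheaf K (Type (u + 1))) (V : D), (⊥ : Sieve V) ∈ K V → Nonempty (Unique (F.obj.obj (op V))) := by
    intro F V hV
    have h := ((isSheaf_iff_isSheaf_of_type _ _).1 F.property) _ hV
    exact ⟨{ default := h.amalgamate (fun _ _ hf => hf.elim) (fun _ _ _ _ _ _ _ hf => hf.elim)
             uniq := fun a => h.isSeparatedFor.ext fun _ _ hf => hf.elim }⟩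
  refine ⟨fun {F} => ?_⟩
  let P := F ⋙ sheafToPresheaf K (Type (u + 1))
  let c₀ := colimit.cocone P
  let hc₀ := colimit.isColimit P
  let W := (Functor.whiskeringLeft Cᵒᵖ Dᵒᵖ (Type (u + 1))).obj v.op
  have hpt : ∀ V : D, (⊥ : Sieve V) ∈ K V → Nonempty (Unique (c₀.pt.obj (op V))) := by
    intro V hV
    obtain ⟨i₀⟩ := (inferInstance : Nonempty I)
    let hev := isColimitOfPreserves ((evaluation Dᵒᵖ (Type (u + 1))).obj (op V)) hc₀
    haveI : ∀ i, Subsingleton ((P.obj i).obj (op V)) := fun i =>
      @Unique.instSubsingleton _ (hempty (F.obj i) V hV).some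
    let e : ∀ i, (P.obj i).obj (op V) := fun i => (hempty (F.obj i) V hV).some.default
    refine ⟨{ default := (c₀.ι.app i₀).app (op V) (e i₀), uniq := fun a => ?_ }⟩
    obtain ⟨i, x, rfl⟩ := Types.jointly_surjective_of_isColimit hev a
    obtain rfl : x = e i := @Subsingleton.elim ((P.obj i).obj (op V)) _ _ _
    refine equiv_relation (fun a b => (c₀.ι.app a).app (op V) (e a) = (c₀.ι.app b).app (op V) (e b))
      ⟨fun _ => rfl, Eq.symm, Eq.trans⟩ (fun {a b} f => ?_) i i₀
    have := ConcreteCategory.congr_hom (NatTrans.congr_app (c₀.w f) (op V)) (e a)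
    exact this.symm.trans (congrArg ((c₀.ι.app b).app (op V)) (Subsingleton.elim _ _))
  let U := v.sheafPushforwardContinuous (Type (u + 1)) J K
  let LJ := presheafToSheaf J (Type (u + 1))
  let LK := presheafToSheaf K (Type (u + 1))
  let φ := cmpNat J K v
  haveI : ∀ i, IsIso (φ.app (P.obj i)) := fun i =>
    isIso_cmp J K v hu _ (fun V hV => hempty (F.obj i) V hV)
  haveI : IsIso (φ.app c₀.pt) := isIso_cmp J K v hu _ hpt
  have h₁ : IsColimit ((W ⋙ LJ).mapCocone c₀) := isColimitOfPreserves (W ⋙ LJ) hc₀
  let e : P ⋙ W ⋙ LJ ≅ P ⋙ LK ⋙ U := NatIso.ofComponents (fun i => asIso (φ.app (P.obj i)))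
    (fun f => φ.naturality (P.map f))
  have h₂ : IsColimit ((LK ⋙ U).mapCocone c₀) :=
    IsColimit.equivOfNatIsoOfIso e ((W ⋙ LJ).mapCocone c₀) ((LK ⋙ U).mapCocone c₀)
      (Cocone.ext (asIso (φ.app c₀.pt)) (fun i => by
        refine (Category.assoc _ _ _).trans ((Iso.inv_comp_eq (e.app i)).2 ?_)
        exact φ.naturality (c₀.ι.app i))) h₁
  have hLK : IsColimit (LK.mapCocone c₀) := isColimitOfPreserves LK hc₀
  haveI : PreservesColimit (P ⋙ LK) U := preservesColimit_of_preserves_colimit_cocone hLK h₂
  exact preservesColimit_of_iso_diagram U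
    (Functor.associator _ _ _ ≪≫ Functor.isoWhiskerLeft F (asIso (sheafificationAdjunction K (Type (u + 1))).counit) ≪≫
      F.rightUnitor : P ⋙ LK ≅ F)

include hu in
theorem epi_map {F G : Sheaf K AddCommGrpCat.{u + 1}} (φ : F ⟶ G) [Epi φ] :
    Epi ((v.sheafPushforwardContinuous AddCommGrpCat.{u + 1} J K).map φ) := by
  haveI := (Sheaf.isLocallySurjective_iff_epi' AddCommGrpCat.{u + 1} φ).2 inferInstance
  refine (Sheaf.isLocallySurjective_iff_epi' AddCommGrpCat.{u + 1} _).1 ⟨fun {U} s => ?_⟩
  obtain ⟨R', hR', hcases⟩ := hu U _ (Presheaf.imageSieve_mem K φ.hom (U := op (v.obj U)) s)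
  refine J.superset_covering (fun V g hg => ?_) hR'
  rcases hcases g hg with hbot | h'
  · exact ⟨0, (((isSheaf_iff_isSheaf_of_type _ _).1 ((sheafCompose K (forget AddCommGrpCat.{u + 1})).obj G).property)
      _ hbot).isSeparatedFor.ext fun _ _ h => h.elim⟩
  · exact h'

include hu in
theorem preservesFiniteColimits
    (h : (v.sheafPushforwardContinuous AddCommGrpCat.{u + 1} J K).IsRightAdjoint) :
    PreservesFiniteColimits (v.sheafPushforwardContinuous AddCommGrpCat.{u + 1} J K) := by
  haveI := h
  haveI : PreservesLimitsOfSize.{0, 0} (v.sheafPushforwardContinuous AddCommGrpCat.{u + 1} J K) :=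
    (Adjunction.ofIsRightAdjoint _).rightAdjoint_preservesLimits
  haveI : (v.sheafPushforwardContinuous AddCommGrpCat.{u + 1} J K).Additive :=
    Functor.additive_of_preserves_binary_products _
  haveI : (v.sheafPushforwardContinuous AddCommGrpCat.{u + 1} J K).PreservesEpimorphisms :=
    ⟨fun φ hφ => epi_map J K v hu φ⟩
  haveI : (v.sheafPushforwardContinuous AddCommGrpCat.{u + 1} J K).PreservesHomology :=
    Functor.preservesHomology_of_preservesEpis_and_kernels _
  exact Functor.preservesFiniteColimits_of_preservesHomology _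

end Groth.Agent.H13Desc.AlmostCocontBig
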