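import Mathlib

/-!
# Exactness of the Amitsur complex
-/

set_option autoImplicit false
set_option linter.style.haveILetI false

universe u

open CategoryTheory CategoryTheory.Limits AlgebraicTopology TensorProduct
open scoped Simplicial

namespace Groth.Agent.H13Desc.Amitsur

variable (R A : Type u) [CommRing R] [CommRing A] [Algebra R A]

/-- The arrow `R → A`. -/
abbrev arr : Arrow CommRingCat.{u} := Arrow.mk (CommRingCat.ofHom (algebraMap R A))

/-- The terms of the conerve. -/
noncomputable def Y (n : ℕ) : CommRingCat.{u} :=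
  widePushout (CommRingCat.of R) (fun _ : Fin (n + 1) => CommRingCat.of A)
    (fun _ => CommRingCat.ofHom (algebraMap R A))

noncomputable def ι (n : ℕ) (i : Fin (n + 1)) : CommRingCat.of A ⟶ Y R A n :=
  WidePushout.ι (fun _ : Fin (n + 1) => CommRingCat.ofHom (algebraMap R A)) i

noncomputable instance (n : ℕ) : Algebra R (Y R A n) :=
  (WidePushout.head (fun _ : Fin (n + 1) => CommRingCat.ofHom (algebraMap R A))).hom.toAlgebra

theorem ι_algebraMap (n : ℕ) (i : Fin (n + 1)) (r : R) :
    ι R A n i (algebraMap R A r) = algebraMap R (Y R A n) r := by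
  have h : CommRingCat.ofHom (algebraMap R A) ≫ ι R A n i =
      WidePushout.head (fun _ : Fin (n + 1) => CommRingCat.ofHom (algebraMap R A)) :=
    WidePushout.arrow_ι (fun _ : Fin (n + 1) => CommRingCat.ofHom (algebraMap R A)) i
  exact ConcreteCategory.congr_hom h r

/-- The coface maps. -/
noncomputable def δ (n : ℕ) (i : Fin (n + 2)) : Y R A n →ₐ[R] Y R A (n + 1) where
  toRingHom := ((arr R A).cechConerve.δ i).hom
  commutes' r := by
    have h : WidePushout.head (fun _ : Fin (n + 1) => CommRingCat.ofHom (algebraMap R A)) ≫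
        (arr R A).cechConerve.δ i =
        WidePushout.head (fun _ : Fin (n + 2) => CommRingCat.ofHom (algebraMap R A)) :=
      WidePushout.head_desc _ _ _ _
    exact ConcreteCategory.congr_hom h r

theorem δ_ι (n : ℕ) (i : Fin (n + 2)) (j : Fin (n + 1)) (a : A) :
    δ R A n i (ι R A n j a) = ι R A (n + 1) (i.succAbove j) a := by
  have h : ι R A n j ≫ (arr R A).cechConerve.δ i = ι R A (n + 1) (i.succAbove j) :=
    WidePushout.ι_desc _ _ _ _ j
  exact ConcreteCategory.congr_hom h a

theorem algHom_ext {n : ℕ} {B : Type u} [CommRing B] [Algebra R B] {f g : Y R A n →ₐ[R] B}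
    (h : ∀ j a, f (ι R A n j a) = g (ι R A n j a)) : f = g := by
  have h' : CommRingCat.ofHom f.toRingHom = CommRingCat.ofHom g.toRingHom := by
    refine WidePushout.hom_ext _ _ _ (fun j => ?_) ?_
    · ext a
      exact h j a
    · ext r
      exact (f.commutes r).trans (g.commutes r).symm
  exact AlgHom.ext fun x => ConcreteCategory.congr_hom h' x

/-- The slot maps of the contraction. -/
noncomputable def slot (n : ℕ) : Fin (n + 2) → (CommRingCat.of A ⟶ CommRingCat.of (A ⊗[R] Y R A n)) :=
  Fin.cases (CommRingCat.ofHom (Algebra.TensorProduct.includeLeft (R := R) (S := R)).toRingHom)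
    fun j => ι R A n j ≫ CommRingCat.ofHom
      (Algebra.TensorProduct.includeRight : Y R A n →ₐ[R] A ⊗[R] Y R A n).toRingHom

theorem slot_zero (n : ℕ) (a : A) : slot R A n 0 a = a ⊗ₜ 1 := rfl

theorem slot_succ (n : ℕ) (j : Fin (n + 1)) (a : A) : slot R A n j.succ a = 1 ⊗ₜ ι R A n j a := by
  rw [slot, Fin.cases_succ]
  rfl

/-- The shift as a ring map. -/
noncomputable def shiftHom (n : ℕ) : Y R A (n + 1) ⟶ CommRingCat.of (A ⊗[R] Y R A n) :=
  WidePushout.desc (CommRingCat.ofHom (algebraMap R (A ⊗[R] Y R A n))) (slot R A n)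
    (fun i => by
      ext r
      induction i using Fin.cases with
      | zero => exact (slot_zero R A n _).trans (Algebra.TensorProduct.algebraMap_apply (R := R) (S := R) r).symm
      | succ j =>
        refine (slot_succ R A n j (algebraMap R A r)).trans ?_
        show _ = algebraMap R (A ⊗[R] Y R A n) r
        rw [ι_algebraMap, Algebra.TensorProduct.algebraMap_apply, Algebra.algebraMap_eq_smul_one,
          Algebra.algebraMap_eq_smul_one, TensorProduct.smul_tmul])

/-- The shift `Y (n+1) → A ⊗ Y n`. -/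
noncomputable def shift (n : ℕ) : Y R A (n + 1) →ₐ[R] A ⊗[R] Y R A n where
  toRingHom := (shiftHom R A n).hom
  commutes' r := by
    have h : WidePushout.head (fun _ : Fin (n + 2) => CommRingCat.ofHom (algebraMap R A)) ≫ shiftHom R A n =
        CommRingCat.ofHom (algebraMap R (A ⊗[R] Y R A n)) := WidePushout.head_desc _ _ _ _
    exact ConcreteCategory.congr_hom h r

theorem shift_ι (n : ℕ) (i : Fin (n + 2)) (a : A) : shift R A n (ι R A (n + 1) i a) = slot R A n i a := by
  have h : ι R A (n + 1) i ≫ shiftHom R A n = slot R A n i := WidePushout.ι_desc _ _ _ _ i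
  exact ConcreteCategory.congr_hom h a

/-- The contraction. -/
noncomputable def H (n : ℕ) : A ⊗[R] Y R A (n + 1) →ₐ[R] A ⊗[R] Y R A n :=
  Algebra.TensorProduct.lift Algebra.TensorProduct.includeLeft (shift R A n) fun _ _ => Commute.all _ _

theorem H_tmul (n : ℕ) (a : A) (y : Y R A (n + 1)) : H R A n (a ⊗ₜ y) = (a ⊗ₜ 1) * shift R A n y :=
  Algebra.TensorProduct.lift_tmul _ _ _ _ _

/-- The base change of a coface map. -/
noncomputable abbrev δA (n : ℕ) (i : Fin (n + 2)) : A ⊗[R] Y R A n →ₐ[R] A ⊗[R] Y R A (n + 1) :=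
  Algebra.TensorProduct.map (AlgHom.id R A) (δ R A n i)

theorem H_δA_zero (n : ℕ) : (H R A n).comp (δA R A n 0) = AlgHom.id R _ := by
  refine Algebra.TensorProduct.ext (AlgHom.ext fun a => ?_) (algHom_ext R A fun j a => ?_)
  · simp [H_tmul]
  · show H R A n (δA R A n 0 (1 ⊗ₜ ι R A n j a)) = 1 ⊗ₜ ι R A n j a
    rw [Algebra.TensorProduct.map_tmul, H_tmul, AlgHom.id_apply, δ_ι, Fin.succAbove_zero, shift_ι,
      slot_succ, Algebra.TensorProduct.tmul_mul_tmul, one_mul, one_mul]

theorem H_δA_succ (n : ℕ) (i : Fin (n + 2)) :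
    (H R A (n + 1)).comp (δA R A (n + 1) i.succ) = (δA R A n i).comp (H R A n) := by
  refine Algebra.TensorProduct.ext (AlgHom.ext fun a => ?_) (algHom_ext R A fun j a => ?_)
  · simp [H_tmul]
  · show H R A (n + 1) (δA R A (n + 1) i.succ (1 ⊗ₜ ι R A (n + 1) j a)) =
      δA R A n i (H R A n (1 ⊗ₜ ι R A (n + 1) j a))
    rw [Algebra.TensorProduct.map_tmul, H_tmul, AlgHom.id_apply, δ_ι, H_tmul, map_mul,
      Algebra.TensorProduct.map_tmul, AlgHom.id_apply, map_one, shift_ι, shift_ι]
    induction j using Fin.cases with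
    | zero =>
      rw [Fin.succ_succAbove_zero, slot_zero, slot_zero, Algebra.TensorProduct.map_tmul, AlgHom.id_apply, map_one]
    | succ k =>
      rw [Fin.succ_succAbove_succ, slot_succ, slot_succ, Algebra.TensorProduct.map_tmul, AlgHom.id_apply, δ_ι]

/-- The differential. -/
noncomputable def d (n : ℕ) : Y R A n →ₗ[R] Y R A (n + 1) :=
  ∑ i : Fin (n + 2), (-1 : ℤ) ^ (i : ℕ) • (δ R A n i).toLinearMap

theorem contraction (n : ℕ) (x : A ⊗[R] Y R A (n + 1)) :
    H R A (n + 1) ((d R A (n + 1)).lTensor A x) + (d R A n).lTensor A (H R A n x) = x := by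
  have hd : ∀ (m : ℕ) (z : A ⊗[R] Y R A m), (d R A m).lTensor A z =
      ∑ i : Fin (m + 2), (-1 : ℤ) ^ (i : ℕ) • δA R A m i z := by
    intro m z
    induction z using TensorProduct.induction_on with
    | zero => simp
    | tmul a y => simp only [d, LinearMap.lTensor_tmul, LinearMap.sum_apply, LinearMap.smul_apply,
        TensorProduct.tmul_sum, TensorProduct.tmul_smul, Algebra.TensorProduct.map_tmul, AlgHom.id_apply,
        AlgHom.toLinearMap_apply]
    | add a b ha hb => simp [map_add, ha, hb, Finset.sum_add_distrib, smul_add]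
  rw [hd, hd, map_sum, Fin.sum_univ_succ]
  have h0 : H R A (n + 1) (δA R A (n + 1) 0 x) = x := AlgHom.congr_fun (H_δA_zero R A (n + 1)) x
  have hs : ∀ i : Fin (n + 2), H R A (n + 1) (δA R A (n + 1) i.succ x) = δA R A n i (H R A n x) :=
    fun i => AlgHom.congr_fun (H_δA_succ R A n i) x
  rw [map_zsmul, h0, Fin.val_zero, pow_zero, one_smul, add_assoc, ← Finset.sum_add_distrib,
    Finset.sum_eq_zero (fun i _ => ?_), add_zero]
  rw [map_zsmul, hs, Fin.val_succ, pow_succ, ← add_smul, mul_neg_one, neg_add_cancel, zero_smul]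

theorem hom_sum_apply {M N : AddCommGrpCat.{u}} {ι' : Type*} (s : Finset ι') (f : ι' → (M ⟶ N)) (z : M) :
    (∑ i ∈ s, f i) z = ∑ i ∈ s, f i z := by
  classical
  induction s using Finset.induction with
  | empty => rfl
  | insert a s ha ih =>
    rw [Finset.sum_insert ha, Finset.sum_insert ha, ← ih]
    rfl

theorem d_eq (m : ℕ) (z : Y R A m) : d R A m z = AlternatingCofaceMapComplex.objD
    ((arr R A).cechConerve ⋙ forget₂ CommRingCat RingCat ⋙ forget₂ RingCat AddCommGrpCat) m z := by
  rw [AlternatingCofaceMapComplex.objD, d, LinearMap.sum_apply]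
  erw [hom_sum_apply]
  rfl

theorem d_comp_d_apply (n : ℕ) (x : Y R A n) : d R A (n + 1) (d R A n x) = 0 := by
  let X := (arr R A).cechConerve ⋙ forget₂ CommRingCat RingCat ⋙ forget₂ RingCat AddCommGrpCat
  have e := d_eq R A
  rw [e, e]
  exact ConcreteCategory.congr_hom (AlternatingCofaceMapComplex.d_squared X n) x

variable [Module.FaithfullyFlat R A]

theorem exact_d (n : ℕ) : Function.Exact (d R A n) (d R A (n + 1)) := by
  rw [← Module.FaithfullyFlat.lTensor_exact_iff_exact R A]
  refine fun x => ⟨fun hx => ⟨H R A n x, ?_⟩, ?_⟩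
  · have := contraction R A n x
    rwa [hx, map_zero, zero_add] at this
  · rintro ⟨z, rfl⟩
    rw [← LinearMap.comp_apply, ← LinearMap.lTensor_comp,
      show (d R A (n + 1)).comp (d R A n) = 0 from LinearMap.ext (d_comp_d_apply R A n)]
    simp

theorem exactAt (n : ℕ) (hn : 0 < n) :
    (AlternatingCofaceMapComplex.obj
      ((arr R A).cechConerve ⋙ forget₂ CommRingCat RingCat ⋙
        forget₂ RingCat AddCommGrpCat)).ExactAt n := by
  obtain ⟨m, rfl⟩ := Nat.exists_eq_add_one_of_ne_zero hn.ne'
  let X := (arr R A).cechConerve ⋙ forget₂ CommRingCat RingCat ⋙ forget₂ RingCat AddCommGrpCat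
  have e := d_eq R A
  rw [HomologicalComplex.exactAt_iff' _ m (m + 1) (m + 2) (by simp) (by simp), ShortComplex.ab_exact_iff]
  intro x hx
  simp only [AlternatingCofaceMapComplex.obj, HomologicalComplex.shortComplexFunctor'_obj_g,
    HomologicalComplex.shortComplexFunctor'_obj_f, CochainComplex.of_d] at hx ⊢
  erw [CochainComplex.of_d] at hx
  obtain ⟨y, hy⟩ := (exact_d R A m x).1 ((e _ x).trans hx)
  exact ⟨y, (e _ y).symm.trans hy⟩

end Groth.Agent.H13Desc.Amitsur
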