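import Groth.Agent.H13Desc.ProjNormal
import Groth.Agent.H28Bertini.Core
import Groth.Agent.H28Bertini.Regular
import Groth.Agent.H02CA.SmoothRegular
import Groth.Agent.H05EGA4.CompleteNormalization

/-!
# Generic hypersurface sections of cones regular off the vertex

A cone regular off the vertex is, on each `D(x_j)`, the product of the affine chart with the punctured line, so the
affine theorem of Bertini for the monomials of a given degree gives the generic hypersurface section.
-/

set_option autoImplicit false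
set_option linter.style.haveILetI false
set_option backward.isDefEq.respectTransparency false
set_option maxHeartbeats 400000

universe u

open MvPolynomial

namespace Groth.Agent.H13Desc.BertiniCI

theorem formallySmooth_of_retract {R A B : Type u} [CommRing R] [CommRing A] [CommRing B] [Algebra R A]
    [Algebra R B] [Algebra.FormallySmooth R B] (i : A →ₐ[R] B) (p : B →ₐ[R] A) (h : p.comp i = AlgHom.id R A) :
    Algebra.FormallySmooth R A := by
  refine .of_comp_surjective fun C _ _ I hI f => ?_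
  obtain ⟨g, hg⟩ := Algebra.FormallySmooth.comp_surjective R B I hI (f.comp p)
  exact ⟨g.comp i, by rw [← AlgHom.comp_assoc, hg, AlgHom.comp_assoc, h, AlgHom.comp_id]⟩

theorem exists_localization_equiv {R : Type u} [CommRing R] {L : Type u} [CommRing L] [Algebra R L]
    (M : Submonoid R) [IsLocalization M L] (P : Ideal L) [P.IsPrime] :
    Nonempty (Localization.AtPrime (P.comap (algebraMap R L)) ≃+* Localization.AtPrime P) :=
  haveI : IsLocalization.AtPrime (Localization.AtPrime P) (P.comap (algebraMap R L)) :=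
    IsLocalization.isLocalization_isLocalization_atPrime_isLocalization M (Localization.AtPrime P) P
  ⟨(IsLocalization.algEquiv (P.comap (algebraMap R L)).primeCompl (Localization.AtPrime (P.comap (algebraMap R L)))
    (Localization.AtPrime P)).toRingEquiv⟩

theorem smooth_quotient {k A L : Type u} [CommRing k] [CommRing A] [CommRing L] [Algebra k A] [Algebra k L] [Algebra A L]
    [IsScalarTower k A L] [Algebra.Smooth A L] (I : Ideal A) [Algebra.Smooth k (A ⧸ I)] :
    Algebra.Smooth k (L ⧸ I.map (algebraMap A L)) := by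
  haveI : Algebra.Smooth k (TensorProduct A (A ⧸ I) L) := Algebra.Smooth.comp k (A ⧸ I) _
  exact Algebra.Smooth.of_equiv (((Algebra.TensorProduct.comm A (A ⧸ I) L).trans
    ((Algebra.TensorProduct.quotIdealMapEquivTensorQuot L I).symm.restrictScalars A)).restrictScalars k)

theorem regular_of_surjective {R L R' : Type u} [CommRing R] [CommRing L] [CommRing R'] [Algebra R L] (x : R)
    [IsLocalization.Away x L] (π : R →+* R') (hπ : Function.Surjective π) (K : Ideal L) [IsRegularRing (L ⧸ K)]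
    (hK : (RingHom.ker π).map (algebraMap R L) = K) (Q : Ideal R') [hQp : Q.IsPrime] (hQ : π x ∉ Q) :
    IsRegularLocalRing (Localization.AtPrime Q) := by
  let g' : R' →+* L ⧸ K := π.liftOfSurjective hπ ⟨(Ideal.Quotient.mk K).comp (algebraMap R L), fun z hz =>
    Ideal.Quotient.eq_zero_iff_mem.2 (hK ▸ Ideal.mem_map_of_mem _ hz)⟩
  letI : Algebra R' (L ⧸ K) := g'.toAlgebra
  let M := Submonoid.powers x
  haveI hloc : IsLocalization (M.map π) (L ⧸ K) :=
    IsLocalization.of_surjective M L π hπ (Ideal.Quotient.mk K) Ideal.Quotient.mk_surjective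
      (RingHom.ext fun z => (RingHom.liftOfRightInverse_comp_apply π _ (Function.rightInverse_surjInv hπ)
        ⟨(Ideal.Quotient.mk K).comp (algebraMap R L), fun w hw =>
          Ideal.Quotient.eq_zero_iff_mem.2 (hK ▸ Ideal.mem_map_of_mem _ hw)⟩ z).symm) (by rw [Ideal.mk_ker, hK])
  have hdisj : Disjoint ((M.map π : Submonoid R') : Set R') (Q : Set R') := by
    rw [Set.disjoint_left]
    rintro _ ⟨z, ⟨m, rfl⟩, rfl⟩ hz
    exact hQ (hQp.mem_of_pow_mem m (by simpa using hz))
  let Q' : Ideal (L ⧸ K) := Q.map (algebraMap R' (L ⧸ K))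
  haveI hQ' : Q'.IsPrime := IsLocalization.isPrime_of_isPrime_disjoint (M.map π) _ Q hQp hdisj
  obtain ⟨eq⟩ := exists_localization_equiv (M.map π) Q'
  have hQQ : Q'.comap (algebraMap R' (L ⧸ K)) = Q :=
    IsLocalization.under_map_of_isPrime_disjoint (M.map π) _ hQp hdisj
  have h : IsRegularLocalRing (Localization.AtPrime (Q'.comap (algebraMap R' (L ⧸ K)))) :=
    IsRegularLocalRing.of_ringEquiv eq.symm
  have key : ∀ (q : Ideal R') [q.IsPrime], q = Q → IsRegularLocalRing (Localization.AtPrime q) →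
      IsRegularLocalRing (Localization.AtPrime Q) := fun q _ e h' => by subst e; exact h'
  exact key _ hQQ h


section Laurent

variable {k R L A : Type u} [CommRing k] [CommRing R] [CommRing L] [CommRing A] [Algebra k R] [Algebra k L]
  [Algebra R L] [IsScalarTower k R L] [Algebra k A] [Algebra A L] [IsScalarTower k A L] {σ : Type} (j : σ)
  {v : σ → A} (hA : Algebra.adjoin k (Set.range v) = ⊤) {y : σ → R} (hR : Algebra.adjoin k (Set.range y) = ⊤)
  [IsLocalization.Away (y j) L] (hvj : v j = 1) {w : L} (hw : algebraMap R L (y j) * w = 1)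
  (hv : ∀ l, algebraMap A L (v l) = algebraMap R L (y l) * w)
  (hlift : ∀ (C : Type u) [CommRing C] [Algebra k C] (φ : A →ₐ[k] C) (T : C),
    ∃ ψ : R →ₐ[k] C, ∀ l, ψ (y l) = φ (v l) * T)

include hA hvj hw hv hlift in
theorem formallySmooth_chart [Algebra.FormallySmooth k L] : Algebra.FormallySmooth k A := by
  obtain ⟨ψ, hψ⟩ := hlift A (AlgHom.id k A) 1
  have h1 : ψ (y j) = 1 := by rw [hψ, AlgHom.id_apply, hvj, mul_one]
  let ρ : L →ₐ[k] A := IsLocalization.liftAlgHom (M := Submonoid.powers (y j)) (f := ψ) (fun z => by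
    obtain ⟨m, hm⟩ := z.2
    rw [← hm, map_pow, h1, one_pow]
    exact isUnit_one)
  have hρ : ∀ r, ρ (algebraMap R L r) = ψ r := fun r => IsLocalization.lift_eq _ r
  have hρw : ρ w = 1 := by
    have h := congrArg ρ hw
    rwa [map_mul, map_one, hρ, h1, one_mul] at h
  refine formallySmooth_of_retract (IsScalarTower.toAlgHom k A L) ρ (AlgHom.ext_of_adjoin_eq_top hA ?_)
  rintro _ ⟨l, rfl⟩
  rw [AlgHom.comp_apply, IsScalarTower.coe_toAlgHom', hv, map_mul, hρ, hψ, hρw, AlgHom.id_apply,
    mul_one, mul_one]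

include hA hR hvj hw hv hlift in
theorem smooth_laurent : Algebra.Smooth A L := by
  let B := Localization.Away (Polynomial.X : Polynomial A)
  let T : B := algebraMap (Polynomial A) B Polynomial.X
  have hTu : IsUnit T := IsLocalization.Away.algebraMap_isUnit _
  let Φ₀ : Polynomial A →ₐ[A] L := Polynomial.aeval (algebraMap R L (y j))
  let Φ : B →ₐ[A] L := IsLocalization.liftAlgHom
    (M := Submonoid.powers (Polynomial.X : Polynomial A)) (f := Φ₀) (fun z => by
      obtain ⟨m, hm⟩ := z.2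
      rw [← hm, map_pow, show Φ₀ Polynomial.X = algebraMap R L (y j) from Polynomial.aeval_X _]
      exact (IsUnit.of_mul_eq_one _ hw).pow m)
  have hΦT : Φ T = algebraMap R L (y j) := (IsLocalization.lift_eq _ _).trans (Polynomial.aeval_X _)
  obtain ⟨ψ, hψ⟩ := hlift B (IsScalarTower.toAlgHom k A B) T
  have hψj : ψ (y j) = T := by rw [hψ, IsScalarTower.coe_toAlgHom', hvj, map_one, one_mul]
  let Ψ : L →ₐ[k] B := IsLocalization.liftAlgHom (M := Submonoid.powers (y j)) (f := ψ) (fun z => by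
    obtain ⟨m, hm⟩ := z.2
    rw [← hm, map_pow, hψj]
    exact hTu.pow m)
  have hΨ : ∀ r, Ψ (algebraMap R L r) = ψ r := fun r => IsLocalization.lift_eq _ r
  have ha : T * Ψ w = 1 := by
    have h := congrArg Ψ hw
    rwa [map_mul, map_one, hΨ, hψj] at h
  have hΨv : ∀ z : A, Ψ (algebraMap A L z) = algebraMap A B z := by
    have h : Ψ.comp (IsScalarTower.toAlgHom k A L) = IsScalarTower.toAlgHom k A B := by
      refine AlgHom.ext_of_adjoin_eq_top hA ?_
      rintro _ ⟨l, rfl⟩
      rw [AlgHom.comp_apply, IsScalarTower.coe_toAlgHom', hv, map_mul, hΨ, hψ, mul_assoc, ha, mul_one]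
    exact fun z => AlgHom.congr_fun h z
  have hΦΨ : ∀ z : L, Φ (Ψ z) = z := by
    suffices h : (Φ.restrictScalars k).comp Ψ = AlgHom.id k L from fun z => AlgHom.congr_fun h z
    refine IsLocalization.algHom_ext (Submonoid.powers (y j)) (AlgHom.ext_of_adjoin_eq_top hR ?_)
    rintro _ ⟨l, rfl⟩
    show Φ (Ψ (algebraMap R L (y l))) = algebraMap R L (y l)
    rw [hΨ, hψ, IsScalarTower.coe_toAlgHom', map_mul, hΦT, AlgHom.commutes, hv, mul_assoc,
      mul_comm w, hw, mul_one]
  have hΨΦ : ∀ z : B, Ψ (Φ z) = z := by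
    let Ψ' : L →ₐ[A] B := { Ψ.toRingHom with commutes' := hΨv }
    suffices h : Ψ'.comp Φ = AlgHom.id A B from fun z => AlgHom.congr_fun h z
    refine IsLocalization.algHom_ext (Submonoid.powers (Polynomial.X : Polynomial A)) ?_
    refine Polynomial.algHom_ext ?_
    show Ψ (Φ T) = T
    rw [hΦT, hΨ, hψj]
  let eBL : B ≃ₐ[A] L := AlgEquiv.ofBijective Φ
    ⟨Function.LeftInverse.injective hΨΦ, fun z => ⟨Ψ z, hΦΨ z⟩⟩
  haveI : Algebra.Smooth A (Polynomial A) := ⟨inferInstance, inferInstance⟩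
  haveI : Algebra.Smooth (Polynomial A) B :=
    Algebra.Smooth.of_isLocalization_Away (Polynomial.X : Polynomial A)
  haveI : Algebra.Smooth A B := Algebra.Smooth.comp A (Polynomial A) B
  exact Algebra.Smooth.of_equiv eBL

end Laurent

section

variable (k : Type u) [Field k] (n : ℕ)

noncomputable def monom (e : ℕ) (w : Fin e → Fin (n + 1)) : MvPolynomial (Fin (n + 1)) k := ∏ t, X (w t)

noncomputable def form (e : ℕ) (c : (Fin e → Fin (n + 1)) → k) : MvPolynomial (Fin (n + 1)) k :=
  ∑ w, C (c w) * monom k n e w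

theorem isHomogeneous_form (e : ℕ) (c : (Fin e → Fin (n + 1)) → k) : (form k n e c).IsHomogeneous e := by
  refine IsHomogeneous.sum _ _ _ fun w _ => ?_
  refine IsHomogeneous.C_mul ?_ _
  have h := IsHomogeneous.prod Finset.univ (fun t : Fin e => (X (w t) : MvPolynomial (Fin (n + 1)) k))
    (fun _ => 1) fun t _ => isHomogeneous_X k (w t)
  simpa [monom] using h

/-- The cone is regular away from its vertex. -/
def RegOff (J : Ideal (MvPolynomial (Fin (n + 1)) k)) : Prop :=
  ∀ (Q : Ideal (MvPolynomial (Fin (n + 1)) k ⧸ J)) [Q.IsPrime],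
    (∃ j, Ideal.Quotient.mk J (X j) ∉ Q) → IsRegularLocalRing (Localization.AtPrime Q)

variable {k n}

theorem aeval_smul_of_isHomogeneous {σ : Type} {B : Type u} [CommRing B] [Algebra k B] {p : MvPolynomial σ k} {d : ℕ}
    (hp : p.IsHomogeneous d) (y : σ → B) (a : B) : aeval (fun i => y i * a) p = aeval y p * a ^ d := by
  rw [p.as_sum, map_sum, map_sum, Finset.sum_mul]
  refine Finset.sum_congr rfl fun m hm => ?_
  rw [aeval_monomial, aeval_monomial, mul_assoc]
  congr 1
  simp only [Finsupp.prod, mul_pow, Finset.prod_mul_distrib, Finset.prod_pow_eq_pow_sum]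
  congr 2
  simpa [Finsupp.degree] using (hp.degree_eq_sum_deg_support hm).symm

end

section Chart

variable {k : Type u} [Field k] {n r : ℕ} (f : Fin r → MvPolynomial (Fin (n + 1)) k) (d : Fin r → ℕ)
  (hf : ∀ i, (f i).IsHomogeneous (d i)) (J : Ideal (MvPolynomial (Fin (n + 1)) k)) (j : Fin (n + 1))

/-- Functions on the cone away from `x_j = 0`. -/
abbrev L : Type u := Localization.Away (Ideal.Quotient.mk J (X j))

noncomputable def ι : MvPolynomial (Fin (n + 1)) k →ₐ[k] L J j :=
  (IsScalarTower.toAlgHom k (MvPolynomial (Fin (n + 1)) k ⧸ J) (L J j)).comp (Ideal.Quotient.mkₐ k J)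

theorem ι_apply (p : MvPolynomial (Fin (n + 1)) k) :
    ι J j p = algebraMap _ (L J j) (Ideal.Quotient.mk J p) := rfl

noncomputable def invX : L J j :=
  IsLocalization.Away.invSelf (R := MvPolynomial (Fin (n + 1)) k ⧸ J) (S := L J j) (Ideal.Quotient.mk J (X j))

theorem ι_mul_invX : ι J j (X j) * invX J j = 1 :=
  IsLocalization.Away.mul_invSelf (S := L J j) (Ideal.Quotient.mk J (X j))

noncomputable def uX (l : Fin (n + 1)) : L J j := ι J j (X l) * invX J j

/-- The affine chart of the cone. -/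
noncomputable abbrev A : Subalgebra k (L J j) := Algebra.adjoin k (Set.range (uX J j))

noncomputable def vX (l : Fin (n + 1)) : A J j := ⟨uX J j l, Algebra.subset_adjoin ⟨l, rfl⟩⟩

theorem coe_vX (l : Fin (n + 1)) : (vX J j l : L J j) = ι J j (X l) * invX J j := rfl

theorem vX_self : vX J j j = 1 := Subtype.ext (ι_mul_invX J j)

theorem adjoin_vX : Algebra.adjoin k (Set.range (vX J j)) = ⊤ := by
  have h : Algebra.adjoin k ((Subtype.val : A J j → L J j) ⁻¹' Set.range (uX J j)) = ⊤ :=
    Algebra.adjoin_adjoin_coe_preimage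
  rw [← h]
  congr 1
  ext x
  constructor
  · rintro ⟨l, rfl⟩
    exact ⟨l, rfl⟩
  · rintro ⟨l, hl⟩
    exact ⟨l, Subtype.ext hl⟩

theorem val_aeval_vX {p : MvPolynomial (Fin (n + 1)) k} {m : ℕ} (hp : p.IsHomogeneous m) :
    (aeval (vX J j) p : L J j) = ι J j p * invX J j ^ m := by
  have h1 : (aeval (vX J j) p : L J j) = aeval (uX J j) p := MvPolynomial.comp_aeval_apply _ (A J j).val p
  have h2 : ι J j = aeval (fun l => ι J j (X l)) := (MvPolynomial.aeval_unique _)
  rw [h1]
  refine Eq.trans ?_ (congrArg (fun z => z * invX J j ^ m) (AlgHom.congr_fun h2 p).symm)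
  exact aeval_smul_of_isHomogeneous hp (fun l => ι J j (X l)) (invX J j)

include hf in
theorem le_ker_vX (hJ : J = Ideal.span (Set.range f)) : J ≤ RingHom.ker (aeval (vX J j)) := by
  refine le_of_eq_of_le hJ (Ideal.span_le.2 ?_)
  rintro _ ⟨i, rfl⟩
  refine Subtype.ext ((val_aeval_vX J j (hf i)).trans ?_)
  rw [ι_apply, Ideal.Quotient.eq_zero_iff_mem.2 (hJ.ge (Ideal.subset_span ⟨i, rfl⟩)), map_zero, zero_mul]
  rfl

include hf in
theorem exists_lift_cone (hJ : J = Ideal.span (Set.range f)) (C : Type u) [CommRing C] [Algebra k C]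
    (φ : A J j →ₐ[k] C) (T : C) : ∃ ψ : (MvPolynomial (Fin (n + 1)) k ⧸ J) →ₐ[k] C,
      ∀ l, ψ (Ideal.Quotient.mk J (X l)) = φ (vX J j l) * T := by
  let ψ₀ : MvPolynomial (Fin (n + 1)) k →ₐ[k] C := aeval fun l => φ (vX J j l) * T
  have h : J ≤ RingHom.ker ψ₀ := by
    refine le_of_eq_of_le hJ (Ideal.span_le.2 ?_)
    rintro _ ⟨i, rfl⟩
    refine (aeval_smul_of_isHomogeneous (hf i) (fun l => φ (vX J j l)) T).trans ?_
    rw [← MvPolynomial.comp_aeval_apply (vX J j) φ (f i),
      show aeval (vX J j) (f i) = 0 from le_ker_vX f d hf J j hJ (hJ.ge (Ideal.subset_span ⟨i, rfl⟩)),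
      map_zero, zero_mul]
  exact ⟨Ideal.Quotient.liftₐ J ψ₀ fun p hp => h hp, fun l => MvPolynomial.aeval_X _ _⟩

theorem adjoin_mk_X : Algebra.adjoin k (Set.range fun l => Ideal.Quotient.mk J (X (R := k) l)) = ⊤ := by
  rw [show (Set.range fun l => Ideal.Quotient.mk J (X (R := k) l)) = Ideal.Quotient.mkₐ k J '' Set.range X from
    Set.range_comp' _ _, Algebra.adjoin_image, MvPolynomial.adjoin_range_X, Algebra.map_top, AlgHom.range_eq_top]
  exact Ideal.Quotient.mkₐ_surjective k J

include hf in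
theorem smooth_A [Algebra.Smooth k (L J j)] (hJ : J = Ideal.span (Set.range f)) : Algebra.Smooth k (A J j) := by
  haveI : Algebra.FiniteType k (A J j) := ⟨(Subalgebra.fg_top _).2 (Subalgebra.fg_def.2 ⟨_, Set.finite_range _, rfl⟩)⟩
  refine ⟨?_, Algebra.FinitePresentation.of_finiteType.1 inferInstance⟩
  exact formallySmooth_chart (L := L J j) (y := fun l => Ideal.Quotient.mk J (X l)) j (adjoin_vX J j) (vX_self J j)
    (ι_mul_invX J j) (fun l => rfl) (fun C _ _ φ T => exists_lift_cone f d hf J j hJ C φ T)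

include hf in
theorem smooth_L (hJ : J = Ideal.span (Set.range f)) : Algebra.Smooth (A J j) (L J j) :=
  smooth_laurent (L := L J j) (y := fun l => Ideal.Quotient.mk J (X l)) j (adjoin_vX J j) (adjoin_mk_X J)
    (vX_self J j) (ι_mul_invX J j) (fun l => rfl) (fun C _ _ φ T => exists_lift_cone f d hf J j hJ C φ T)

theorem regular_section (F : MvPolynomial (Fin (n + 1)) k) {e : ℕ} (hF : F.IsHomogeneous e)
    [Algebra.Smooth (A J j) (L J j)] [Algebra.Smooth k (A J j ⧸ Ideal.span {aeval (vX J j) F})]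
    (Q : Ideal (MvPolynomial (Fin (n + 1)) k ⧸ (J ⊔ Ideal.span {F}))) [Q.IsPrime]
    (hQ : Ideal.Quotient.mk _ (X j) ∉ Q) : IsRegularLocalRing (Localization.AtPrime Q) := by
  haveI := smooth_quotient (k := k) (A := A J j) (L := L J j) (Ideal.span {aeval (vX J j) F})
  let K : Ideal (L J j) := (Ideal.span {aeval (vX J j) F}).map (algebraMap (A J j) (L J j))
  haveI : IsRegularRing (L J j ⧸ K) := H02CA.isRegularRing_of_smooth k (L J j ⧸ K)
  refine regular_of_surjective (Ideal.Quotient.mk J (X j)) (L := L J j) (Ideal.Quotient.factor le_sup_left)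
    (Ideal.Quotient.factor_surjective _) K ?_ Q hQ
  have hu : IsUnit (invX J j ^ e) := (IsUnit.of_mul_eq_one_right _ (ι_mul_invX J j)).pow e
  dsimp only [K]
  rw [Ideal.Quotient.factor_ker, Ideal.map_sup, Ideal.map_quotient_self, bot_sup_eq, Ideal.map_span, Ideal.map_span,
    Ideal.map_span, Set.image_singleton, Set.image_singleton, Set.image_singleton,
    show algebraMap (A J j) (L J j) (aeval (vX J j) F) = (aeval (vX J j) F : L J j) from rfl, val_aeval_vX J j hF,
    Ideal.span_singleton_mul_right_unit hu]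
  rfl

end Chart

variable {k : Type u} [Field k] [IsAlgClosed k] {n r : ℕ} (f : Fin r → MvPolynomial (Fin (n + 1)) k) (d : Fin r → ℕ)
  (hf : ∀ i, (f i).IsHomogeneous (d i))

/-- The statement on one chart. -/
def Good (J : Ideal (MvPolynomial (Fin (n + 1)) k)) (j : Fin (n + 1)) (e : ℕ) (c : (Fin e → Fin (n + 1)) → k) : Prop :=
  X j ∉ J → form k n e c ∉ J ∧ ∀ (Q : Ideal (MvPolynomial (Fin (n + 1)) k ⧸ (J ⊔ Ideal.span {form k n e c}))) [Q.IsPrime],
    Ideal.Quotient.mk _ (X j) ∉ Q → IsRegularLocalRing (Localization.AtPrime Q)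

include hf in
theorem chart (J : Ideal (MvPolynomial (Fin (n + 1)) k)) (hJ : J = Ideal.span (Set.range f)) [J.IsPrime]
    (hreg : RegOff k n J) (j : Fin (n + 1)) {e : ℕ} (he : 0 < e) :
    ∃ g : MvPolynomial (Fin e → Fin (n + 1)) k, g ≠ 0 ∧ ∀ c, eval c g ≠ 0 → Good J j e c := by
  classical
  by_cases hxJ : X j ∈ J
  · exact ⟨1, one_ne_zero, fun c _ h => absurd hxJ h⟩
  let xj := Ideal.Quotient.mk J (X j)
  have hxj : xj ≠ 0 := fun h => hxJ (Ideal.Quotient.eq_zero_iff_mem.1 h)
  haveI : IsDomain (L J j) :=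
    IsLocalization.isDomain_of_le_nonZeroDivisors _ (powers_le_nonZeroDivisors_of_noZeroDivisors hxj)
  haveI : Algebra.FinitePresentation (MvPolynomial (Fin (n + 1)) k ⧸ J) (L J j) :=
    IsLocalization.Away.finitePresentation xj
  haveI : Algebra.FiniteType k (L J j) :=
    Algebra.FiniteType.trans (S := MvPolynomial (Fin (n + 1)) k ⧸ J) inferInstance inferInstance
  haveI : Algebra.Smooth k (L J j) := by
    refine H28Bertini.smooth_algebra_of_regular fun m _ => ?_
    obtain ⟨eq⟩ := exists_localization_equiv (Submonoid.powers xj) m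
    haveI := hreg (m.comap (algebraMap _ (L J j))) ⟨j, fun h => ‹m.IsMaximal›.ne_top
      (Ideal.eq_top_of_isUnit_mem m h (IsLocalization.Away.algebraMap_isUnit xj))⟩
    exact IsRegularLocalRing.of_ringEquiv eq
  haveI := smooth_A f d hf J j hJ
  haveI := smooth_L f d hf J j hJ
  -- Bertini for the monomials of degree `e`
  obtain ⟨N, hN⟩ := Nat.exists_eq_succ_of_ne_zero (Fintype.card_ne_zero (α := Fin e → Fin (n + 1)))
  let σ : Fin (N + 1) ≃ (Fin e → Fin (n + 1)) := (Fintype.equivFinOfCardEq hN).symm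
  let y : Fin (N + 1) → A J j := fun i => aeval (vX J j) (monom k n e (σ i))
  have hy : ∀ i, y i = ∏ t, vX J j (σ i t) := fun i => by
    simp only [y, monom, map_prod, MvPolynomial.aeval_X]
  have hy1 : y (σ.symm fun _ => j) = 1 := by simp [hy, vX_self]
  have hysurj : Function.Surjective (aeval y : MvPolynomial (Fin (N + 1)) k →ₐ[k] A J j) := by
    rw [← AlgHom.range_eq_top, eq_top_iff, ← adjoin_vX, Algebra.adjoin_le_iff]
    rintro _ ⟨l, rfl⟩
    refine ⟨X (σ.symm (Function.update (fun _ => j) (⟨0, he⟩ : Fin e) l)), ?_⟩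
    show aeval y (X _) = vX J j l
    rw [MvPolynomial.aeval_X, hy, Equiv.apply_symm_apply,
      Finset.prod_eq_single (⟨0, he⟩ : Fin e) (fun t _ ht => by rw [Function.update_of_ne ht, vX_self])
      (fun h => absurd (Finset.mem_univ _) h), Function.update_self]
  obtain ⟨g, hg0, hg⟩ := H28Bertini.exists_poly k (A J j) y (σ.symm fun _ => j) hy1 hysurj
  refine ⟨rename σ g, fun h => hg0 (rename_injective _ σ.injective (h.trans (map_zero _).symm)), fun c hc _ => ?_⟩
  rw [eval_rename] at hc
  obtain ⟨hne, hsm⟩ := hg _ hc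
  have hlin : (∑ i, algebraMap k (A J j) ((c ∘ σ) i) * y i) = aeval (vX J j) (form k n e c) := by
    rw [form, map_sum, ← Fintype.sum_equiv σ _ _ fun i => rfl]
    simp [y]
  rw [hlin] at hne hsm
  refine ⟨fun h => hne (Subtype.ext ?_), fun Q hQp hQ => ?_⟩
  · rw [val_aeval_vX J j (isHomogeneous_form k n e c), ι_apply, Ideal.Quotient.eq_zero_iff_mem.2 h, map_zero,
      zero_mul]
    rfl
  · haveI := hsm
    exact regular_section J j (form k n e c) (isHomogeneous_form k n e c) Q hQ

include hf in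
theorem step (J : Ideal (MvPolynomial (Fin (n + 1)) k)) (hJ : J = Ideal.span (Set.range f)) [J.IsPrime]
    (hreg : RegOff k n J) {e : ℕ} (he : 0 < e) :
    ∃ g : MvPolynomial (Fin e → Fin (n + 1)) k, g ≠ 0 ∧ ∀ c, eval c g ≠ 0 →
      RegOff k n (J ⊔ Ideal.span {form k n e c}) ∧ ((∃ j, X j ∉ J) → form k n e c ∉ J) := by
  choose g hg0 hg using fun j => chart f d hf J hJ hreg j he
  refine ⟨∏ j, g j, Finset.prod_ne_zero_iff.2 fun j _ => hg0 j, fun c hc => ?_⟩
  rw [map_prod, Finset.prod_ne_zero_iff] at hc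
  refine ⟨fun Q hQp ⟨j, hj⟩ => ?_, fun ⟨j, hj⟩ => (hg j c (hc j (Finset.mem_univ j)) hj).1⟩
  refine (hg j c (hc j (Finset.mem_univ j)) fun h => hj ?_).2 Q hj
  rw [Ideal.Quotient.eq_zero_iff_mem.2 (Ideal.mem_sup_left h)]
  exact Q.zero_mem

end Groth.Agent.H13Desc.BertiniCI
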