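import Groth.Agent.H18Et.ClosedLift
import Groth.Agent.H13AlgSp.SmoothSection
import Groth.Prelude.Def_BigSite

/-!
# Base change along a closed immersion is almost cocontinuous on big étale and smooth sites
-/

set_option autoImplicit false
set_option linter.style.haveILetI false

universe u

open CategoryTheory CategoryTheory.Limits AlgebraicGeometry Opposite

namespace Groth.Agent.H13Desc.BigAlmost

theorem overEquiv_of_mem {Y : Scheme.{u}} {V : Over Y} (S : Sieve V) {W : Scheme.{u}} (q : W ⟶ V.left)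
    (h : S (Over.homMk q : Over.mk (q ≫ V.hom) ⟶ V)) : Sieve.overEquiv V S q :=
  (Sieve.overEquiv_iff S q).2 h

variable (P : MorphismProperty Scheme.{u}) [P.IsMultiplicative] [P.IsStableUnderBaseChange]

theorem bot_mem_J {Y : Scheme.{u}} (W : Over Y) [IsEmpty W.left] :
    (⊥ : Sieve W) ∈ QuotSh.J (Scheme.precoverage P) Y W := by
  rw [QuotSh.J, GrothendieckTopology.mem_over_iff]
  convert Scheme.bot_mem_grothendieckTopology (P := P) W.left
  ext Z g
  simp [Sieve.overEquiv_iff]

theorem isAlmostCocontinuous (hPs : P ≤ @Smooth) (hPe : @Etale ≤ P) {X Y : Scheme.{u}} (f : X ⟶ Y)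
    [IsClosedImmersion f] :
    BigSite.IsAlmostCocontinuous (Over.pullback f) (QuotSh.J (Scheme.precoverage P) Y)
      (QuotSh.J (Scheme.precoverage P) X) := by
  intro V R hR
  let F := Over.pullback f
  let L := QuotSh.J (Scheme.precoverage P) X
  let R' : Sieve V :=
    { arrows := fun W g => (⊥ : Sieve (F.obj W)) ∈ L (F.obj W) ∨ R (F.map g)
      downward_closed := by
        intro W W' g h k
        rcases h with h | h
        · refine Or.inl ?_
          convert L.pullback_stable (F.map k) h
          ext Z a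
          simp
        · refine Or.inr ?_
          rw [Functor.map_comp]
          exact R.downward_closed h _ }
  refine ⟨R', ?_, fun W g hg => hg⟩
  -- points of the closed part lift
  rw [QuotSh.J, GrothendieckTopology.mem_over_iff] at hR
  obtain ⟨𝒰, h𝒰⟩ := Scheme.mem_grothendieckTopology_iff.1 hR
  let i : (F.obj V).left ⟶ V.left := pullback.fst V.hom f
  haveI : IsClosedImmersion i := inferInstanceAs (IsClosedImmersion (pullback.fst V.hom f))
  have key : ∀ z : (F.obj V).left, ∃ (W : Scheme.{u}) (q : W ⟶ V.left), Etale q ∧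
      i.base z ∈ Set.range q.base ∧ R' (Over.homMk q : Over.mk (q ≫ V.hom) ⟶ V) := by
    intro z
    obtain ⟨k, y, hy⟩ := Scheme.Cover.exists_eq 𝒰 z
    haveI : Smooth (𝒰.f k) := (MorphismProperty.le_def _).1 hPs (𝒰.f k) (Scheme.Cover.map_prop 𝒰 k)
    obtain ⟨U', e, r, he, hre, hz⟩ := Groth.Agent.H13AlgSp.SmoothSection.exists_etale_section (𝒰.f k) y
    rw [hy] at hz
    obtain ⟨u', hu'⟩ := hz
    obtain ⟨W, q, U'', j, a, -, hq, hj, ⟨u'', hu''⟩, hpb⟩ := Groth.Agent.H18Et.exists_etale_lift_closed i e u'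
    refine ⟨W, q, hq, ⟨a.base u'', ?_⟩, Or.inr ?_⟩
    · rw [← Scheme.Hom.comp_apply, hpb.w, Scheme.Hom.comp_apply, Scheme.Hom.comp_apply, hu'', hu']
    · let g : Over.mk (q ≫ V.hom) ⟶ V := Over.homMk q
      rw [← (Sieve.overEquiv ((Over.pullback f).obj V)).symm_apply_apply R, Sieve.overEquiv_symm_iff]
      have hbig : IsPullback a ((j ≫ e) ≫ pullback.snd V.hom f) (q ≫ V.hom) f :=
        hpb.paste_vert (IsPullback.of_hasPullback V.hom f)
      have hm : (F.map g).left = hbig.isoPullback.inv ≫ (j ≫ r) ≫ 𝒰.f k := by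
        refine Eq.trans ?_ (congrArg (fun t => hbig.isoPullback.inv ≫ t) (show j ≫ e = (j ≫ r) ≫ 𝒰.f k by rw [Category.assoc, hre]))
        apply pullback.hom_ext
        · show pullback.lift _ _ _ ≫ pullback.fst V.hom f = _
          rw [pullback.lift_fst, Category.assoc]
          rw [show (j ≫ e) ≫ pullback.fst V.hom f = a ≫ q from hpb.w.symm,
            IsPullback.isoPullback_inv_fst_assoc]
          rfl
        · show pullback.lift _ _ _ ≫ pullback.snd V.hom f = _
          rw [pullback.lift_snd, Category.assoc]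
          exact hbig.isoPullback_inv_snd.symm
      rw [show Over.Hom.left (F.map g) = _ from hm]
      exact Sieve.downward_closed _ (Sieve.downward_closed _ (h𝒰 _ _ ⟨k⟩) _) _
  choose W q hq hrange hR' using key
  let O : V.left.Opens := ⟨(Set.range i.base)ᶜ, i.isClosedEmbedding.isClosed_range.isOpen_compl⟩
  have hO : R' (Over.homMk O.ι : Over.mk (O.ι ≫ V.hom) ⟶ V) := by
    refine Or.inl ?_
    haveI : IsEmpty (F.obj (Over.mk (O.ι ≫ V.hom))).left := by
      refine ⟨fun w => ?_⟩
      let g : Over.mk (O.ι ≫ V.hom) ⟶ V := Over.homMk O.ι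
      have h1 : (F.map g).left ≫ i = pullback.fst (O.ι ≫ V.hom) f ≫ O.ι := pullback.lift_fst _ _ _
      have h2 := congrArg (fun φ => φ.base w) h1
      simp only [Scheme.Hom.comp_apply] at h2
      exact ((pullback.fst (O.ι ≫ V.hom) f).base w).2 ⟨_, h2⟩
    exact bot_mem_J P _
  let W' : Option (F.obj V).left → Scheme.{u} := fun o => o.elim O.toScheme W
  let f' : ∀ o, W' o ⟶ V.left := fun o => Option.rec (motive := fun o => W' o ⟶ V.left) O.ι q o
  have hmem : Presieve.ofArrows W' f' ∈ Scheme.precoverage P V.left := by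
    refine (Scheme.ofArrows_mem_precoverage_iff P).2 ⟨fun v => ?_, fun o => ?_⟩
    · by_cases hv : v ∈ Set.range i.base
      · obtain ⟨z, rfl⟩ := hv
        obtain ⟨w, hw⟩ := hrange z
        exact ⟨some z, w, hw⟩
      · exact ⟨none, ⟨v, hv⟩, rfl⟩
    · rcases o with _ | z
      · exact (MorphismProperty.le_def _).1 hPe O.ι (inferInstanceAs (Etale O.ι))
      · exact (MorphismProperty.le_def _).1 hPe (q z) (hq z)
  rw [QuotSh.J, GrothendieckTopology.mem_over_iff]
  refine GrothendieckTopology.superset_covering _ ?_ (Precoverage.generate_mem_toGrothendieck hmem)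
  rw [Sieve.generate_le_iff]
  rintro Z g ⟨o⟩
  rcases o with _ | z
  · exact overEquiv_of_mem R' O.ι hO
  · exact overEquiv_of_mem R' (q z) (hR' z)

end Groth.Agent.H13Desc.BigAlmost
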