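import Groth.Agent.S6184
import Groth.Agent.H13Desc.BigExact

/-!
# Restriction of the inverse image to a small site is the small inverse image
-/

set_option autoImplicit false

universe u

open CategoryTheory CategoryTheory.Limits AlgebraicGeometry Opposite

namespace Groth.Agent.H13Desc.BigRes

variable {T S : Scheme.{u}} (f : T ⟶ S)

set_option backward.isDefEq.respectTransparency.types false in
noncomputable def aBC : EtFppf.a S ⋙ Over.pullback f ≅ EtCoh.bc f ⋙ EtFppf.a T :=
  (MorphismProperty.Over.pullbackCompForgetIso (P := EtCoh.etaleMP) (Q := ⊤) f).symm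

noncomputable def pushRes :
    BigSite.pushBig Scheme.etalePrecoverage f AddCommGrpCat.{u + 1} ⋙ BigSite.resEt Scheme.etalePrecoverage S ≅
      BigSite.resEt Scheme.etalePrecoverage T ⋙ EtCoh.push f :=
  NatIso.ofComponents (fun F => (fullyFaithfulSheafToPresheaf _ _).preimageIso
    (Functor.isoWhiskerRight (NatIso.op (aBC f).symm) F.obj)) (fun h => by
    ext X x
    exact ConcreteCategory.congr_hom (h.hom.naturality _).symm x)

noncomputable def piPullIso :
    BigSite.piEtPull Scheme.etalePrecoverage S ⋙ BigSite.pullBig Scheme.etalePrecoverage f AddCommGrpCat.{u + 1} ≅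
      EtCoh.pull f ⋙ BigSite.piEtPull Scheme.etalePrecoverage T :=
  Adjunction.leftAdjointUniq
    (((BigSite.piEtAdj Scheme.etalePrecoverage S).comp
      (BigSite.bigAdj Scheme.etalePrecoverage f AddCommGrpCat.{u + 1})).ofNatIsoRight (pushRes f))
    ((EtCoh.pullPushAdj f).comp (BigSite.piEtAdj Scheme.etalePrecoverage T))

/-- `i_f⁻¹ π⁻¹ F ≅ f⁻¹ F`. -/
noncomputable def resPiIso (F : EtCoh.Ab S) :
    (BigSite.resEtAlong Scheme.etalePrecoverage f).obj ((BigSite.piEtPull Scheme.etalePrecoverage S).obj F) ≅
      (EtCoh.pull f).obj F :=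
  haveI := (Groth.Agent.S6184.result T).2 ((EtCoh.pull f).obj F)
  (BigSite.resEt Scheme.etalePrecoverage T).mapIso ((piPullIso f).app F) ≪≫
    (asIso ((BigSite.piEtAdj Scheme.etalePrecoverage T).unit.app ((EtCoh.pull f).obj F))).symm

end Groth.Agent.H13Desc.BigRes
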