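import Groth.Agent.H13Desc.BertiniCI
import Groth.Agent.H4Depth.Regular

/-!
# Existence of nonsingular complete intersections of prescribed degrees
-/

set_option autoImplicit false
set_option linter.style.haveILetI false
set_option backward.isDefEq.respectTransparency false

universe u

open MvPolynomial

namespace Groth.Agent.H13Desc.BertiniCI

theorem height_ker_constantCoeff (k : Type u) [Field k] (m : ℕ) :
    (RingHom.ker (constantCoeff (σ := Fin m) (R := k))).height = m := by
  let M0 := RingHom.ker (constantCoeff (σ := Fin m) (R := k))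
  haveI hmax : M0.IsMaximal := RingHom.ker_isMaximal_of_surjective _ fun a => ⟨C a, constantCoeff_C _ a⟩
  have h := H8Props.FieldDim.height_add_dim_quotient (k := k) (MvPolynomial (Fin m) k) M0
  rw [ringKrullDim_eq_zero_of_isField (Ideal.Quotient.maximal_ideal_iff_isField_quotient _ |>.mp hmax),
    add_zero, MvPolynomial.ringKrullDim_of_isNoetherianRing, ringKrullDim_eq_zero_of_field, zero_add,
    Nat.card_fin] at h
  exact_mod_cast h

variable (k : Type u) [Field k] [IsAlgClosed k] (n : ℕ)

theorem regOff_empty : RegOff k n (Ideal.span (Set.range (Fin.elim0 : Fin 0 → MvPolynomial (Fin (n + 1)) k))) := by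
  intro Q _ _
  have h0 : Ideal.span (Set.range (Fin.elim0 : Fin 0 → MvPolynomial (Fin (n + 1)) k)) = ⊥ := by
    rw [Set.range_eq_empty, Ideal.span_empty]
  haveI : IsRegularRing (MvPolynomial (Fin (n + 1)) k) := inferInstance
  haveI : IsRegularRing (MvPolynomial (Fin (n + 1)) k ⧸
      Ideal.span (Set.range (Fin.elim0 : Fin 0 → MvPolynomial (Fin (n + 1)) k))) :=
    IsRegularRing.of_ringEquiv ((RingEquiv.quotientBot _).symm.trans (Ideal.quotEquivOfEq h0.symm))
  infer_instance

theorem exists_ci (d : ℕ → ℕ) (hd : ∀ i, 0 < d i) : ∀ r, r < n →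
    ∃ f : Fin r → MvPolynomial (Fin (n + 1)) k, (∀ i, (f i).IsHomogeneous (d i)) ∧
      (∀ i, RegOff k n (Ideal.span {f i})) ∧ (Ideal.span (Set.range f)).IsPrime ∧
      (Ideal.span (Set.range f)).height = r ∧ RegOff k n (Ideal.span (Set.range f)) := by
  intro r
  induction r with
  | zero =>
    refine fun _ => ⟨Fin.elim0, fun i => i.elim0, fun i => i.elim0, ?_, ?_, regOff_empty k n⟩
    · rw [Set.range_eq_empty, Ideal.span_empty]
      exact Ideal.isPrime_bot
    · rw [Set.range_eq_empty, Ideal.span_empty]
      exact Ideal.height_bot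
  | succ r ih =>
    intro hr
    obtain ⟨f, hf, hfs, hp, hh, hreg⟩ := ih (Nat.lt_of_succ_lt hr)
    haveI := hp
    have hp0 : (Ideal.span (Set.range (Fin.elim0 : Fin 0 → MvPolynomial (Fin (n + 1)) k))).IsPrime := by
      rw [Set.range_eq_empty, Ideal.span_empty]
      exact Ideal.isPrime_bot
    haveI := hp0
    obtain ⟨g, hg0, hg⟩ := step f (fun i => d i) hf _ rfl hreg (hd r)
    obtain ⟨g', hg'0, hg'⟩ := step Fin.elim0 (fun i => i.elim0) (fun i => i.elim0) _ rfl (regOff_empty k n) (hd r)
    obtain ⟨c, hc⟩ : ∃ c, eval c (g * g') ≠ 0 := by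
      by_contra h
      push Not at h
      exact mul_ne_zero hg0 hg'0 (MvPolynomial.funext fun a => by simpa using h a)
    rw [map_mul, mul_ne_zero_iff] at hc
    obtain ⟨hreg', hnot⟩ := hg c hc.1
    obtain ⟨hsm, -⟩ := hg' c hc.2
    let F := form k n (d r) c
    have hF : F.IsHomogeneous (d r) := isHomogeneous_form k n (d r) c
    let f' : Fin (r + 1) → MvPolynomial (Fin (n + 1)) k := Fin.snoc f F
    have hspan : Ideal.span (Set.range f') = Ideal.span (Set.range f) ⊔ Ideal.span {F} := by
      rw [Fin.range_snoc, Set.insert_eq, Ideal.span_union, sup_comm]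
    have hsingle : RegOff k n (Ideal.span {F}) := by
      rw [show Ideal.span (Set.range (Fin.elim0 : Fin 0 → MvPolynomial (Fin (n + 1)) k)) ⊔ Ideal.span {F} =
        Ideal.span {F} by rw [Set.range_eq_empty, Ideal.span_empty, bot_sup_eq]] at hsm
      exact hsm
    have hf' : ∀ i, (f' i).IsHomogeneous (d i) := fun i => by
      refine Fin.lastCases ?_ (fun i => ?_) i
      · simpa [f'] using hF
      · simpa [f'] using hf i
    have hj : ∃ j, X j ∉ Ideal.span (Set.range f) := by
      by_contra h
      push Not at h
      rw [Saturated.eq_ker_constantCoeff k (n + 1) h, height_ker_constantCoeff, Nat.cast_inj] at hh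
      omega
    have hge : ((r + 1 : ℕ) : ℕ∞) ≤ (Ideal.span (Set.range f')).height := by
      rw [Ideal.height_eq_inf_minimalPrimes]
      refine le_iInf₂ fun q hq => ?_
      haveI := hq.1.1
      have hlt : Ideal.span (Set.range f) < q := by
        refine lt_of_le_of_ne ((hspan ▸ le_sup_left : Ideal.span (Set.range f) ≤ Ideal.span (Set.range f')).trans hq.1.2)
          fun he => hnot hj ?_
        rw [he]
        exact hq.1.2 (hspan ▸ Ideal.mem_sup_right (Ideal.mem_span_singleton_self F))
      have h1 := Ideal.height_strict_mono_of_isPrime hlt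
      rw [hh] at h1
      exact_mod_cast Order.add_one_le_of_lt h1
    have hne : Ideal.span (Set.range f') ≠ ⊤ := by
      intro ht
      have hle : Ideal.span (Set.range f') ≤ RingHom.ker (constantCoeff (σ := Fin (n + 1)) (R := k)) := by
        refine Ideal.span_le.2 ?_
        rintro _ ⟨i, rfl⟩
        show constantCoeff (f' i) = 0
        rw [constantCoeff_eq]
        exact (hf' i).coeff_eq_zero (by simpa using (hd i).ne)
      rw [ht, top_le_iff] at hle
      exact RingHom.ker_ne_top _ hle
    have hle : (Ideal.span (Set.range f')).height ≤ ((r + 1 : ℕ) : ℕ∞) := by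
      refine (Ideal.height_le_spanFinrank _ hne).trans (Nat.cast_le.2 ?_)
      refine (Submodule.spanFinrank_span_le_ncard_of_finite (Set.finite_range f')).trans ?_
      rw [← Set.image_univ]
      exact (Set.ncard_image_le Set.finite_univ).trans_eq (by simp [Set.ncard_univ])
    have hh' := le_antisymm hle hge
    have hreg'' : RegOff k n (Ideal.span (Set.range f')) := by
      rw [hspan]
      exact hreg'
    refine ⟨f', hf', fun i => ?_, ?_, hh', hreg''⟩
    · refine Fin.lastCases ?_ (fun i => ?_) i
      · simpa [f'] using hsingle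
      · simpa [f'] using hfs i
    · refine (Ideal.Quotient.isDomain_iff_prime _).1 (ProjNormal.result k (n + 1) (r + 1) f' (fun i => d i) hf'
        (fun i => hd i) (Nat.succ_lt_succ hr) hh' fun Q _ hQ => ?_).1
      haveI := hreg'' Q hQ
      exact ⟨H4Depth.isDomain_of_isRegularLocalRing (Localization.AtPrime Q),
        H05EGA4.isIntegrallyClosed_of_isRegularLocalRing (Localization.AtPrime Q)⟩

end Groth.Agent.H13Desc.BertiniCI
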