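import Mathlib.AlgebraicGeometry.Sites.BigZariski
import Mathlib.AlgebraicGeometry.Limits
import Mathlib.AlgebraicGeometry.Morphisms.QuasiCompact
import Mathlib.AlgebraicGeometry.Restrict
import Mathlib.CategoryTheory.Sites.Canonical
import Mathlib.CategoryTheory.Sites.Over

/-!
# Topologies defined by a class of quasi-compact morphisms
-/

set_option autoImplicit false
set_option linter.style.haveILetI false
set_option linter.unusedSectionVars false

universe v u

open CategoryTheory CategoryTheory.Limits AlgebraicGeometry Opposite TopologicalSpace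

namespace Groth.Agent.H13Desc.CTop

variable {S : Scheme.{u}} (C : MorphismProperty Scheme.{u})

/-- Finite `C`-covering data over one scheme over `S`, inside a sieve. -/
def Data {X : Over S} (R : Sieve X) {U : Scheme.{u}} (g : U ⟶ X.left) : Prop :=
  ∃ (κ : Type u) (_ : Finite κ) (V : κ → Over S) (φ : ∀ j, V j ⟶ X) (ψ : ∀ j, (V j).left ⟶ U),
    (∀ j, IsAffine (V j).left) ∧ (∀ j, R.arrows (φ j)) ∧ (∀ j, ψ j ≫ g = (φ j).left) ∧
      C (Limits.Sigma.desc ψ)

/-- Covering sieves. -/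
def Cov (X : Over S) (R : Sieve X) : Prop :=
  ∃ (ι : Type u) (U : ι → X.left.Opens), (∀ i, IsAffineOpen (U i)) ∧ ⨆ i, U i = ⊤ ∧
    ∀ i, Data C R (U i).ι

theorem cov_of_nhds {X : Over S} {R : Sieve X}
    (h : ∀ x : X.left, ∃ U : X.left.Opens, x ∈ U ∧ IsAffineOpen U ∧ Data C R (Scheme.Opens.ι U)) : Cov C X R := by
  choose U hx hU hd using h
  exact ⟨X.left, U, hU, eq_top_iff.2 fun x _ => Opens.mem_iSup.2 ⟨x, hx x⟩, hd⟩

variable [C.IsStableUnderBaseChange]

theorem pullback_desc {κ : Type u} [Finite κ] {A : κ → Scheme.{u}} {U W : Scheme.{u}} (ψ : ∀ j, A j ⟶ U)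
    (h : W ⟶ U) (hψ : C (Limits.Sigma.desc ψ)) :
    C (Limits.Sigma.desc fun p : κ × PUnit.{u + 1} => pullback.snd (ψ p.1) h) := by
  have hp := FinitaryPreExtensive.isPullback_sigmaDesc ψ (fun _ : PUnit.{u + 1} => h)
  have h1 := MorphismProperty.of_isPullback hp hψ
  let e : (∐ fun _ : PUnit.{u + 1} => W) ≅ W :=
    { hom := Limits.Sigma.desc fun _ => 𝟙 W
      inv := Limits.Sigma.ι (fun _ : PUnit.{u + 1} => W) PUnit.unit
      hom_inv_id := Limits.Sigma.hom_ext _ _ fun b => by simp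
      inv_hom_id := Limits.Sigma.ι_desc _ _ }
  haveI : IsIso e.hom := e.isIso_hom
  have h2 := (C.cancel_right_of_respectsIso _ e.hom).2 h1
  convert h2 using 1
  refine Limits.Sigma.hom_ext _ _ fun p => ?_
  simp [e]

variable [C.IsStableUnderComposition]
  (hcoprod : ∀ (κ : Type u) [Finite κ] (A B : κ → Scheme.{u}) (f : ∀ j, A j ⟶ B j),
    (∀ j, C (f j)) → C (Limits.Sigma.map f))
  (haff : ∀ (U : Scheme.{u}) [IsAffine U] (κ : Type u) [Finite κ] (V : κ → U.Opens),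
    (∀ j, IsAffineOpen (V j)) → ⨆ j, V j = ⊤ → C (Limits.Sigma.desc fun j => (V j).ι))

include haff in
theorem data_self {X : Over S} {U : X.left.Opens} (hU : IsAffineOpen U) : Data C (⊤ : Sieve X) (Scheme.Opens.ι U) := by
  haveI : IsAffine (U : Scheme.{u}) := hU
  let V : PUnit.{u + 1} → (U : Scheme.{u}).Opens := fun _ => ⊤
  exact ⟨PUnit.{u + 1}, inferInstance, fun j => Over.mk ((V j).ι ≫ (Scheme.Opens.ι U) ≫ X.hom),
    fun j => Over.homMk ((V j).ι ≫ (Scheme.Opens.ι U)) (by simp), fun j => (V j).ι,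
    fun j => (isAffineOpen_top (U : Scheme.{u})), fun _ => trivial, fun _ => rfl,
    haff U PUnit.{u + 1} V (fun _ => isAffineOpen_top _) (by simp [V])⟩

include hcoprod in
theorem desc_comp {α : Type u} [Finite α] {β : α → Type u} [∀ a, Finite (β a)] {A : α → Scheme.{u}}
    {B : ∀ a, β a → Scheme.{u}} {U : Scheme.{u}} (ψ : ∀ a, A a ⟶ U) (ξ : ∀ a b, B a b ⟶ A a)
    (hψ : C (Limits.Sigma.desc ψ)) (hξ : ∀ a, C (Limits.Sigma.desc (ξ a))) :
    C (Limits.Sigma.desc fun p : Σ a, β a => ξ p.1 p.2 ≫ ψ p.1) := by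
  have h1 : C (Limits.Sigma.map (fun a => Limits.Sigma.desc (ξ a)) ≫ Limits.Sigma.desc ψ) :=
    C.comp_mem _ _ (hcoprod α _ _ _ hξ) hψ
  let e : (∐ fun p : Σ a, β a => B p.1 p.2) ≅ ∐ fun a => ∐ B a :=
    { hom := Limits.Sigma.desc fun p =>
        Limits.Sigma.ι (B p.1) p.2 ≫ Limits.Sigma.ι (fun a => ∐ B a) p.1
      inv := Limits.Sigma.desc fun a =>
        Limits.Sigma.desc fun b => Limits.Sigma.ι (fun p : Σ a, β a => B p.1 p.2) ⟨a, b⟩
      hom_inv_id := Limits.Sigma.hom_ext _ _ fun p => by simp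
      inv_hom_id := Limits.Sigma.hom_ext _ _ fun a => Limits.Sigma.hom_ext _ _ fun b => by simp }
  haveI : IsIso e.hom := e.isIso_hom
  have h2 := (C.cancel_left_of_respectsIso e.hom _).2 h1
  convert h2 using 1
  refine Limits.Sigma.hom_ext _ _ fun p => ?_
  simp [e]

theorem data_pullback {X Y : Over S} (f : Y ⟶ X) {R : Sieve X} {U : X.left.Opens} (hU : IsAffineOpen U)
    (hd : Data C R (Scheme.Opens.ι U)) {W : Y.left.Opens} (hW : IsAffineOpen W) (hle : W ≤ f.left ⁻¹ᵁ U) :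
    Data C (R.pullback f) W.ι := by
  obtain ⟨κ, _, V, φ, ψ, hV, hR, hψg, hC⟩ := hd
  haveI : IsAffine (U : Scheme.{u}) := hU
  haveI : IsAffine (W : Scheme.{u}) := hW
  let h : (W : Scheme.{u}) ⟶ (U : Scheme.{u}) := f.left.resLE U W hle
  have hh : h ≫ (Scheme.Opens.ι U) = W.ι ≫ f.left := Scheme.Hom.resLE_comp_ι _ hle
  refine ⟨κ × PUnit.{u + 1}, inferInstance, fun p => Over.mk (pullback.snd (ψ p.1) h ≫ W.ι ≫ Y.hom),
    fun p => Over.homMk (pullback.snd (ψ p.1) h ≫ W.ι) (by simp), fun p => pullback.snd (ψ p.1) h,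
    fun p => ?_, fun p => ?_, fun _ => rfl, pullback_desc C ψ h hC⟩
  · haveI := hV p.1
    show IsAffine (pullback (ψ p.1) h)
    infer_instance
  · have hw : pullback.fst (ψ p.1) h ≫ (V p.1).hom = pullback.snd (ψ p.1) h ≫ W.ι ≫ Y.hom := by
      rw [← Over.w (φ p.1), ← hψg p.1, Category.assoc, pullback.condition_assoc, reassoc_of% hh, Over.w f]
    have e : (Over.homMk (pullback.snd (ψ p.1) h ≫ W.ι) (by simp) :
        Over.mk (pullback.snd (ψ p.1) h ≫ W.ι ≫ Y.hom) ⟶ Y) ≫ f =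
        (Over.homMk (pullback.fst (ψ p.1) h) hw :
          Over.mk (pullback.snd (ψ p.1) h ≫ W.ι ≫ Y.hom) ⟶ V p.1) ≫ φ p.1 := by
      ext : 1
      show (pullback.snd (ψ p.1) h ≫ W.ι) ≫ f.left = pullback.fst (ψ p.1) h ≫ (φ p.1).left
      rw [← hψg p.1, Category.assoc, ← hh, ← pullback.condition_assoc]
    show R.arrows (_ ≫ f)
    rw [e]
    exact R.downward_closed (hR p.1) _

theorem cov_pullback {X Y : Over S} (f : Y ⟶ X) {R : Sieve X} (hR : Cov C X R) :
    Cov C Y (R.pullback f) := by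
  obtain ⟨ι, U, hU, hcov, hd⟩ := hR
  refine cov_of_nhds C fun y => ?_
  obtain ⟨i, hi⟩ := Opens.mem_iSup.1 (hcov.ge (Opens.mem_top (f.left.base y)))
  obtain ⟨_, ⟨W, hW, rfl⟩, hyW, hle⟩ := Y.left.isBasis_affineOpens.exists_subset_of_mem_open
    (show y ∈ f.left ⁻¹ᵁ U i from hi) (f.left ⁻¹ᵁ U i).isOpen
  exact ⟨W, hyW, hW, data_pullback C f (hU i) (hd i) hW hle⟩

include hcoprod haff in
theorem data_trans {X : Over S} {R R' : Sieve X} {U : Scheme.{u}} {g : U ⟶ X.left} (hd : Data C R g)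
    (h : ∀ ⦃V : Over S⦄ (φ : V ⟶ X), R φ → Cov C V (R'.pullback φ)) : Data C R' g := by
  classical
  obtain ⟨κ, _, V, φ, ψ, hV, hR, hψg, hC⟩ := hd
  have key : ∀ j, ∃ (μ : Type u) (_ : Finite μ) (T : μ → Over S) (χ : ∀ m, T m ⟶ V j),
      (∀ m, IsAffine (T m).left) ∧ (∀ m, R'.arrows (χ m ≫ φ j)) ∧
        C (Limits.Sigma.desc fun m => (χ m).left) := by
    intro j
    haveI := hV j
    obtain ⟨ι, W, hW, hcov, hd⟩ := h (φ j) (hR j)
    obtain ⟨t, ht⟩ := isCompact_univ.elim_finite_subcover (fun i => ((W i) : Set (V j).left))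
      (fun i => (W i).isOpen) (fun x _ => by simpa using hcov.ge (Opens.mem_top x))
    choose μ hμ T χ ξ hT hR' hξg hξ using hd
    refine ⟨Σ i : t, μ i.1, inferInstance, fun m => T m.1.1 m.2, fun m => χ m.1.1 m.2,
      fun m => hT _ _, fun m => hR' _ _, ?_⟩
    have hcov' : ⨆ i : t, W i.1 = ⊤ := eq_top_iff.2 fun x _ => by
      simpa using ht (Set.mem_univ x)
    have h1 := haff (V j).left t (fun i => W i.1) (fun i => hW i.1) hcov'
    have h2 := desc_comp C hcoprod (β := fun i : t => μ i.1) (fun i : t => (W i.1).ι)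
      (fun i m => ξ i.1 m) h1 (fun i => hξ i.1)
    convert h2 using 3 with m
    exact (hξg m.1.1 m.2).symm
  choose μ hμ T χ hT hR' hχ using key
  refine ⟨Σ j, μ j, inferInstance, fun p => T p.1 p.2, fun p => χ p.1 p.2 ≫ φ p.1,
    fun p => (χ p.1 p.2).left ≫ ψ p.1, fun p => hT _ _, fun p => hR' _ _, fun p => by simp [hψg],
    desc_comp C hcoprod ψ (fun j m => (χ j m).left) hC hχ⟩

/-- The topology. -/
noncomputable def topology : GrothendieckTopology (Over S) where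
  sieves X := {R | Cov C X R}
  top_mem' X := cov_of_nhds C fun x => by
    obtain ⟨_, ⟨U, hU, rfl⟩, hx, -⟩ := X.left.isBasis_affineOpens.exists_subset_of_mem_open
      (Set.mem_univ x) isOpen_univ
    exact ⟨U, hx, hU, data_self C haff hU⟩
  pullback_stable' _ _ _ f hR := cov_pullback C f hR
  transitive' _ _ hR _ h := by
    obtain ⟨ι, U, hU, hcov, hd⟩ := hR
    exact ⟨ι, U, hU, hcov, fun i => data_trans C hcoprod haff (hd i) h⟩

theorem mem_zariski_over {X : Over S} (R : Sieve X) {ι : Type u} (U : ι → Over S) (c : ∀ i, U i ⟶ X)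
    [∀ i, IsOpenImmersion (c i).left] (hc : ∀ x : X.left, ∃ i, x ∈ Set.range (c i).left.base)
    (hR : ∀ i, R (c i)) : R ∈ Scheme.zariskiTopology.over S X := by
  rw [GrothendieckTopology.mem_over_iff]
  have hmem : Presieve.ofArrows (fun i => (U i).left) (fun i => (c i).left) ∈
      Scheme.precoverage @IsOpenImmersion X.left :=
    (Scheme.ofArrows_mem_precoverage_iff _).2 ⟨hc, fun i => inferInstance⟩
  refine GrothendieckTopology.superset_covering _ ?_ (Precoverage.generate_mem_toGrothendieck hmem)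
  rw [Sieve.generate_le_iff]
  rintro Z g ⟨i⟩
  rw [← (Sieve.overEquiv X).symm_apply_apply R] at hR
  exact (Sieve.overEquiv_symm_iff _ _).1 (hR i)

variable (hres : ∀ (W X' : Scheme.{u}) [IsAffine W] (f : X' ⟶ W), C f →
    ∀ (κ : Type u) [Finite κ] (A : κ → X'.Opens), (∀ l, IsAffineOpen (A l)) → ⨆ l, A l = ⊤ →
      C (Limits.Sigma.desc fun l => (A l).ι ≫ f))
  (hqc : ∀ {A B : Scheme.{u}} (f : A ⟶ B), C f → QuasiCompact f)

include haff in
theorem cov_of_zariski {X : Over S} {R : Sieve X} (hR : R ∈ Scheme.zariskiTopology.over S X) :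
    Cov C X R := by
  rw [GrothendieckTopology.mem_over_iff] at hR
  obtain ⟨𝒰, h𝒰⟩ := Scheme.mem_grothendieckTopology_iff.1 hR
  refine cov_of_nhds C fun x => ?_
  obtain ⟨k, y, hy⟩ := Scheme.Cover.exists_eq 𝒰 x
  haveI : IsOpenImmersion (𝒰.f k) := Scheme.Cover.map_prop 𝒰 k
  obtain ⟨_, ⟨U, hU, rfl⟩, hxU, hle⟩ := X.left.isBasis_affineOpens.exists_subset_of_mem_open
    (show x ∈ (𝒰.f k).opensRange from ⟨y, hy⟩) (𝒰.f k).opensRange.isOpen
  refine ⟨U, hxU, hU, ?_⟩
  obtain ⟨κ, hκ, V, φ, ψ, hV, -, hψg, hC⟩ := data_self C haff hU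
  refine ⟨κ, hκ, V, φ, ψ, hV, fun j => ?_, hψg, hC⟩
  rw [← (Sieve.overEquiv X).symm_apply_apply R, Sieve.overEquiv_symm_iff]
  let l : (U : Scheme.{u}) ⟶ 𝒰.X k := IsOpenImmersion.lift (𝒰.f k) (Scheme.Opens.ι U) (by
    rw [Scheme.Opens.range_ι]
    exact hle)
  rw [← hψg j, ← IsOpenImmersion.lift_fac (𝒰.f k) (Scheme.Opens.ι U) (by rw [Scheme.Opens.range_ι]; exact hle)]
  exact Sieve.downward_closed _ (Sieve.downward_closed _ (h𝒰 _ _ ⟨k⟩) _) _

include hres hqc in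
theorem cov_singleton {X X' : Over S} (f : X' ⟶ X) (hf : C f.left) :
    Cov C X (Sieve.generate (Presieve.singleton f)) := by
  classical
  refine cov_of_nhds C fun x => ?_
  obtain ⟨_, ⟨U, hU, rfl⟩, hxU, -⟩ := X.left.isBasis_affineOpens.exists_subset_of_mem_open
    (Set.mem_univ x) isOpen_univ
  refine ⟨U, hxU, hU, ?_⟩
  haveI : IsAffine (U : Scheme.{u}) := hU
  have hf' : C (f.left ∣_ U) := MorphismProperty.of_isPullback (isPullback_morphismRestrict f.left U).flip hf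
  haveI := hqc _ hf'
  haveI : CompactSpace ↥(f.left ⁻¹ᵁ U).toScheme := by
    have := QuasiCompact.compactSpace_of_compactSpace (f.left ∣_ U)
    exact this
  let P : Scheme.{u} := (f.left ⁻¹ᵁ U : Scheme.{u})
  obtain ⟨t, ht⟩ := isCompact_univ.elim_finite_subcover (fun W : P.affineOpens => ((W.1) : Set P))
    (fun W => W.1.isOpen) (fun y _ => by
      obtain ⟨_, ⟨W, hW, rfl⟩, hy, -⟩ := P.isBasis_affineOpens.exists_subset_of_mem_open
        (Set.mem_univ y) isOpen_univ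
      exact Set.mem_iUnion.2 ⟨⟨W, hW⟩, hy⟩)
  let ι' := (f.left ⁻¹ᵁ U).ι
  refine ⟨↥t, inferInstance, fun W => Over.mk ((W.1.1.ι ≫ ι') ≫ X'.hom),
    fun W => (Over.homMk (W.1.1.ι ≫ ι') rfl : Over.mk ((W.1.1.ι ≫ ι') ≫ X'.hom) ⟶ X') ≫ f,
    fun W => W.1.1.ι ≫ (f.left ∣_ U), fun W => W.1.2, fun W => ⟨_, _, f, ⟨⟩, rfl⟩, fun W => ?_,
    hres U P (f.left ∣_ U) hf' t (fun W => W.1.1) (fun W => W.1.2) (eq_top_iff.2 fun y _ => ?_)⟩
  · show (W.1.1.ι ≫ (f.left ∣_ U)) ≫ (Scheme.Opens.ι U) = (W.1.1.ι ≫ ι') ≫ f.left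
    rw [Category.assoc, morphismRestrict_ι, Category.assoc]
  · obtain ⟨W, hW⟩ := Set.mem_iUnion.1 (ht (Set.mem_univ y))
    obtain ⟨hW', hy⟩ := Set.mem_iUnion.1 hW
    exact Opens.mem_iSup.2 ⟨⟨W, hW'⟩, hy⟩

theorem isSheaf_of_zariski_of_singleton (F : (Over S)ᵒᵖ ⥤ Type v)
    (hZ : Presieve.IsSheaf (Scheme.zariskiTopology.over S) F)
    (hs : ∀ (X X' : Over S) (f : X' ⟶ X), C f.left → Presieve.IsSheafFor F (Presieve.singleton f))
    (X : Over S) (R : Sieve X) (hR : Cov C X R) : Presieve.IsSheafFor F (R : Presieve X) := by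
  let J' := Sheaf.finestTopologySingle F
  have hZJ : ∀ {X : Over S} {R : Sieve X}, R ∈ Scheme.zariskiTopology.over S X → R ∈ J' X :=
    fun {X R} hR Y g => hZ _ (GrothendieckTopology.pullback_stable _ g hR)
  have hCJ : ∀ {X X' : Over S} (f : X' ⟶ X), C f.left → Sieve.generate (Presieve.singleton f) ∈ J' X := by
    intro X X' f hf Y₀ g
    let P : Over S := Over.mk (pullback.snd f.left g.left ≫ Y₀.hom)
    let p₁ : P ⟶ X' := Over.homMk (pullback.fst f.left g.left) (by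
      show pullback.fst f.left g.left ≫ X'.hom = pullback.snd f.left g.left ≫ Y₀.hom
      rw [← Over.w f, ← Over.w g, pullback.condition_assoc])
    let p₂ : P ⟶ Y₀ := Over.homMk (pullback.snd f.left g.left) rfl
    have e : (Sieve.generate (Presieve.singleton f)).pullback g = Sieve.generate (Presieve.singleton p₂) := by
      ext Z h
      constructor
      · rintro ⟨_, a, _, ⟨⟩, ha⟩
        have hw : a.left ≫ f.left = h.left ≫ g.left := congrArg (fun t => t.left) ha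
        refine ⟨P, Over.homMk (pullback.lift a.left h.left hw) (by
          show pullback.lift a.left h.left hw ≫ pullback.snd f.left g.left ≫ Y₀.hom = Z.hom
          rw [pullback.lift_snd_assoc, Over.w h]), p₂, ⟨⟩, ?_⟩
        ext : 1
        exact pullback.lift_snd _ _ _
      · rintro ⟨_, a, _, ⟨⟩, rfl⟩
        refine ⟨X', a ≫ p₁, f, ⟨⟩, ?_⟩
        rw [Category.assoc, Category.assoc]
        congr 1
        ext : 1
        exact pullback.condition
    rw [e]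
    exact (Presieve.isSheafFor_iff_generate _).1 (hs _ _ p₂ (MorphismProperty.pullback_snd _ _ hf))
  obtain ⟨ι, U, hU, hcov, hd⟩ := hR
  suffices hRJ : R ∈ J' X by
    have := hRJ X (𝟙 X)
    rwa [Sieve.pullback_id] at this
  let UO : ι → Over S := fun i => Over.mk ((U i).ι ≫ X.hom)
  let c : ∀ i, UO i ⟶ X := fun i => Over.homMk (U i).ι rfl
  let R₀ : Sieve X := Sieve.generate (Presieve.ofArrows UO c)
  have hR₀ : R₀ ∈ J' X := hZJ (by
    haveI : ∀ i, IsOpenImmersion (c i).left := fun i => inferInstanceAs (IsOpenImmersion (U i).ι)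
    refine mem_zariski_over R₀ UO c (fun x => ?_) (fun i => ⟨_, 𝟙 _, c i, ⟨i⟩, Category.id_comp _⟩)
    obtain ⟨i, hi⟩ := Opens.mem_iSup.1 (hcov.ge (Opens.mem_top x))
    exact ⟨i, ⟨x, hi⟩, rfl⟩)
  refine J'.transitive hR₀ R ?_
  rintro Z h ⟨_, a, _, ⟨i⟩, rfl⟩
  rw [Sieve.pullback_comp]
  refine J'.pullback_stable a ?_
  obtain ⟨κ, _, V, φ, ψ, hV, hφR, hψg, hC⟩ := hd i
  let Q : Over S := Over.mk (Limits.Sigma.desc fun j => (V j).hom)
  let d : Q ⟶ UO i := Over.homMk (Limits.Sigma.desc ψ) (Limits.Sigma.hom_ext _ _ fun j => by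
    show Limits.Sigma.ι (fun j => (V j).left) j ≫ Limits.Sigma.desc ψ ≫ (U i).ι ≫ X.hom =
      Limits.Sigma.ι (fun j => (V j).left) j ≫ Limits.Sigma.desc (fun j => (V j).hom)
    rw [Limits.Sigma.ι_desc_assoc, Limits.Sigma.ι_desc, reassoc_of% (hψg j), Over.w (φ j)])
  refine J'.transitive (hCJ d hC) _ ?_
  rintro Z' h' ⟨_, a', _, ⟨⟩, rfl⟩
  rw [Sieve.pullback_comp]
  refine J'.pullback_stable a' (hZJ ?_)
  let q : ∀ j, V j ⟶ Q := fun j =>
    Over.homMk (Limits.Sigma.ι (fun j => (V j).left) j) (Limits.Sigma.ι_desc _ _)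
  haveI : ∀ j, IsOpenImmersion (q j).left := fun j =>
    inferInstanceAs (IsOpenImmersion (Limits.Sigma.ι (fun j => (V j).left) j))
  refine mem_zariski_over _ V q (fun x => ?_) fun j => ?_
  · obtain ⟨j, y, hy⟩ := (sigmaOpenCover fun j => (V j).left).exists_eq x
    exact ⟨j, y, hy⟩
  · show R.arrows ((q j ≫ d) ≫ c i)
    rw [show (q j ≫ d) ≫ c i = φ j from ?_]
    · exact hφR j
    · ext : 1
      show (Limits.Sigma.ι (fun j => (V j).left) j ≫ Limits.Sigma.desc ψ) ≫ (U i).ι = _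
      rw [Limits.Sigma.ι_desc, hψg]

end Groth.Agent.H13Desc.CTop
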