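import Mathlib.CategoryTheory.Limits.Shapes.Pullback.HasPullback
import Mathlib.CategoryTheory.MorphismProperty.Limits
import Mathlib.CategoryTheory.MorphismProperty.Composition
import Mathlib.CategoryTheory.ObjectProperty.FullSubcategory
import Mathlib.CategoryTheory.Whiskering
import Mathlib.Algebra.Category.Grp.EpiMono
import Mathlib.Algebra.Group.Subgroup.Ker
import Mathlib.GroupTheory.QuotientGroup.Basic

/-!
Cosheaves are determined by their values on a covering subcategory.
-/

universe w v u

open CategoryTheory CategoryTheory.Limits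

namespace Groth.Agent.H13Desc.Cosheaf

variable {C : Type u} [Category.{v} C] [HasPullbacks C] (W : MorphismProperty C)

/-- The cosheaf condition. -/
def IsCosheaf (F : C ⥤ AddCommGrpCat.{w}) : Prop :=
  ∀ ⦃Y X : C⦄ (π : Y ⟶ X), W π → Function.Surjective (F.map π).hom ∧
    (F.map π).hom.ker = ((F.map (pullback.fst π π)).hom - (F.map (pullback.snd π π)).hom).range

variable [W.IsStableUnderBaseChange] (D : ObjectProperty C)
  (hD : ∀ X : C, ∃ (Y : C) (π : Y ⟶ X), W π ∧ D Y)

variable {W D} {F G : C ⥤ AddCommGrpCat.{w}}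

include hD in
/-- Natural transformations agreeing on the subcategory agree. -/
theorem app_eq (hF : IsCosheaf W F) (η η' : F ⟶ G) (h : ∀ Y, D Y → η.app Y = η'.app Y) : η = η' := by
  ext X x
  obtain ⟨Y, π, hπ, hY⟩ := hD X
  obtain ⟨y, rfl⟩ := (hF π hπ).1 x
  have h1 := ConcreteCategory.congr_hom (η.naturality π) y
  have h2 := ConcreteCategory.congr_hom (η'.naturality π) y
  simp only [ConcreteCategory.comp_apply] at h1 h2
  exact h1.trans (Eq.trans (by rw [h Y hY]) h2.symm)

include hD in
/-- A natural family on the subcategory extends. -/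
theorem exists_extension (hF : IsCosheaf W F) (hG : IsCosheaf W G) [W.IsStableUnderComposition]
    (θ : ∀ Y, D Y → (F.obj Y ⟶ G.obj Y))
    (hθ : ∀ {Y Y' : C} (hY : D Y) (hY' : D Y') (g : Y ⟶ Y'), F.map g ≫ θ Y' hY' = θ Y hY ≫ G.map g) :
    ∃ η : F ⟶ G, ∀ Y (hY : D Y), η.app Y = θ Y hY := by
  choose Y π hπ hY using hD
  have key : ∀ (X : C) {Z : C} (hZ : D Z) (g : Z ⟶ X), W g → ∃ η : F.obj X ⟶ G.obj X,
      F.map g ≫ η = θ Z hZ ≫ G.map g := by
    intro X Z hZ g hg
    obtain ⟨hs, hk⟩ := hF g hg
    have hle : (F.map g).hom.ker ≤ (θ Z hZ ≫ G.map g).hom.ker := by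
      rw [hk]
      rintro _ ⟨w, rfl⟩
      obtain ⟨a, rfl⟩ := (hF (π (pullback g g)) (hπ _)).1 w
      have h1 := ConcreteCategory.congr_hom (hθ (hY _) hZ (π (pullback g g) ≫ pullback.fst g g)) a
      have h2 := ConcreteCategory.congr_hom (hθ (hY _) hZ (π (pullback g g) ≫ pullback.snd g g)) a
      simp only [Functor.map_comp, ConcreteCategory.comp_apply] at h1 h2
      rw [AddMonoidHom.mem_ker, AddMonoidHom.sub_apply, map_sub]
      show G.map g (θ Z hZ (F.map (pullback.fst g g) (F.map (π (pullback g g)) a))) -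
        G.map g (θ Z hZ (F.map (pullback.snd g g) (F.map (π (pullback g g)) a))) = 0
      rw [h1, h2, sub_eq_zero, ← ConcreteCategory.comp_apply, ← Functor.map_comp, pullback.condition,
        Functor.map_comp, ConcreteCategory.comp_apply]
    refine ⟨AddCommGrpCat.ofHom ((F.map g).hom.liftOfSurjective hs ⟨_, hle⟩), ?_⟩
    ext z
    exact (F.map g).hom.liftOfRightInverse_comp_apply _ (Function.rightInverse_surjInv hs) ⟨_, hle⟩ z
  choose η hη using fun X => key X (hY X) (π X) (hπ X)
  have indep : ∀ (X : C) {Z : C} (hZ : D Z) (g : Z ⟶ X), F.map g ≫ η X = θ Z hZ ≫ G.map g := by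
    intro X Z hZ g
    let P := pullback g (π X)
    have hP : W (pullback.fst g (π X)) := MorphismProperty.pullback_fst _ _ (hπ X)
    let q := π P ≫ pullback.fst g (π X)
    have hs : Epi (F.map q) := (AddCommGrpCat.epi_iff_surjective _).2 (hF q (W.comp_mem _ _ (hπ P) hP)).1
    rw [← cancel_epi (F.map q), ← Category.assoc, ← Functor.map_comp]
    have : q ≫ g = (π P ≫ pullback.snd g (π X)) ≫ π X := by simp [q, pullback.condition]
    rw [this, Functor.map_comp, Category.assoc, hη, ← Category.assoc, hθ (hY P) (hY X), Category.assoc,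
      ← Functor.map_comp, ← this, Functor.map_comp, ← Category.assoc, ← hθ (hY P) hZ, Category.assoc]
  refine ⟨{ app := η, naturality := fun X X' f => ?_ }, fun Z hZ => ?_⟩
  · have hs : Epi (F.map (π X)) := (AddCommGrpCat.epi_iff_surjective _).2 (hF _ (hπ X)).1
    rw [← cancel_epi (F.map (π X)), ← Category.assoc, ← Functor.map_comp, indep X' (hY X), Functor.map_comp,
      ← Category.assoc, ← Category.assoc, hη]
  · have := indep Z hZ (𝟙 Z)
    rwa [CategoryTheory.Functor.map_id, Category.id_comp, CategoryTheory.Functor.map_id, Category.comp_id] at this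

end Groth.Agent.H13Desc.Cosheaf
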