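import Groth.Prelude.Def_DescFam
import Mathlib.AlgebraicGeometry.Sites.Fpqc

set_option backward.isDefEq.respectTransparency false
set_option backward.isDefEq.respectTransparency.types false

universe w' w u

open CategoryTheory CategoryTheory.Limits AlgebraicGeometry
open Desc

namespace Groth.Agent.H13Desc

section liftsIso

variable {Y : Scheme.{u}} {A B : Over Y}
  (e : ∀ ⦃T : Scheme.{u}⦄ (x : T ⟶ Y), Lifts A x ≃ Lifts B x)
  (nat : ∀ ⦃T T' : Scheme.{u}⦄ (g : T' ⟶ T) (x : T ⟶ Y) (y : T' ⟶ Y) (_ : g ≫ x = y)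
    (v : Lifts A x) (v' : Lifts A y), v'.1 = g ≫ v.1 → (e y v').1 = g ≫ (e x v).1)

include nat in
theorem liftsEquiv_eq_comp {T : Scheme.{u}} (x : T ⟶ Y) (v : Lifts A x) :
    (e x v).1 = v.1 ≫ (e A.hom ⟨𝟙 _, Category.id_comp _⟩).1 :=
  nat v.1 A.hom x v.2 _ v (Category.comp_id _).symm

include nat in
theorem liftsEquiv_symm_nat ⦃T T' : Scheme.{u}⦄ (g : T' ⟶ T) (x : T ⟶ Y) (y : T' ⟶ Y) (hy : g ≫ x = y)
    (v : Lifts B x) (v' : Lifts B y) (h : v'.1 = g ≫ v.1) :
    ((e y).symm v').1 = g ≫ ((e x).symm v).1 := by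
  have : (e y).symm v' = ⟨g ≫ ((e x).symm v).1, by rw [Category.assoc, ((e x).symm v).2, hy]⟩ := by
    rw [Equiv.symm_apply_eq]
    apply Subtype.ext
    rw [nat g x y hy ((e x).symm v) _ rfl, Equiv.apply_symm_apply, h]
  rw [this]

/-- The isomorphism over `Y` defined by a natural bijection of points. -/
def liftsIso : A ≅ B where
  hom := Over.homMk (e A.hom ⟨𝟙 _, Category.id_comp _⟩).1 (e A.hom ⟨𝟙 _, Category.id_comp _⟩).2
  inv := Over.homMk ((e B.hom).symm ⟨𝟙 _, Category.id_comp _⟩).1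
    ((e B.hom).symm ⟨𝟙 _, Category.id_comp _⟩).2
  hom_inv_id := by
    apply Over.OverMorphism.ext
    simp only [Over.comp_left, Over.homMk_left, Over.id_left]
    rw [← liftsEquiv_eq_comp (fun T x => (e x).symm) (liftsEquiv_symm_nat e nat) A.hom,
      Equiv.symm_apply_apply]
  inv_hom_id := by
    apply Over.OverMorphism.ext
    simp only [Over.comp_left, Over.homMk_left, Over.id_left]
    rw [← liftsEquiv_eq_comp e nat B.hom, Equiv.apply_symm_apply]

include nat in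
theorem comp_liftsIso_hom {T : Scheme.{u}} (x : T ⟶ Y) (v : Lifts A x) :
    v.1 ≫ (liftsIso e nat).hom.left = (e x v).1 :=
  (liftsEquiv_eq_comp e nat x v).symm

end liftsIso

variable {S S' : Scheme.{u}} {ι : Type w} {X : ι → Scheme.{u}} {f : ∀ i, X i ⟶ S}
  {ι' : Type w'} {X' : ι' → Scheme.{u}} {f' : ∀ j, X' j ⟶ S'}

/-- Isomorphisms of descent data from compatible componentwise isomorphisms. -/
def ddFamIso {D E : SchDDFam f} (e : ∀ i, D.obj i ≅ E.obj i)
    (h : ∀ ⦃T : Scheme.{u}⦄ ⦃i j : ι⦄ (x₀ : T ⟶ X i) (x₁ : T ⟶ X j) (h : x₀ ≫ f i = x₁ ≫ f j)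
      (v : Lifts (D.obj i) x₀) (w : Lifts (E.obj i) x₀), w.1 = v.1 ≫ (e i).hom.left →
      (E.φ x₀ x₁ h w).1 = (D.φ x₀ x₁ h v).1 ≫ (e j).hom.left) : D ≅ E where
  hom := ⟨fun i => (e i).hom, h⟩
  inv := ⟨fun i => (e i).inv, fun T i j x₀ x₁ hx v w hw => by
    have hv : v.1 = w.1 ≫ (e i).hom.left := by
      rw [hw, Category.assoc, ← Over.comp_left, Iso.inv_hom_id, Over.id_left, Category.comp_id]
    rw [h x₀ x₁ hx w v hv, Category.assoc, ← Over.comp_left, Iso.hom_inv_id, Over.id_left,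
      Category.comp_id]⟩
  hom_inv_id := by ext i; simp
  inv_hom_id := by ext i; simp

/-- The gluing bijection only depends on the value of the point. -/
theorem phi_congr (D : SchDDFam f) {T : Scheme.{u}} {i j : ι} {x₀ x₀' : T ⟶ X i} {x₁ x₁' : T ⟶ X j}
    (h₀ : x₀ = x₀') (h₁ : x₁ = x₁') (h : x₀ ≫ f i = x₁ ≫ f j) (h' : x₀' ≫ f i = x₁' ≫ f j)
    (v : Lifts (D.obj i) x₀) (v' : Lifts (D.obj i) x₀') (hv : v.1 = v'.1) :
    (D.φ x₀ x₁ h v).1 = (D.φ x₀' x₁' h' v').1 := by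
  subst h₀ h₁
  rw [Subtype.ext hv]

theorem phi_self' (D : SchDDFam f) {T : Scheme.{u}} {i : ι} {x₀ x₁ : T ⟶ X i} (e : x₀ = x₁)
    (h : x₀ ≫ f i = x₁ ≫ f i) (v : Lifts (D.obj i) x₀) : (D.φ x₀ x₁ h v).1 = v.1 := by
  subst e
  rw [D.φ_self]

theorem hom_comm {D E : SchDDFam f} (a : D ⟶ E) {T : Scheme.{u}} {i j : ι} (x₀ : T ⟶ X i) (x₁ : T ⟶ X j)
    (h : x₀ ≫ f i = x₁ ≫ f j) (v : Lifts (D.obj i) x₀) :
    E.φ x₀ x₁ h (a.push v) = a.push (D.φ x₀ x₁ h v) :=
  Subtype.ext (a.comm x₀ x₁ h v (a.push v) rfl)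

section pull

variable {α : ι' → ι} {p : S' ⟶ S} {p' : ∀ j, X' j ⟶ X (α j)} (w : ∀ j, p' j ≫ f (α j) = f' j ≫ p)

/-- Points of a pulled-back datum. -/
noncomputable abbrev pullPts (D : SchDDFam f) (j : ι') {T : Scheme.{u}} (r : T ⟶ X' j) :
    Lifts (((pullDDFam w).obj D).obj j) r ≃ Lifts (D.obj (α j)) (r ≫ p' j) :=
  liftsPullbackEquiv (D.obj (α j)) (p' j) r

theorem pull_phi (D : SchDDFam f) {T : Scheme.{u}} {j₀ j₁ : ι'} (x₀ : T ⟶ X' j₀) (x₁ : T ⟶ X' j₁)
    (h : x₀ ≫ f' j₀ = x₁ ≫ f' j₁) (v : Lifts (((pullDDFam w).obj D).obj j₀) x₀) :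
    pullPts w D j₁ x₁ (((pullDDFam w).obj D).φ x₀ x₁ h v) =
      D.φ (x₀ ≫ p' j₀) (x₁ ≫ p' j₁) (pull_compat w x₀ x₁ h) (pullPts w D j₀ x₀ v) := by
  exact Equiv.apply_symm_apply _ _

theorem pullPts_natural (D : SchDDFam f) {T T' : Scheme.{u}} (g : T' ⟶ T) {j : ι'} (r : T ⟶ X' j)
    (r' : T' ⟶ X' j) (v : Lifts (((pullDDFam w).obj D).obj j) r)
    (v' : Lifts (((pullDDFam w).obj D).obj j) r') (hv : v'.1 = g ≫ v.1) :
    (pullPts w D j r' v').1 = g ≫ (pullPts w D j r v).1 := by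
  show v'.1 ≫ _ = g ≫ v.1 ≫ _
  rw [hv, Category.assoc]

theorem pullPts_symm_val (D : SchDDFam f) {T : Scheme.{u}} {j : ι'} (r : T ⟶ X' j)
    (u : Lifts (D.obj (α j)) (r ≫ p' j)) :
    ((pullPts w D j r).symm u).1 = pullback.lift u.1 r u.2 := rfl

theorem pullPts_push {D E : SchDDFam f} (a : D ⟶ E) {T : Scheme.{u}} {j : ι'} (r : T ⟶ X' j)
    (v : Lifts (((pullDDFam w).obj D).obj j) r) :
    pullPts w E j r (((pullDDFam w).map a).push v) = a.push (pullPts w D j r v) :=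
  Subtype.ext (by
    simp [SchDDFam.Hom.push, pullPts, liftsPullbackEquiv, pullDDFam, pullDDFamObj])

/-- Two morphisms of families with the same target map give isomorphic pullback functors. -/
noncomputable def pullDDFamIsoOfEq {β : ι' → ι} {p'' : ∀ j, X' j ⟶ X (β j)}
    (w' : ∀ j, p'' j ≫ f (β j) = f' j ≫ p) : pullDDFam w ≅ pullDDFam w' :=
  have hc : ∀ {T : Scheme.{u}} {j : ι'} (r : T ⟶ X' j),
      (r ≫ p' j) ≫ f (α j) = (r ≫ p'' j) ≫ f (β j) := fun r => by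
    rw [Category.assoc, w, Category.assoc, w']
  NatIso.ofComponents
    (fun D => ddFamIso
      (fun j => liftsIso
        (fun T r => (pullPts w D j r).trans ((D.φ _ _ (hc r)).trans (pullPts w' D j r).symm))
        (fun T T' g x y hy v v' hv => by
          subst hy
          simp only [Equiv.trans_apply, pullPts_symm_val]
          apply pullback.hom_ext
          · simp only [pullback.lift_fst, Category.assoc]
            exact D.φ_natural g _ _ (hc x) _ _ (Category.assoc _ _ _).symm (Category.assoc _ _ _).symm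
              (hc (g ≫ x)) _ _ (pullPts_natural w D g x (g ≫ x) v v' hv)
          · simp only [pullback.lift_snd, Category.assoc]))
      (fun T j₀ j₁ x₀ x₁ h v u hu => by
        rw [comp_liftsIso_hom] at hu ⊢
        obtain rfl := Subtype.ext hu
        refine congrArg Subtype.val ((pullPts w' D j₁ x₁).injective ?_)
        simp only [Equiv.trans_apply, pull_phi, Equiv.apply_symm_apply, D.φ_comp]))
    (fun {D E} a => by
      ext j : 2
      apply Over.OverMorphism.ext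
      have key : ∀ {T : Scheme.{u}} (r : T ⟶ X' j) (v : Lifts (((pullDDFam w).obj D).obj j) r),
          (pullPts w' E j r).symm (E.φ _ _ (hc r) (pullPts w E j r (((pullDDFam w).map a).push v))) =
            ((pullDDFam w').map a).push ((pullPts w' D j r).symm (D.φ _ _ (hc r) (pullPts w D j r v))) := by
        intro T r v
        rw [Equiv.symm_apply_eq, pullPts_push, pullPts_push, Equiv.apply_symm_apply, hom_comm]
      have h1 := key (((pullDDFam w).obj D).obj j).hom ⟨𝟙 _, Category.id_comp _⟩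
      have h2 := congrArg Subtype.val h1
      simp only [SchDDFam.comp_hom, Over.comp_left]
      refine Eq.trans ?_ h2
      simp only [ddFamIso]
      refine (comp_liftsIso_hom _ _ (((pullDDFam w).obj D).obj j).hom
        ⟨(((pullDDFam w).map a).hom j).left, Over.w _⟩).trans ?_
      refine congrArg (fun q => ((pullPts w' E j _).symm (E.φ _ _ (hc _) (pullPts w E j _ q))).1) ?_
      exact Subtype.ext (Category.id_comp _).symm)

end pull

section fullyFaithful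

variable {α : ι' → ι} {p : S' ⟶ S} {p' : ∀ j, X' j ⟶ X (α j)} (w : ∀ j, p' j ≫ f (α j) = f' j ≫ p)

/-- Every member of the family `f` is covered, for the fpqc topology, by schemes lifting over `S` to the pulled family. -/
def HasFpqcLifts : Prop :=
  ∀ (i : ι) {T : Scheme.{u}} (x : T ⟶ X i), ∃ R : Sieve T, R ∈ Scheme.fpqcTopology T ∧
    ∀ ⦃T' : Scheme.{u}⦄ (g : T' ⟶ T), R g → ∃ (j : ι') (r : T' ⟶ X' j),
      (r ≫ p' j) ≫ f (α j) = (g ≫ x) ≫ f i

theorem hom_eq_of_sieve {T Z : Scheme.{u}} {R : Sieve T} (hR : R ∈ Scheme.fpqcTopology T) (a b : T ⟶ Z)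
    (h : ∀ ⦃T' : Scheme.{u}⦄ (g : T' ⟶ T), R g → g ≫ a = g ≫ b) : a = b :=
  ((GrothendieckTopology.Subcanonical.isSheaf_of_isRepresentable (J := Scheme.fpqcTopology)
    (yoneda.obj Z)) R hR).isSeparatedFor.ext h

theorem exists_glue {T Z : Scheme.{u}} {R : Sieve T} (hR : R ∈ Scheme.fpqcTopology T)
    (x : ∀ ⦃T' : Scheme.{u}⦄ (g : T' ⟶ T), R g → (T' ⟶ Z))
    (hx : ∀ ⦃T' T'' : Scheme.{u}⦄ (g : T' ⟶ T) (h : T'' ⟶ T') (hg : R g),
      x (h ≫ g) (R.downward_closed hg h) = h ≫ x g hg) :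
    ∃ a : T ⟶ Z, ∀ ⦃T' : Scheme.{u}⦄ (g : T' ⟶ T) (hg : R g), g ≫ a = x g hg := by
  let fam : Presieve.FamilyOfElements (yoneda.obj Z) (R : Presieve T) := fun T' g hg => x g hg
  have hc : fam.Compatible :=
    (Presieve.compatible_iff_sieveCompatible fam).mpr fun T' T'' g h hg => hx g h hg
  exact ⟨_, ((GrothendieckTopology.Subcanonical.isSheaf_of_isRepresentable (J := Scheme.fpqcTopology)
    (yoneda.obj Z)) R hR).isAmalgamation hc⟩

variable (hL : HasFpqcLifts (f := f) (α := α) (p' := p'))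

include hL in
theorem pullDDFam_faithful : (pullDDFam w).Faithful := by
  refine ⟨fun {D E} a b hab => ?_⟩
  ext i : 2
  apply Over.OverMorphism.ext
  obtain ⟨R, hR, hlift⟩ := hL i (D.obj i).hom
  refine hom_eq_of_sieve hR _ _ fun T' g hg => ?_
  obtain ⟨j, r, hr⟩ := hlift g hg
  set u := D.φ (g ≫ (D.obj i).hom) (r ≫ p' j) hr.symm ⟨g, rfl⟩
  have hu : a.push u = b.push u := by
    rw [← (pullPts w D j r).apply_symm_apply u, ← pullPts_push, ← pullPts_push, hab]
  rw [← hom_comm, ← hom_comm, Equiv.apply_eq_iff_eq] at hu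
  exact congrArg Subtype.val hu

section full

variable {D E : SchDDFam f} (k : (pullDDFam w).obj D ⟶ (pullDDFam w).obj E)

/-- The action of a morphism of pulled-back data on points. -/
noncomputable def onPts {T : Scheme.{u}} (j : ι') (r : T ⟶ X' j) (u : Lifts (D.obj (α j)) (r ≫ p' j)) :
    Lifts (E.obj (α j)) (r ≫ p' j) :=
  pullPts w E j r (k.push ((pullPts w D j r).symm u))

/-- The value at a point `v` over `x` computed through a lift `r`. -/
noncomputable def transported {T : Scheme.{u}} {i : ι} (x : T ⟶ X i) (v : Lifts (D.obj i) x) (j : ι')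
    (r : T ⟶ X' j) (hr : (r ≫ p' j) ≫ f (α j) = x ≫ f i) : Lifts (E.obj i) x :=
  E.φ (r ≫ p' j) x hr (onPts w k j r (D.φ x (r ≫ p' j) hr.symm v))

theorem onPts_natural {T T' : Scheme.{u}} (g : T' ⟶ T) {j : ι'} (r : T ⟶ X' j)
    (r' : T' ⟶ X' j) (hr : g ≫ r = r') (u : Lifts (D.obj (α j)) (r ≫ p' j))
    (u' : Lifts (D.obj (α j)) (r' ≫ p' j)) (hu : u'.1 = g ≫ u.1) :
    (onPts w k j r' u').1 = g ≫ (onPts w k j r u).1 := by
  refine pullPts_natural w E g r r' _ _ ?_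
  show _ ≫ _ = g ≫ _ ≫ _
  rw [← Category.assoc]
  congr 1
  simp only [pullPts_symm_val]
  apply pullback.hom_ext <;> simp [hu, hr]

variable [Mono p]

theorem onPts_comm {T : Scheme.{u}} {j₀ j₁ : ι'} (r₀ : T ⟶ X' j₀) (r₁ : T ⟶ X' j₁)
    (h : (r₀ ≫ p' j₀) ≫ f (α j₀) = (r₁ ≫ p' j₁) ≫ f (α j₁)) (u : Lifts (D.obj (α j₀)) (r₀ ≫ p' j₀)) :
    E.φ _ _ h (onPts w k j₀ r₀ u) = onPts w k j₁ r₁ (D.φ _ _ h u) := by
  have h' : r₀ ≫ f' j₀ = r₁ ≫ f' j₁ := by
    simpa [← cancel_mono p, ← w] using h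
  simp only [onPts]
  rw [← pull_phi w E r₀ r₁ h', hom_comm]
  congr 2
  rw [Equiv.eq_symm_apply, pull_phi, Equiv.apply_symm_apply]

theorem transported_eq {T : Scheme.{u}} {i : ι} (x : T ⟶ X i) (v : Lifts (D.obj i) x) {j j' : ι'}
    (r : T ⟶ X' j) (hr : (r ≫ p' j) ≫ f (α j) = x ≫ f i)
    (r' : T ⟶ X' j') (hr' : (r' ≫ p' j') ≫ f (α j') = x ≫ f i) :
    transported w k x v j r hr = transported w k x v j' r' hr' := by
  simp only [transported]
  conv_rhs => rw [← D.φ_comp _ _ _ hr.symm (hr.trans hr'.symm) v, ← onPts_comm, E.φ_comp]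

omit [Mono p] in
theorem transported_natural {T T' : Scheme.{u}} (g : T' ⟶ T) {i : ι} (x : T ⟶ X i) (x' : T' ⟶ X i)
    (hx : g ≫ x = x') (v : Lifts (D.obj i) x) (v' : Lifts (D.obj i) x') (hv : v'.1 = g ≫ v.1) (j : ι')
    (r : T ⟶ X' j) (hr : (r ≫ p' j) ≫ f (α j) = x ≫ f i)
    (hr' : ((g ≫ r) ≫ p' j) ≫ f (α j) = x' ≫ f i) :
    (transported w k x' v' j (g ≫ r) hr').1 = g ≫ (transported w k x v j r hr).1 :=
  E.φ_natural g _ _ hr _ _ (Category.assoc _ _ _).symm hx hr' _ _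
    (onPts_natural w k g r _ rfl _ _
      (D.φ_natural g _ _ hr.symm _ _ hx (Category.assoc _ _ _).symm hr'.symm v v' hv))

omit [Mono p] in
theorem transported_comm {T : Scheme.{u}} {i₀ i₁ : ι} (x₀ : T ⟶ X i₀) (x₁ : T ⟶ X i₁)
    (h : x₀ ≫ f i₀ = x₁ ≫ f i₁) (v : Lifts (D.obj i₀) x₀) (j : ι')
    (r : T ⟶ X' j) (hr : (r ≫ p' j) ≫ f (α j) = x₀ ≫ f i₀) :
    E.φ x₀ x₁ h (transported w k x₀ v j r hr) = transported w k x₁ (D.φ x₀ x₁ h v) j r (hr.trans h) := by
  simp only [transported, E.φ_comp, D.φ_comp]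

include hL in
theorem exists_preimage : ∃ a : D ⟶ E, (pullDDFam w).map a = k := by
  choose R hR hlift using hL
  let T₀ := fun i => (D.obj i).left
  let val : ∀ i ⦃T' : Scheme.{u}⦄ (g : T' ⟶ T₀ i), R i (D.obj i).hom g → (T' ⟶ (E.obj i).left) :=
    fun i T' g hg => (transported w k (g ≫ (D.obj i).hom) ⟨g, rfl⟩ (hlift i _ g hg).choose
      (hlift i _ g hg).choose_spec.choose (hlift i _ g hg).choose_spec.choose_spec).1
  have hval : ∀ i, ∀ ⦃T' T'' : Scheme.{u}⦄ (g : T' ⟶ T₀ i) (h : T'' ⟶ T') (hg : R i (D.obj i).hom g),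
      val i (h ≫ g) ((R i _).downward_closed hg h) = h ≫ val i g hg := by
    intro i T' T'' g h hg
    have hr := (hlift i _ g hg).choose_spec.choose_spec
    have hr' : ((h ≫ (hlift i _ g hg).choose_spec.choose) ≫ p' _) ≫ f (α _) =
        ((h ≫ g) ≫ (D.obj i).hom) ≫ f i := by
      simp only [Category.assoc] at hr ⊢
      rw [hr]
    refine (congrArg Subtype.val (transported_eq w k _ _ _ _ _ hr')).trans ?_
    exact transported_natural w k h _ _ (Category.assoc _ _ _).symm _ _ rfl _ _ hr hr'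
  choose a ha using fun i => exists_glue (hR i (D.obj i).hom) (val i) (hval i)
  have haw : ∀ i, a i ≫ (E.obj i).hom = (D.obj i).hom := fun i =>
    hom_eq_of_sieve (hR i (D.obj i).hom) _ _ fun T' g hg => by
      rw [← Category.assoc, ha i g hg]; exact (transported w k _ _ _ _ _).2
  -- the defining property at any point
  have key : ∀ {T : Scheme.{u}} {i : ι} (x : T ⟶ X i) (v : Lifts (D.obj i) x) (j : ι') (r : T ⟶ X' j)
      (hr : (r ≫ p' j) ≫ f (α j) = x ≫ f i), v.1 ≫ a i = (transported w k x v j r hr).1 := by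
    intro T i x v j r hr
    refine hom_eq_of_sieve ((Scheme.fpqcTopology).pullback_stable v.1 (hR i (D.obj i).hom)) _ _
      fun T' g hg => ?_
    rw [← Category.assoc, ha i (g ≫ v.1) hg]
    have hx : g ≫ x = (g ≫ v.1) ≫ (D.obj i).hom := by rw [Category.assoc, v.2]
    have hr' : ((g ≫ r) ≫ p' j) ≫ f (α j) = ((g ≫ v.1) ≫ (D.obj i).hom) ≫ f i := by
      rw [← hx]; simp only [Category.assoc] at hr ⊢; rw [hr]
    exact (congrArg Subtype.val (transported_eq w k _ _ _ _ _ hr')).trans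
      (transported_natural w k g x _ hx v _ rfl j r hr hr')
  have hcomm : ∀ ⦃T : Scheme.{u}⦄ ⦃i₀ i₁ : ι⦄ (x₀ : T ⟶ X i₀) (x₁ : T ⟶ X i₁)
      (h : x₀ ≫ f i₀ = x₁ ≫ f i₁) (v : Lifts (D.obj i₀) x₀) (u : Lifts (E.obj i₀) x₀),
      u.1 = v.1 ≫ a i₀ → (E.φ x₀ x₁ h u).1 = (D.φ x₀ x₁ h v).1 ≫ a i₁ := by
    intro T i₀ i₁ x₀ x₁ h v u hu
    refine hom_eq_of_sieve (hR i₀ x₀) _ _ fun T' g hg => ?_
    obtain ⟨j, r, hr⟩ := hlift i₀ x₀ g hg
    have h' : (g ≫ x₀) ≫ f i₀ = (g ≫ x₁) ≫ f i₁ := by rw [Category.assoc, h, Category.assoc]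
    let v' : Lifts (D.obj i₀) (g ≫ x₀) := ⟨g ≫ v.1, by rw [Category.assoc, v.2]⟩
    let u' : Lifts (E.obj i₀) (g ≫ x₀) := ⟨g ≫ u.1, by rw [Category.assoc, u.2]⟩
    have hu' : u' = transported w k (g ≫ x₀) v' j r hr := Subtype.ext (by
      show g ≫ u.1 = _
      rw [hu, ← key (g ≫ x₀) v' j r hr]
      exact (Category.assoc _ _ _).symm)
    rw [← E.φ_natural g x₀ x₁ h _ _ rfl rfl h' u u' rfl, hu', transported_comm, ← Category.assoc,
      ← D.φ_natural g x₀ x₁ h _ _ rfl rfl h' v v' rfl]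
    exact (key _ _ j r _).symm
  refine ⟨⟨fun i => Over.homMk (a i) (haw i), hcomm⟩, ?_⟩
  · ext j : 2
    apply Over.OverMorphism.ext
    set r := (((pullDDFam w).obj D).obj j).hom
    let V : Lifts (((pullDDFam w).obj D).obj j) r := ⟨𝟙 _, Category.id_comp _⟩
    let A : D ⟶ E := ⟨fun i => Over.homMk (a i) (haw i), hcomm⟩
    have h1 : pullPts w E j r (((pullDDFam w).map A).push V) = pullPts w E j r (k.push V) := by
      rw [pullPts_push]
      apply Subtype.ext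
      refine (key _ (pullPts w D j r V) j r rfl).trans ?_
      rw [transported, D.φ_self, E.φ_self, onPts, Equiv.symm_apply_apply]
    have h2 := congrArg Subtype.val ((pullPts w E j r).injective h1)
    simpa [SchDDFam.Hom.push, V] using h2

end full

include hL in
theorem pullDDFam_full [Mono p] : (pullDDFam w).Full :=
  ⟨fun k => exists_preimage w hL k⟩

end fullyFaithful

/-- The hypothesis of descent of morphisms holds when the pulled family is fpqc covering. -/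
theorem hasFpqcLifts_of_fpqc {α : ι' → ι} {p' : ∀ j, X' j ⟶ X (α j)} {f' : ∀ j, X' j ⟶ S}
    (w : ∀ j, p' j ≫ f (α j) = f' j) (hf' : Presieve.ofArrows X' f' ∈ Scheme.fpqcPrecoverage S) :
    HasFpqcLifts (f := f) (α := α) (p' := p') := by
  intro i T x
  refine ⟨Sieve.pullback (x ≫ f i) (Sieve.ofArrows X' f'),
    Scheme.fpqcTopology.pullback_stable _ (Precoverage.generate_mem_toGrothendieck hf'), fun T' g hg => ?_⟩
  obtain ⟨_, r, _, ⟨j⟩, hr⟩ := hg
  exact ⟨j, r, by rw [Category.assoc, w, Category.assoc]; exact hr⟩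

/-- The hypothesis of descent of morphisms holds when each member is fpqc covered by the members above it. -/
theorem hasFpqcLifts_of_refinement {α : ι' → ι} {p' : ∀ j, X' j ⟶ X (α j)}
    (hcov : ∀ i, Presieve.ofArrows (fun j : {j // α j = i} => X' j.1)
      (fun j => p' j.1 ≫ eqToHom (congrArg X j.2)) ∈ Scheme.fpqcPrecoverage (X i)) :
    HasFpqcLifts (f := f) (α := α) (p' := p') := by
  intro i T x
  refine ⟨Sieve.pullback x (Sieve.generate _),
    Scheme.fpqcTopology.pullback_stable _ (Precoverage.generate_mem_toGrothendieck (hcov i)),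
    fun T' g hg => ?_⟩
  obtain ⟨_, r, _, ⟨⟨j, rfl⟩⟩, hr⟩ := hg
  exact ⟨j, r, by simp only [eqToHom_refl, Category.comp_id] at hr; rw [hr]⟩

end Groth.Agent.H13Desc
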