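import Mathlib.AlgebraicGeometry.Morphisms.Immersion
import Mathlib.AlgebraicGeometry.Morphisms.LocalFlatDescent
import Mathlib.RingTheory.Ideal.MinimalPrime.Localization
import Groth.Agent.H18Descent.Basic

universe u

open CategoryTheory CategoryTheory.Limits AlgebraicGeometry Topology

namespace Groth.Agent.H13Desc

theorem range_morphismRestrict {X Y : Scheme.{u}} (f : X ⟶ Y) (U : Y.Opens) :
    Set.range (f ∣_ U) = U.ι ⁻¹' Set.range f := by
  ext y
  constructor
  · rintro ⟨x, rfl⟩
    exact ⟨(f ⁻¹ᵁ U).ι x, by rw [← Scheme.Hom.comp_apply, ← morphismRestrict_ι]; rfl⟩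
  · rintro ⟨x, hx⟩
    obtain ⟨z, hz, -⟩ := Scheme.exists_preimage_of_isPullback (isPullback_morphismRestrict f U) y x hx.symm
    exact ⟨z, hz⟩

/-- A point in the closure of the image of a quasi-compact morphism specializes from the image. -/
theorem exists_specializes_of_mem_closure_range {X Y : Scheme.{u}} (f : X ⟶ Y) [QuasiCompact f]
    (y : Y) (hy : y ∈ closure (Set.range f)) : ∃ x, f x ⤳ y := by
  obtain ⟨_, ⟨U : Y.Opens, hU, rfl⟩, hyU, -⟩ :=
    Y.isBasis_affineOpens.exists_subset_of_mem_open (Set.mem_univ y) isOpen_univ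
  let y' : U.toScheme := ⟨y, hyU⟩
  have hy' : y' ∈ closure (Set.range (f ∣_ U)) := by
    rw [range_morphismRestrict, ← U.ι.isOpenEmbedding.isOpenMap.preimage_closure_eq_closure_preimage
      U.ι.continuous]
    exact hy
  have : IsAffine U.toScheme := hU
  obtain ⟨R, p, hp⟩ := compactSpace_iff_exists.mp
    (QuasiCompact.compactSpace_of_compactSpace (f ∣_ U))
  obtain ⟨φ, hφ⟩ := Spec.map_surjective (p ≫ (f ∣_ U) ≫ U.toScheme.isoSpec.hom)
  let y'' := U.toScheme.isoSpec.hom y'
  have hr : Set.range (p ≫ (f ∣_ U) ≫ U.toScheme.isoSpec.hom) =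
      U.toScheme.isoSpec.hom '' Set.range (f ∣_ U) := by
    simp only [Scheme.Hom.comp_base, TopCat.coe_comp, Set.range_comp, hp.range_eq, Set.image_univ]
  have h2 : y'' ∈ closure (Set.range (Spec.map φ)) := by
    rw [hφ, hr]
    exact image_closure_subset_closure_image U.toScheme.isoSpec.hom.continuous ⟨y', hy', rfl⟩
  erw [PrimeSpectrum.closure_range_comap] at h2
  have := (y'' : PrimeSpectrum _).isPrime
  obtain ⟨q, hq, hqy⟩ := Ideal.exists_minimalPrimes_le (show RingHom.ker φ.hom ≤ y''.asIdeal from h2)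
  obtain ⟨q', _, -, hq'⟩ := Ideal.exists_comap_eq_of_mem_minimalPrimes φ.hom (I := ⊥) q hq
  have hs : Spec.map φ ⟨q', ‹_›⟩ ⤳ y'' :=
    (PrimeSpectrum.le_iff_specializes _ _).mp (show q'.comap φ.hom ≤ y''.asIdeal from hq'.trans_le hqy)
  rw [hφ] at hs
  have hs' := hs.map (U.ι.continuous.comp U.toScheme.isoSpec.inv.continuous)
  refine ⟨(f ⁻¹ᵁ U).ι (p ⟨q', ‹_›⟩), ?_⟩
  convert hs' using 1
  · show _ = (f ∣_ U ≫ U.toScheme.isoSpec.hom ≫ U.toScheme.isoSpec.inv ≫ U.ι) (p ⟨q', ‹_›⟩)
    rw [Iso.hom_inv_id_assoc, morphismRestrict_ι]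
    rfl
  · show y = (U.toScheme.isoSpec.hom ≫ U.toScheme.isoSpec.inv ≫ U.ι) y'
    rw [Iso.hom_inv_id_assoc]
    rfl

/-- Flat pullback commutes with the closure of the image of a quasi-compact morphism. -/
theorem preimage_closure_range {X Y Y' : Scheme.{u}} (f : X ⟶ Y) [QuasiCompact f] (g : Y' ⟶ Y) [Flat g] :
    g ⁻¹' closure (Set.range f) = closure (g ⁻¹' Set.range f) := by
  refine subset_antisymm (fun y' hy' => ?_) (g.continuous.closure_preimage_subset _)
  obtain ⟨x, hx⟩ := exists_specializes_of_mem_closure_range f _ hy'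
  obtain ⟨η, hη, hηx⟩ := (Flat.generalizingMap g) hx
  exact hη.mem_closed isClosed_closure (subset_closure ⟨x, hηx.symm⟩)

theorem isImmersion_of_pullback {X Y Y' : Scheme.{u}} (f : X ⟶ Y) (g : Y' ⟶ Y)
    (hcl : g ⁻¹' closure (Set.range f) = closure (g ⁻¹' Set.range f))
    (hq : ∀ s : Set Y, IsOpen (g ⁻¹' s) → IsOpen s)
    (hdesc : ∀ U : Y.Opens, IsClosedImmersion (pullback.snd (f ∣_ U) (g ∣_ U)) → IsClosedImmersion (f ∣_ U))
    [IsImmersion (pullback.snd f g)] : IsImmersion f := by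
  have hlc := (pullback.snd f g).isLocallyClosed_range
  rw [Scheme.Pullback.range_snd] at hlc
  have ho : IsOpen (coborder (Set.range f)) := by
    apply hq
    convert isLocallyClosed_iff_isOpen_coborder.mp hlc using 1
    simp only [coborder, Set.preimage_compl, Set.preimage_sdiff, hcl]
  let U : Y.Opens := ⟨coborder (Set.range f), ho⟩
  have hfU : f ⁻¹ᵁ U = ⊤ := top_le_iff.mp fun x _ => subset_coborder (Set.mem_range_self x)
  have hcl' : IsClosed (U.ι ⁻¹' Set.range f) := isClosed_preimage_val_coborder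
  have : IsClosedImmersion (f ∣_ U) := by
    apply hdesc U
    have big := (IsPullback.of_hasPullback (f ∣_ U) (g ∣_ U)).paste_horiz
      (isPullback_morphismRestrict f U).flip
    rw [morphismRestrict_ι] at big
    have big' := (isPullback_morphismRestrict (pullback.snd f g) (g ⁻¹ᵁ U)).flip.paste_horiz
      (IsPullback.of_hasPullback f g)
    have : IsImmersion (pullback.snd (f ∣_ U) (g ∣_ U)) := by
      rw [← IsPullback.isoIsPullback_hom_snd _ _ big big']
      infer_instance
    refine .of_isPreimmersion _ ?_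
    rw [Scheme.Pullback.range_snd, range_morphismRestrict]
    exact hcl'.preimage (g ∣_ U).continuous
  have : IsIso (f ⁻¹ᵁ U).ι := by rw [hfU]; exact (inferInstance : IsIso X.topIso.hom)
  rw [← IsIso.inv_hom_id_assoc (f ⁻¹ᵁ U).ι f, ← morphismRestrict_ι]
  infer_instance

end Groth.Agent.H13Desc
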