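import Groth.Agent.H8Props.FlatDepth
import Mathlib.RingTheory.Unramified.LocalRing
import Mathlib.RingTheory.Etale.Basic
import Mathlib.RingTheory.Flat.Localization
import Mathlib.RingTheory.Smooth.Flat

/-!
# Local rings of étale algebras
-/

universe u

open IsLocalRing

namespace H13Desc

variable (A B : Type u) [CommRing A] [CommRing B] [IsLocalRing A] [IsLocalRing B]
  [Algebra A B] [IsLocalHom (algebraMap A B)] (E : Type u) [CommRing E] [Algebra A E]
  [Algebra.Etale A E] (P : Ideal E) [P.IsPrime] [Algebra E B] [IsScalarTower A E B]
  [IsLocalization.AtPrime B P]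

include E P in
theorem flat_and_map_maximalIdeal :
    Module.Flat A B ∧ (maximalIdeal A).map (algebraMap A B) = maximalIdeal B := by
  haveI : Module.Flat E B := IsLocalization.flat B P.primeCompl
  haveI : Algebra.FormallyUnramified E B :=
    Algebra.FormallyUnramified.of_isLocalization P.primeCompl
  haveI : Algebra.FormallyUnramified A B := Algebra.FormallyUnramified.comp A E B
  haveI : Algebra.EssFiniteType E B := Algebra.EssFiniteType.of_isLocalization B P.primeCompl
  haveI : Algebra.EssFiniteType A B := Algebra.EssFiniteType.comp A E B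
  exact ⟨Module.Flat.trans A E B, Algebra.FormallyUnramified.map_maximalIdeal⟩

theorem depth_of_field (K : Type u) [CommRing K] [IsLocalRing K] (hK : IsField K) :
    LocCoh.depth K K = 0 := by
  letI := hK.toField
  have h : ((LocCoh.depth K K : ℕ∞) : WithBot ℕ∞) ≤ ringKrullDim K :=
    Groth.Agent.H8Props.FlatDepth.depth_le_dim K
  rw [ringKrullDim_eq_zero_of_field, ← WithBot.coe_zero, WithBot.coe_le_coe] at h
  exact le_antisymm h zero_le

theorem isField_fibre (h : (maximalIdeal A).map (algebraMap A B) = maximalIdeal B) :
    IsField (B ⧸ (maximalIdeal A).map (algebraMap A B)) := by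
  rw [← Ideal.Quotient.maximal_ideal_iff_isField_quotient, h]
  infer_instance

end H13Desc
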