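import Groth.Agent.H13Desc.Eff.Cover
import Mathlib.FieldTheory.Galois.Basic
import Mathlib.FieldTheory.Fixed
import Mathlib.AlgebraicGeometry.Pullbacks
import Mathlib.AlgebraicGeometry.Limits

/-!
Kernel pairs of finite Galois base changes.
-/

set_option backward.isDefEq.respectTransparency false
set_option backward.isDefEq.respectTransparency.types false
set_option linter.style.haveILetI false

universe u

open CategoryTheory CategoryTheory.Limits AlgebraicGeometry TensorProduct

namespace Groth.Agent.H13Desc.GaloisHom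

variable (k K : Type u) [Field k] [Field K] [Algebra k K]

/-- The comparison of `K ⊗ K` with the functions on the Galois group. -/
noncomputable def Ψ : K ⊗[k] K →ₐ[K] ((K ≃ₐ[k] K) → K) :=
  Algebra.TensorProduct.lift (Algebra.ofId K _)
    (AlgHom.pi fun σ : K ≃ₐ[k] K => (σ : K →ₐ[k] K)) fun _ _ => Commute.all _ _

theorem Ψ_tmul (a b : K) (σ : K ≃ₐ[k] K) : Ψ k K (a ⊗ₜ[k] b) σ = a * σ b := by
  simp [Ψ, Algebra.ofId]

theorem Ψ_bijective [FiniteDimensional k K] [IsGalois k K] : Function.Bijective (Ψ k K) := by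
  classical
  have hsurj : Function.Surjective (Ψ k K).toLinearMap := by
    rw [← LinearMap.range_eq_top]
    by_contra hne
    obtain ⟨f, hf0, hf⟩ := Submodule.exists_le_ker_of_lt_top _ (lt_top_iff_ne_top.mpr hne)
    apply hf0
    let c : (K ≃ₐ[k] K) → K := fun σ => f (Pi.single σ 1)
    have key : ∀ v : (K ≃ₐ[k] K) → K, f v = ∑ σ, v σ * c σ := fun v => by
      conv_lhs => rw [← Finset.univ_sum_single v]
      rw [map_sum]
      refine Finset.sum_congr rfl fun σ _ => ?_
      rw [show Pi.single σ (v σ) = v σ • (Pi.single σ (1 : K) : (K ≃ₐ[k] K) → K) by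
        rw [← Pi.single_smul, smul_eq_mul, mul_one], map_smul, smul_eq_mul]
    have li := linearIndependent_monoidHom K K
    have hc : ∀ σ, c σ = 0 := by
      have h0 : ∑ σ : K ≃ₐ[k] K, c σ • (⇑σ : K → K) = 0 := by
        funext b
        have := hf ⟨(1 : K) ⊗ₜ[k] b, rfl⟩
        rw [LinearMap.mem_ker, key] at this
        rw [Finset.sum_apply, Pi.zero_apply]
        refine Eq.trans ?_ this
        refine Finset.sum_congr rfl fun σ _ => ?_
        rw [Pi.smul_apply, smul_eq_mul, mul_comm,
          show (Ψ k K).toLinearMap ((1 : K) ⊗ₜ[k] b) σ = _ from Ψ_tmul k K 1 b σ, one_mul]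
      have hli : LinearIndependent K (fun σ : K ≃ₐ[k] K => (⇑σ : K → K)) :=
        li.comp (fun σ : K ≃ₐ[k] K => ((σ : K →ₐ[k] K) : K →* K)) fun σ τ h => by
          ext x; exact DFunLike.congr_fun h x
      exact Fintype.linearIndependent_iff.mp hli c h0
    ext v
    exact hc v
  refine ⟨?_, hsurj⟩
  refine (LinearMap.injective_iff_surjective_of_finrank_eq_finrank ?_).mpr hsurj
  rw [Module.finrank_baseChange, Module.finrank_pi, ← IsGalois.card_aut_eq_finrank k K, Nat.card_eq_fintype_card]

variable {k K}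

/-- The point of `Spec K ×_k Spec K` of a Galois element. -/
noncomputable def pt (σ : K ≃ₐ[k] K) :
    Spec (CommRingCat.of K) ⟶ pullback (Spec.map (CommRingCat.ofHom (algebraMap k K)))
      (Spec.map (CommRingCat.ofHom (algebraMap k K))) :=
  pullback.lift (𝟙 _) (Spec.map (CommRingCat.ofHom (σ : K →ₐ[k] K).toRingHom)) (by
    rw [Category.id_comp, ← Spec.map_comp, ← CommRingCat.ofHom_comp]
    congr 2
    exact RingHom.ext fun x => (σ.commutes x).symm)

theorem pt_isOpenImmersion_and_covers [FiniteDimensional k K] [IsGalois k K] :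
    (∀ σ : K ≃ₐ[k] K, IsOpenImmersion (pt σ)) ∧
      ∀ z, ∃ σ : K ≃ₐ[k] K, z ∈ Set.range (pt σ) := by
  let e : K ⊗[k] K ≃+* ((K ≃ₐ[k] K) → K) := (AlgEquiv.ofBijective _ (Ψ_bijective k K)).toRingEquiv
  let s := sigmaSpec (fun _ : K ≃ₐ[k] K => CommRingCat.of K)
  let h : (∐ fun _ : K ≃ₐ[k] K => Spec (CommRingCat.of K)) ⟶
      pullback (Spec.map (CommRingCat.ofHom (algebraMap k K))) (Spec.map (CommRingCat.ofHom (algebraMap k K))) :=
    s ≫ Spec.map e.toCommRingCatIso.hom ≫ (pullbackSpecIso k K K).inv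
  have hh : ∀ σ, Sigma.ι (fun _ : K ≃ₐ[k] K => Spec (CommRingCat.of K)) σ ≫ h = pt σ := by
    intro σ
    rw [show h = s ≫ Spec.map e.toCommRingCatIso.hom ≫ (pullbackSpecIso k K K).inv from rfl, ι_sigmaSpec_assoc]
    apply pullback.hom_ext
    · rw [pt, pullback.lift_fst, Category.assoc, Category.assoc, pullbackSpecIso_inv_fst,
        ← Spec.map_comp, ← Spec.map_comp, ← Spec.map_id]
      congr 1
      ext a
      show Ψ k K (a ⊗ₜ[k] (1 : K)) σ = a
      rw [Ψ_tmul, map_one, mul_one]
    · rw [pt, pullback.lift_snd, Category.assoc, Category.assoc, pullbackSpecIso_inv_snd,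
        ← Spec.map_comp, ← Spec.map_comp]
      congr 1
      ext a
      show Ψ k K ((1 : K) ⊗ₜ[k] a) σ = σ a
      rw [Ψ_tmul, one_mul]
  have : IsIso h := inferInstance
  refine ⟨fun σ => ?_, fun z => ?_⟩
  · rw [← hh σ]
    infer_instance
  · obtain ⟨σ, w, hw⟩ := (sigmaOpenCover fun _ : K ≃ₐ[k] K => Spec (CommRingCat.of K)).exists_eq ((inv h) z)
    refine ⟨σ, w, ?_⟩
    rw [← hh σ, Scheme.Hom.comp_apply]
    exact (congrArg h hw).trans (by rw [← Scheme.Hom.comp_apply, IsIso.inv_hom_id]; rfl)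

/-- A morphism out of a finite Galois base change invariant under the Galois action descends. -/
theorem exists_desc [FiniteDimensional k K] [IsGalois k K] {X Z : Scheme.{u}} (q : X ⟶ Spec (CommRingCat.of k))
    (act : ∀ _ : K ≃ₐ[k] K, pullback q (Spec.map (CommRingCat.ofHom (algebraMap k K))) ⟶
      pullback q (Spec.map (CommRingCat.ofHom (algebraMap k K))))
    (hfst : ∀ σ, act σ ≫ pullback.fst _ _ = pullback.fst _ _)
    (hsnd : ∀ σ, act σ ≫ pullback.snd _ _ =
      pullback.snd _ _ ≫ Spec.map (CommRingCat.ofHom (σ : K →ₐ[k] K).toRingHom))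
    (e : pullback q (Spec.map (CommRingCat.ofHom (algebraMap k K))) ⟶ Z) (he : ∀ σ, act σ ≫ e = e) :
    ∃ f : X ⟶ Z, pullback.fst q (Spec.map (CommRingCat.ofHom (algebraMap k K))) ≫ f = e := by
  let c := Spec.map (CommRingCat.ofHom (algebraMap k K))
  let π := pullback.fst q c
  have hc1 : Flat c := Flat.SpecMap_iff.mpr (RingHom.flat_algebraMap_iff.mpr inferInstance)
  have hc2 : Surjective c := ⟨fun y => ⟨IsLocalRing.closedPoint K, Subsingleton.elim _ _⟩⟩
  have : Flat π := inferInstance
  have : Surjective π := inferInstance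
  have : QuasiCompact π := inferInstance
  obtain ⟨hopen, hcov⟩ := pt_isOpenImmersion_and_covers (k := k) (K := K)
  refine ⟨EffectiveEpi.desc π e fun {T} g₁ g₂ hg => ?_, EffectiveEpi.fac _ _ _⟩
  let r : T ⟶ pullback c c := pullback.lift (g₁ ≫ pullback.snd q c) (g₂ ≫ pullback.snd q c) (by
    rw [Category.assoc, Category.assoc, ← pullback.condition, reassoc_of% hg])
  let 𝒰 : T.OpenCover :=
    { I₀ := K ≃ₐ[k] K
      X := fun σ => pullback r (pt σ)
      f := fun σ => pullback.fst r (pt σ)
      mem₀ := by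
        rw [Scheme.presieve₀_mem_precoverage_iff]
        refine ⟨fun t => ?_, fun σ => ?_⟩
        · obtain ⟨σ, w, hw⟩ := hcov (r t)
          obtain ⟨z, hz, -⟩ := Scheme.Pullback.exists_preimage_pullback t w hw.symm
          exact ⟨σ, z, hz⟩
        · have := hopen σ
          infer_instance }
  refine 𝒰.hom_ext _ _ fun σ => ?_
  show pullback.fst r (pt σ) ≫ g₁ ≫ e = pullback.fst r (pt σ) ≫ g₂ ≫ e
  have hcond := pullback.condition (f := r) (g := pt σ)
  have key : pullback.fst r (pt σ) ≫ g₂ = (pullback.fst r (pt σ) ≫ g₁) ≫ act σ := by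
    apply pullback.hom_ext
    · rw [Category.assoc, Category.assoc, Category.assoc, hfst]
      exact congrArg (_ ≫ ·) hg.symm
    · have e₁ : pullback.fst r (pt σ) ≫ g₁ ≫ pullback.snd q c = pullback.snd r (pt σ) := by
        rw [← show r ≫ pullback.fst c c = g₁ ≫ pullback.snd q c from pullback.lift_fst _ _ _, ← Category.assoc,
          hcond, Category.assoc, show pt σ ≫ pullback.fst c c = 𝟙 _ from pullback.lift_fst _ _ _,
          Category.comp_id]
      have e₂ : pullback.fst r (pt σ) ≫ g₂ ≫ pullback.snd q c =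
          pullback.snd r (pt σ) ≫ Spec.map (CommRingCat.ofHom (σ : K →ₐ[k] K).toRingHom) := by
        rw [← show r ≫ pullback.snd c c = g₂ ≫ pullback.snd q c from pullback.lift_snd _ _ _, ← Category.assoc,
          hcond, Category.assoc, show pt σ ≫ pullback.snd c c = _ from pullback.lift_snd _ _ _]
      simp only [Category.assoc]
      refine e₂.trans ((congrArg (· ≫ _) e₁.symm).trans ?_)
      simp only [Category.assoc]
      exact congrArg (fun z => pullback.fst r (pt σ) ≫ g₁ ≫ z) (hsnd σ).symm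
  rw [reassoc_of% key, he, ← Category.assoc]

end Groth.Agent.H13Desc.GaloisHom
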