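import Groth.Agent.H10Coh.FinType2
import Groth.Agent.H8Props.RelFP.PullSections
import Groth.Agent.H13Desc.Fpqc
import Mathlib.RingTheory.LocalRing.Module

/-!
# Descending the number of local generators of a quasi-coherent module
-/

set_option autoImplicit false
set_option linter.style.haveILetI false
set_option backward.isDefEq.respectTransparency false

universe u

open CategoryTheory CategoryTheory.Limits AlgebraicGeometry Opposite TopologicalSpace
open scoped TensorProduct

namespace Groth.Agent.H13Desc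

/-- The module is generated by at most `r` elements. -/
def GenBy (A : Type*) (M : Type*) [CommRing A] [AddCommGroup M] [Module A M] (r : ℕ) : Prop :=
  ∃ t : Finset M, t.card ≤ r ∧ Submodule.span A (t : Set M) = ⊤

theorem GenBy.finite {A M : Type*} [CommRing A] [AddCommGroup M] [Module A M] {r : ℕ} (h : GenBy A M r) :
    Module.Finite A M := let ⟨t, _, ht⟩ := h; ⟨⟨t, ht⟩⟩

/-- Semilinear maps whose image spans transport generating sets. -/
theorem GenBy.of_semilinear {A B M N : Type*} [CommRing A] [CommRing B] [AddCommGroup M] [AddCommGroup N]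
    [Module A M] [Module B N] {r : ℕ} (h : GenBy A M r) (σ : A →+* B) (e : M →+ N)
    (he : ∀ (a : A) (m : M), e (a • m) = σ a • e m) (hs : Submodule.span B (Set.range e) = ⊤) :
    GenBy B N r := by
  classical
  obtain ⟨t, htc, ht⟩ := h
  refine ⟨t.image e, Finset.card_image_le.trans htc, ?_⟩
  rw [eq_top_iff, ← hs, Submodule.span_le, Finset.coe_image]
  rintro _ ⟨m, rfl⟩
  have hm : m ∈ Submodule.span A (t : Set M) := ht ▸ Submodule.mem_top
  induction hm using Submodule.span_induction with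
  | mem x hx => exact Submodule.subset_span ⟨x, hx, rfl⟩
  | zero => rw [map_zero]; exact zero_mem _
  | add x y _ _ hx hy => rw [map_add]; exact add_mem hx hy
  | smul a x _ hx => rw [he]; exact Submodule.smul_mem _ _ hx

variable {A : Type u} [CommRing A] {M : Type u} [AddCommGroup M] [Module A M]

/-- If every prime extends to a flat algebra over which the module becomes finite, it is finite. -/
theorem finite_of_flat_family {ι : Type*} [Finite ι] (B : ι → Type u) [∀ k, CommRing (B k)]
    [∀ k, Algebra A (B k)] [∀ k, Module.Flat A (B k)]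
    (hfin : ∀ k, Module.Finite (B k) (B k ⊗[A] M))
    (hcov : ∀ m : Ideal A, m.IsMaximal → ∃ k, m.map (algebraMap A (B k)) ≠ ⊤) : Module.Finite A M := by
  classical
  haveI := Fintype.ofFinite ι
  choose s hs using fun k => (hfin k).fg_top
  choose S hS using fun (k : ι) (x : B k ⊗[A] M) => TensorProduct.exists_finset x
  let T : Finset M := Finset.univ.biUnion fun k => (s k).biUnion fun x => (S k x).image Prod.snd
  let N := Submodule.span A (T : Set M)
  suffices N = ⊤ from ⟨⟨T, this⟩⟩
  rw [eq_top_iff]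
  intro x _
  by_contra hx
  let q : M ⧸ N := Submodule.Quotient.mk x
  let I := LinearMap.ker (LinearMap.toSpanSingleton A (M ⧸ N) q)
  have hI : I ≠ ⊤ := fun e => hx <| by
    have h1 : (1 : A) ∈ I := e ▸ Submodule.mem_top
    simpa [I, q, Submodule.Quotient.mk_eq_zero] using h1
  obtain ⟨m, hm, hIm⟩ := Ideal.exists_le_maximal I hI
  obtain ⟨k, hk⟩ := hcov m hm
  have hzero : ∀ z : B k ⊗[A] M, (N.mkQ).lTensor (B k) z = 0 := by
    suffices ∀ y ∈ s k, (N.mkQ).lTensor (B k) y = 0 by
      intro z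
      have hz : z ∈ Submodule.span (B k) (s k : Set (B k ⊗[A] M)) := hs k ▸ Submodule.mem_top
      have hle : Submodule.span (B k) (s k : Set (B k ⊗[A] M)) ≤
          LinearMap.ker (LinearMap.baseChange (B k) N.mkQ) := Submodule.span_le.mpr fun y hy => by
        rw [SetLike.mem_coe, LinearMap.mem_ker, LinearMap.baseChange_eq_ltensor]
        exact this y hy
      have := hle hz
      rwa [LinearMap.mem_ker, LinearMap.baseChange_eq_ltensor] at this
    intro y hy
    rw [hS k y, map_sum]
    refine Finset.sum_eq_zero fun p hp => ?_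
    rw [LinearMap.lTensor_tmul, Submodule.mkQ_apply, (Submodule.Quotient.mk_eq_zero N).mpr, TensorProduct.tmul_zero]
    exact Submodule.subset_span (Finset.mem_biUnion.mpr ⟨k, Finset.mem_univ k, Finset.mem_biUnion.mpr
      ⟨y, hy, Finset.mem_image.mpr ⟨p, hp, rfl⟩⟩⟩)
  have hq : ((1 : B k) ⊗ₜ[A] q : B k ⊗[A] (M ⧸ N)) = 0 := by
    exact (LinearMap.lTensor_tmul (B k) N.mkQ (1 : B k) x).symm.trans (hzero _)
  let φ : (A ⧸ I) →ₗ[A] M ⧸ N := I.liftQ _ le_rfl
  have hφ : Function.Injective φ := by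
    rw [← LinearMap.ker_eq_bot]
    exact Submodule.ker_liftQ_eq_bot _ _ _ le_rfl
  have h1 : ((1 : B k) ⊗ₜ[A] Ideal.Quotient.mk I 1 : B k ⊗[A] (A ⧸ I)) = 0 := by
    apply Module.Flat.lTensor_preserves_injective_linearMap (M := B k) φ hφ
    rw [map_zero, LinearMap.lTensor_tmul]
    rw [← hq]
    congr 1
    exact (Submodule.liftQ_apply _ _ (1 : A)).trans (one_smul A q)
  refine hk (top_le_iff.mp (le_trans ?_ (Ideal.map_mono hIm)))
  rw [top_le_iff, Ideal.eq_top_iff_one]
  have h2 := congrArg (Algebra.TensorProduct.quotIdealMapEquivTensorQuot (B k) I).symm h1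
  rw [map_zero] at h2
  have h3 : (1 : B k ⊗[A] (A ⧸ I)) = (1 : B k) ⊗ₜ[A] Ideal.Quotient.mk I 1 := by simp [Algebra.TensorProduct.one_def]
  rw [← h3, map_one] at h2
  exact Ideal.Quotient.eq_zero_iff_mem.mp (by rw [map_one]; exact h2)

/-- A fibre generated by at most `r` elements: generators near the prime. -/
theorem exists_genBy_away [Module.Finite A M] {r : ℕ} (p : PrimeSpectrum A) {L : Type u} [Field L]
    [Algebra A L] [Algebra p.asIdeal.ResidueField L] [IsScalarTower A p.asIdeal.ResidueField L]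
    (h : GenBy L (L ⊗[A] M) r) :
    ∃ (f : A) (t : Finset M), f ∉ p.asIdeal ∧ t.card ≤ r ∧ ∀ x, f • x ∈ Submodule.span A (t : Set M) := by
  classical
  let κ := p.asIdeal.ResidueField
  obtain ⟨t₀, ht₀c, ht₀⟩ := h
  have hL : Module.finrank L (L ⊗[A] M) ≤ r := by
    have := finrank_span_finset_le_card (R := L) t₀
    rw [Set.finrank, ht₀, finrank_top] at this
    omega
  have hκ : Module.finrank κ (κ ⊗[A] M) ≤ r := by
    rw [← Module.finrank_baseChange (R := L),
      (TensorProduct.AlgebraTensorModule.cancelBaseChange A κ L L M).finrank_eq]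
    exact hL
  let g : M → κ ⊗[A] M := fun m => (1 : κ) ⊗ₜ[A] m
  have hg : Submodule.span κ (Set.range g) = ⊤ := by
    rw [eq_top_iff]
    intro z _
    induction z using TensorProduct.induction_on with
    | zero => exact zero_mem _
    | add a b ha hb => exact add_mem (ha trivial) (hb trivial)
    | tmul a m =>
      have : a ⊗ₜ[A] m = a • g m := by simp [g, TensorProduct.smul_tmul']
      rw [this]
      exact Submodule.smul_mem _ _ (Submodule.subset_span ⟨m, rfl⟩)
  obtain ⟨b, hb, hbspan, hbi⟩ := exists_linearIndependent κ (Set.range g)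
  haveI : Fintype b := (hbi.setFinite).fintype
  choose pre hpre using fun y : b => hb y.2
  let t : Finset M := Finset.univ.image pre
  have htc : t.card ≤ r := by
    refine Finset.card_image_le.trans (le_trans ?_ hκ)
    rw [Finset.card_univ]
    exact hbi.fintype_card_le_finrank
  let N := Submodule.span A (t : Set M)
  have hsub : ¬ Nontrivial (κ ⊗[A] (M ⧸ N)) := by
    rw [not_nontrivial_iff_subsingleton]
    refine subsingleton_of_forall_eq 0 fun z => ?_
    obtain ⟨z, rfl⟩ := LinearMap.lTensor_surjective κ N.mkQ_surjective z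
    have hz : z ∈ Submodule.span κ b := by rw [hbspan, hg]; exact Submodule.mem_top
    rw [← LinearMap.baseChange_eq_ltensor]
    refine (Submodule.span_le (p := LinearMap.ker (LinearMap.baseChange κ N.mkQ))).mpr ?_ hz
    intro y hy
    rw [SetLike.mem_coe, LinearMap.mem_ker, show y = (1 : κ) ⊗ₜ[A] pre ⟨y, hy⟩ from (hpre ⟨y, hy⟩).symm,
      LinearMap.baseChange_tmul, Submodule.mkQ_apply,
      (Submodule.Quotient.mk_eq_zero N).mpr, TensorProduct.tmul_zero]
    exact Submodule.subset_span (Finset.mem_image.mpr ⟨_, Finset.mem_univ _, rfl⟩)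
  have hns : p ∉ Module.support A (M ⧸ N) :=
    fun h' => hsub ((Module.mem_support_iff_nontrivial_residueField_tensorProduct (R := A) (M := M ⧸ N) p).mp h')
  rw [Module.support_eq_zeroLocus, PrimeSpectrum.mem_zeroLocus] at hns
  obtain ⟨f, hf, hfp⟩ := Set.not_subset.mp hns
  refine ⟨f, t, hfp, htc, fun x => ?_⟩
  have := Module.mem_annihilator.mp hf (Submodule.Quotient.mk x)
  rwa [← Submodule.Quotient.mk_smul, Submodule.Quotient.mk_eq_zero] at this

variable {X Y : Scheme.{u}}

theorem genBy_of_eq (M : X.Modules) {U V : X.Opens} (h : U = V) {r : ℕ}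
    (hf : GenBy Γ(X, U) Γ(M, U) r) : GenBy Γ(X, V) Γ(M, V) r := by
  subst h; exact hf

theorem genBy_restrict_iff (f : X ⟶ Y) [IsOpenImmersion f] (M : Y.Modules) (W : X.Opens) {r : ℕ} :
    GenBy Γ(X, W) Γ(M.restrict f, W) r ↔ GenBy Γ(Y, f ''ᵁ W) Γ(M, f ''ᵁ W) r := by
  constructor <;> intro h
  · exact h.of_semilinear (f.appIso W).inv.hom (M.restrictAppIso f W).hom.hom (fun a m => rfl)
      (eq_top_iff.mpr fun n _ => Submodule.subset_span ⟨n, rfl⟩)
  · refine h.of_semilinear (f.appIso W).hom.hom (M.restrictAppIso f W).inv.hom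
      (fun a m => ?_) (eq_top_iff.mpr fun n _ => Submodule.subset_span ⟨n, rfl⟩)
    exact Scheme.Modules.smul_restrictAppIso_inv_apply f M W a m

/-- Sections over affine opens of a module generated by few global sections. -/
theorem genBy_sections_of_generators (M : X.Modules) [M.IsQuasicoherent]
    (G : M.GeneratingSections) [Finite G.I] {W : X.Opens} (hW : IsAffineOpen W) :
    GenBy Γ(X, W) Γ(M, W) (Nat.card G.I) := by
  classical
  have := Fintype.ofFinite G.I
  have hfree : (SheafOfModules.free (R := X.ringCatSheaf) G.I).IsQuasicoherent :=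
    H10Coh.isQuasicoherent_coproduct' G.I
  let π' : H10Coh.freeMod X G.I ⟶ M := G.π
  have hs : Function.Surjective (π'.app W) := @H10Coh.surjective_app_of_epi _ _ _ π' hfree ‹_› G.epi _ hW
  let e : G.I → Γ(H10Coh.freeMod X G.I, W) := fun i => (H10Coh.freeIncl G.I i).app W (H10Coh.oneSec W)
  have h0 : GenBy Γ(X, W) Γ(H10Coh.freeMod X G.I, W) (Nat.card G.I) :=
    ⟨Finset.univ.image e, Finset.card_image_le.trans (by simp [Nat.card_eq_fintype_card]), by
      rw [Finset.coe_image, Finset.coe_univ, Set.image_univ, eq_top_iff]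
      exact fun z _ => H10Coh.free_sections_span G.I W z⟩
  exact h0.of_semilinear (RingHom.id _) (π'.app W).hom (fun a m => π'.app_smul a m)
    (eq_top_iff.mpr fun n _ => Submodule.subset_span (hs n))

/-- Shrink a prime neighbourhood: sections over a basic open. -/
theorem genBy_basicOpen (F : X.Modules) [F.IsQuasicoherent] {U : X.Opens} (hU : IsAffineOpen U)
    (f : Γ(X, U)) {r : ℕ} (t : Finset Γ(F, U)) (htc : t.card ≤ r)
    (h : ∀ x, f • x ∈ Submodule.span Γ(X, U) (t : Set Γ(F, U))) :
    GenBy Γ(X, X.basicOpen f) Γ(F, X.basicOpen f) r := by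
  classical
  let res := (X.presheaf.map (homOfLE (X.basicOpen_le f)).op).hom
  let resF := F.presheaf.map (homOfLE (X.basicOpen_le f)).op
  let N : Submodule Γ(X, U) Γ(F, U) := Submodule.span Γ(X, U) (t : Set Γ(F, U))
  have hmem : ∀ x ∈ N, resF x ∈ Submodule.span Γ(X, X.basicOpen f) ((t.image resF : Finset _) : Set _) := by
    intro x hx
    induction hx using Submodule.span_induction with
    | mem x hx => exact Submodule.subset_span (Finset.mem_image.mpr ⟨x, hx, rfl⟩)
    | zero => rw [map_zero]; exact zero_mem _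
    | add x y _ _ hx hy => rw [map_add]; exact add_mem hx hy
    | smul a x _ hx => rw [Scheme.Modules.map_smul]; exact Submodule.smul_mem _ _ hx
  refine ⟨t.image resF, Finset.card_image_le.trans htc, eq_top_iff.mpr fun z _ => ?_⟩
  obtain ⟨n, s, hs⟩ := H10Coh.exists_pow_smul_eq_res F hU f z
  have hu : IsUnit (res (f ^ (n + 1))) := by
    rw [map_pow]
    exact (RingedSpace.isUnit_res_basicOpen X.toRingedSpace f).pow _
  have h1 := hmem _ (h s)
  rw [Scheme.Modules.map_smul, show resF s = _ from hs, smul_smul] at h1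
  change (res f * res (f ^ n)) • z ∈ _ at h1
  rw [← map_mul, ← pow_succ'] at h1
  exact (Submodule.smul_mem_iff_of_isUnit _ hu).mp h1

/-- Local generators data with at most `r` generators from affine covers. -/
theorem exists_localGenerators (M : X.Modules) [M.IsQuasicoherent] {I : Type u} (U : I → X.Opens)
    (hU : IsOpenCover U) (hA : ∀ i, IsAffineOpen (U i)) {r : ℕ}
    (h : ∀ i, GenBy Γ(X, U i) Γ(M, U i) r) :
    ∃ σ : SheafOfModules.LocalGeneratorsData.{u} (R := X.ringCatSheaf) M,
      ∀ k, Finite (σ.generators k).I ∧ Nat.card (σ.generators k).I ≤ r := by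
  classical
  have hq := fun i => Scheme.Modules.isQuasicoherent_restrictFunctor (hA i).fromSpec M
  have htop : ∀ i, (hA i).fromSpec ''ᵁ ⊤ = U i := fun i => by
    rw [Scheme.Hom.image_top_eq_opensRange, (hA i).opensRange_fromSpec]
  have hgen : ∀ i, GenBy Γ(X, U i) ((H10Coh.ΓSpec Γ(X, U i)).obj (M.restrict (hA i).fromSpec)) r := fun i => by
    refine ((genBy_restrict_iff (hA i).fromSpec M ⊤).2 (genBy_of_eq M (htop i).symm (h i))).of_semilinear
      (Scheme.ΓSpecIso _).hom.hom (AddMonoidHom.id _) (fun a m => ?_)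
      (eq_top_iff.mpr fun n _ => Submodule.subset_span ⟨n, rfl⟩)
    have h := Scheme.Modules.smul_Spec_def (M := M.restrict (hA i).fromSpec) (U := ⊤)
      ((Scheme.ΓSpecIso Γ(X, U i)).hom a) m
    have hid : (⊤ : (Spec Γ(X, U i)).Opens).leTop.op = 𝟙 _ := Subsingleton.elim _ _
    rw [hid, CategoryTheory.Functor.map_id] at h
    refine Eq.trans ?_ h.symm
    exact congrArg (· • m) (congr($((Scheme.ΓSpecIso Γ(X, U i)).hom_inv_id) a)).symm
  choose s hsc hs using hgen
  let P := fun i => presentationTilde ((H10Coh.ΓSpec Γ(X, U i)).obj (M.restrict (hA i).fromSpec)) (s i : Set _)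
    (hs i) _ (Submodule.span_eq _)
  let e i := @H10Coh.tildeIso _ (M.restrict (hA i).fromSpec) (hq i)
  let Q i := H10Coh.presentationOver M (U i) (H10Coh.presOfIso
    ((Scheme.Modules.restrictFunctorComp (hA i).isoSpec.hom (hA i).fromSpec).symm.app M ≪≫
      (Scheme.Modules.restrictFunctorCongr (hA i).isoSpec_hom_fromSpec).app M)
    (Scheme.Modules.presentationRestrict (hA i).isoSpec.hom (H10Coh.presOfIso (e i) (P i))))
  let σ : SheafOfModules.QuasicoherentData (R := X.ringCatSheaf) M :=
    { I := I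
      X := U
      coversTop := (Opens.coversTop_iff _ _).2 hU
      presentation := Q }
  refine ⟨σ.localGeneratorsData, fun k => ⟨(s k).finite_toSet.to_subtype, ?_⟩⟩
  exact ((Nat.card_coe_set_eq _).trans (Set.ncard_coe_finset (s k))).le.trans (hsc k)

/-- Generators of a module near a point from local generators data. -/
theorem exists_generators_nhd_card (M : X.Modules)
    (σ : SheafOfModules.LocalGeneratorsData.{u} (R := X.ringCatSheaf) M) {r : ℕ}
    (hσ : ∀ k, Finite (σ.generators k).I ∧ Nat.card (σ.generators k).I ≤ r) (x : X) :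
    ∃ (W : X.Opens) (_ : x ∈ W) (G : (M.restrict W.ι).GeneratingSections), Finite G.I ∧ Nat.card G.I ≤ r := by
  obtain ⟨i, hi⟩ := Opens.mem_iSup.1
    (((Opens.coversTop_iff _ _).1 σ.coversTop).ge (Opens.mem_top x))
  let W : X.Opens := σ.X i
  let e := Scheme.Modules.overEquiv W
  let G' := @SheafOfModules.GeneratingSections.map _ _ _ _ _ _ _ _ _ _ _ _ _
    (σ.generators i) e.functor (by exact e.toAdjunction.leftAdjoint_preservesColimits)
    ((Scheme.Modules.restrictUnitIso W.ι).symm ≪≫
      ((Scheme.Modules.overFunctorEquiv W).app (SheafOfModules.unit X.ringCatSheaf)).symm)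
  let f := ((Scheme.Modules.overFunctorEquiv W).app M).hom
  exact ⟨W, hi, @SheafOfModules.GeneratingSections.ofEpi.{u} _ _ _ _ _ _ _ _ G' f
    (IsIso.epi_of_iso f), (hσ i).1, (hσ i).2⟩

theorem genBy_affine_nhd (M : X.Modules) [M.IsQuasicoherent] {W : X.Opens}
    (G : (M.restrict W.ι).GeneratingSections) [Finite G.I] {r : ℕ} (hr : Nat.card G.I ≤ r)
    {V : X.Opens} (hV : IsAffineOpen V) (hVW : V ≤ W) : GenBy Γ(X, V) Γ(M, V) r := by
  have hq := Scheme.Modules.isQuasicoherent_restrictFunctor W.ι M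
  have hpre : W.ι ''ᵁ (W.ι ⁻¹ᵁ V) = V := by
    rw [Scheme.Hom.image_preimage_eq_opensRange_inf, Scheme.Opens.opensRange_ι]
    exact inf_eq_right.2 hVW
  have haff : IsAffineOpen (W.ι ⁻¹ᵁ V) := by
    rw [← Scheme.Hom.isAffineOpen_iff_of_isOpenImmersion W.ι, hpre]
    exact hV
  obtain ⟨t, ht, hts⟩ := genBy_of_eq M hpre ((genBy_restrict_iff W.ι M _).1
    (@genBy_sections_of_generators _ _ hq G _ _ haff))
  exact ⟨t, ht.trans hr, hts⟩

/-- Descent of the number of local generators along an fpqc covering. -/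
theorem exists_localGenerators_of_fpqc {ι : Type u} {S : Scheme.{u}} {T : ι → Scheme.{u}} (f : ∀ i, T i ⟶ S)
    (hf : Presieve.ofArrows T f ∈ Scheme.fpqcPrecoverage S) (F : S.Modules) [F.IsQuasicoherent] (r : ℕ)
    (h : ∀ i, ∃ σ : SheafOfModules.LocalGeneratorsData.{u} (R := (T i).ringCatSheaf)
      ((Scheme.Modules.pullback (f i)).obj F),
      ∀ k, Finite (σ.generators k).I ∧ Nat.card (σ.generators k).I ≤ r) :
    ∃ σ : SheafOfModules.LocalGeneratorsData.{u} (R := S.ringCatSheaf) F,
      ∀ k, Finite (σ.generators k).I ∧ Nat.card (σ.generators k).I ≤ r := by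
  classical
  choose σ hσ using h
  have hft : ∀ i, CohB1.IsFT ((Scheme.Modules.pullback (f i)).obj F) := by
    intro i
    have h' : (σ i).IsFiniteType := by
      constructor
      intro k
      exact ⟨(hσ i k).1⟩
    exact SheafOfModules.IsFiniteType.mk (R := (T i).ringCatSheaf) ⟨_, h'⟩
  have hq : ∀ i, ((Scheme.Modules.pullback (f i)).obj F).IsQuasicoherent := fun i =>
    H29Fitt.isQCoh_pullback (f i) F ‹_›
  suffices key : ∀ x : S, ∃ (D : S.Opens), x ∈ D ∧ IsAffineOpen D ∧ GenBy Γ(S, D) Γ(F, D) r by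
    choose D hxD hD hgen using key
    exact exists_localGenerators F D (eq_top_iff.mpr fun x _ => Opens.mem_iSup.2 ⟨x, hxD x⟩) hD hgen
  intro x
  obtain ⟨U, hU, hxU, -⟩ := exists_isAffineOpen_mem_and_subset (U := (⊤ : S.Opens)) (x := x) trivial
  obtain ⟨n, a, V, g, hV, hg, -, hgs, -⟩ := fpqc_exists_affine_refinement hf U hU
  have hle : ∀ k, V k ≤ f (a k) ⁻¹ᵁ U := fun k v hv => by
    show f (a k) v ∈ U
    have := congrArg (fun φ : (V k).toScheme ⟶ S => φ ⟨v, hv⟩) (hg k)
    simp only [Scheme.Hom.comp_apply] at this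
    exact this ▸ (g k ⟨v, hv⟩).2
  have hsurj : ∀ y, y ∈ U → ∃ k, ∃ v ∈ V k, f (a k) v = y := by
    intro y hy
    obtain ⟨w, hw⟩ := hgs.surj ⟨y, hy⟩
    obtain ⟨k, v, rfl⟩ : ∃ k v, Sigma.ι (fun k => (V k).toScheme) k v = w :=
      (sigmaOpenCover fun k => (V k).toScheme).exists_eq w
    refine ⟨k, v.1, v.2, ?_⟩
    rw [← Scheme.Hom.comp_apply, Sigma.ι_desc] at hw
    have := congrArg (fun φ : (V k).toScheme ⟶ S => φ v) (hg k)
    simp only [Scheme.Hom.comp_apply] at this
    rw [hw] at this
    exact this.symm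
  letI : ∀ k, Algebra Γ(S, U) Γ(T (a k), V k) := fun k => ((f (a k)).appLE U (V k) (hle k)).hom.toAlgebra
  haveI : ∀ k, Module.Flat Γ(S, U) Γ(T (a k), V k) := fun k =>
    HasRingHomProperty.appLE @Flat (f (a k)) (fpqc_flat hf (a k)) ⟨U, hU⟩ ⟨V k, hV k⟩ (hle k)
  have hprime : ∀ (k : Fin n) (v : T (a k)) (hv : v ∈ V k),
      ((hV k).primeIdealOf ⟨v, hv⟩).asIdeal.comap (algebraMap Γ(S, U) Γ(T (a k), V k)) =
        (hU.primeIdealOf ⟨f (a k) v, hle k hv⟩).asIdeal := by
    intro k v hv
    exact congrArg PrimeSpectrum.asIdeal (IsAffineOpen.comap_primeIdealOf_appLE U hU (V k) (hV k) (hle k) hv)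
  haveI hfin : Module.Finite Γ(S, U) Γ(F, U) := by
    refine finite_of_flat_family (fun k => Γ(T (a k), V k)) (fun k => ?_) fun m hm => ?_
    · letI := Module.compHom Γ((Scheme.Modules.pullback (f (a k))).obj F, V k) ((f (a k)).appLE U (V k) (hle k)).hom
      haveI : IsScalarTower Γ(S, U) Γ(T (a k), V k) Γ((Scheme.Modules.pullback (f (a k))).obj F, V k) :=
        .of_algebraMap_smul fun _ _ => rfl
      haveI := hq (a k)
      haveI := H10Coh.finite_sections ((Scheme.Modules.pullback (f (a k))).obj F) (hft (a k)) (hV k)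
      exact Module.Finite.equiv (H8Props.PullSections.isBaseChange_pullLin (f (a k)) F (hle k) ‹_› hU (hV k)).equiv.symm
    · obtain ⟨y, hy⟩ := H29Blow.exists_primeIdealOf_eq hU (⟨m, hm.isPrime⟩ : PrimeSpectrum Γ(S, U))
      obtain ⟨k, v, hv, hvy⟩ := hsurj y.1 y.2
      refine ⟨k, fun htop => ((hV k).primeIdealOf ⟨v, hv⟩).isPrime.ne_top (top_le_iff.mp (htop.ge.trans ?_))⟩
      rw [Ideal.map_le_iff_le_comap, hprime k v hv]
      have : (⟨f (a k) v, hle k hv⟩ : U) = y := Subtype.ext hvy
      rw [this, hy]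
  obtain ⟨k, v, hv, rfl⟩ := hsurj x hxU
  haveI := hq (a k)
  obtain ⟨W, hvW, G, hG, hGr⟩ := exists_generators_nhd_card _ (σ (a k)) (hσ (a k)) v
  obtain ⟨V', hV', hvV', hV'le⟩ := exists_isAffineOpen_mem_and_subset (U := V k ⊓ W) (x := v) ⟨hv, hvW⟩
  have hle' : V' ≤ f (a k) ⁻¹ᵁ U := fun w hw => hle k (hV'le hw).1
  have hgen := genBy_affine_nhd ((Scheme.Modules.pullback (f (a k))).obj F) G hGr hV' fun w hw => (hV'le hw).2
  letI := ((f (a k)).appLE U V' hle').hom.toAlgebra
  letI := Module.compHom Γ((Scheme.Modules.pullback (f (a k))).obj F, V') ((f (a k)).appLE U V' hle').hom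
  haveI : IsScalarTower Γ(S, U) Γ(T (a k), V') Γ((Scheme.Modules.pullback (f (a k))).obj F, V') :=
    .of_algebraMap_smul fun _ _ => rfl
  let e := (H8Props.PullSections.isBaseChange_pullLin (f (a k)) F hle' ‹_› hU hV').equiv
  have h1 : GenBy Γ(T (a k), V') (Γ(T (a k), V') ⊗[Γ(S, U)] Γ(F, U)) r :=
    hgen.of_semilinear (RingHom.id _) e.symm.toLinearMap.toAddMonoidHom (fun b m => e.symm.map_smul b m)
      (eq_top_iff.mpr fun z _ => Submodule.subset_span ⟨e z, e.symm_apply_apply z⟩)
  let q := (hV'.primeIdealOf ⟨v, hvV'⟩).asIdeal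
  let p := hU.primeIdealOf ⟨f (a k) v, hxU⟩
  have hqp : p.asIdeal = q.comap (algebraMap Γ(S, U) Γ(T (a k), V')) :=
    (congrArg PrimeSpectrum.asIdeal (IsAffineOpen.comap_primeIdealOf_appLE U hU V' hV' hle' hvV')).symm
  let L := q.ResidueField
  letI : Algebra p.asIdeal.ResidueField L :=
    (Ideal.ResidueField.map p.asIdeal q (algebraMap Γ(S, U) Γ(T (a k), V')) hqp).toAlgebra
  haveI : IsScalarTower Γ(S, U) p.asIdeal.ResidueField L := IsScalarTower.of_algebraMap_eq' (by
    ext z
    rw [RingHom.comp_apply, RingHom.algebraMap_toAlgebra, Ideal.ResidueField.map_algebraMap]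
    exact IsScalarTower.algebraMap_apply Γ(S, U) Γ(T (a k), V') L z)
  let φ : Γ(T (a k), V') →ₐ[Γ(S, U)] L := IsScalarTower.toAlgHom _ _ _
  have h2 : GenBy L (L ⊗[Γ(S, U)] Γ(F, U)) r := by
    refine h1.of_semilinear φ.toRingHom (φ.toLinearMap.rTensor Γ(F, U)).toAddMonoidHom (fun b z => ?_) ?_
    · induction z using TensorProduct.induction_on with
      | zero => simp
      | add x y hx hy => rw [smul_add, map_add, hx, hy, map_add, smul_add]
      | tmul c m =>
        show φ.toLinearMap.rTensor _ (b • c ⊗ₜ m) = φ b • φ.toLinearMap.rTensor _ (c ⊗ₜ m)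
        simp [TensorProduct.smul_tmul', map_mul]
    · rw [eq_top_iff]
      intro z _
      induction z using TensorProduct.induction_on with
      | zero => exact zero_mem _
      | add x y hx hy => exact add_mem (hx trivial) (hy trivial)
      | tmul c m =>
        have : c ⊗ₜ[Γ(S, U)] m = c • (φ.toLinearMap.rTensor Γ(F, U)) (1 ⊗ₜ m) := by
          simp [TensorProduct.smul_tmul']
        rw [this]
        exact Submodule.smul_mem _ _ (Submodule.subset_span ⟨(1 : Γ(T (a k), V')) ⊗ₜ m, rfl⟩)
  obtain ⟨b, t, hb, htc, hbt⟩ := exists_genBy_away p h2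
  refine ⟨S.basicOpen b, ?_, hU.basicOpen b, genBy_basicOpen F hU b t htc hbt⟩
  exact (congrArg (· ∈ S.basicOpen b) (hU.fromSpec_primeIdealOf ⟨_, hxU⟩)).mp
    ((hU.fromSpec_preimage_basicOpen b).ge hb)

end Groth.Agent.H13Desc
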