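import Mathlib.AlgebraicGeometry.Morphisms.UniversallyInjective
import Mathlib.AlgebraicGeometry.Morphisms.Flat
import Mathlib.AlgebraicGeometry.Morphisms.Separated
import Mathlib.AlgebraicGeometry.ResidueField
import Mathlib.RingTheory.RingHom.Flat

/-!
Generic criteria for universal injectivity of flat morphisms.
-/

universe u

open CategoryTheory CategoryTheory.Limits AlgebraicGeometry Opposite

namespace Groth.Agent.H13Desc

/-- Generalizations lift along flat morphisms. -/
theorem flat_generalizing {A X : Scheme.{u}} (pr : A ⟶ X) [Flat pr] (v : A) (g : X) (h : g ⤳ pr v) :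
    ∃ v' : A, v' ⤳ v ∧ pr v' = g := by
  have hr : g ∈ Set.range (X.fromSpecStalk (pr v)) := by rw [Scheme.range_fromSpecStalk]; exact h
  obtain ⟨q, hq⟩ := hr
  algebraize [(pr.stalkMap v).hom]
  have : Module.Flat (X.presheaf.stalk (pr v)) (A.presheaf.stalk v) := Flat.stalkMap pr v
  have : IsLocalHom (algebraMap (X.presheaf.stalk (pr v)) (A.presheaf.stalk v)) :=
    inferInstanceAs (IsLocalHom (pr.stalkMap v).hom)
  have : Module.FaithfullyFlat (X.presheaf.stalk (pr v)) (A.presheaf.stalk v) :=
    Module.FaithfullyFlat.of_flat_of_isLocalHom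
  obtain ⟨q', hq'⟩ := PrimeSpectrum.comap_surjective_of_faithfullyFlat
    (A := X.presheaf.stalk (pr v)) (B := A.presheaf.stalk v) q
  refine ⟨A.fromSpecStalk v q', ?_, ?_⟩
  · have := Set.mem_range_self (f := A.fromSpecStalk v) q'
    rwa [Scheme.range_fromSpecStalk] at this
  · rw [← hq, ← hq', ← Scheme.Hom.comp_apply, ← Scheme.SpecMap_stalkMap_fromSpecStalk,
      Scheme.Hom.comp_apply]
    rfl

theorem residue_hom_ext {X Y : Scheme.{u}} (f : X ⟶ Y) {K : Type u} [Field K] (ξ : X)
    (hs : Function.Surjective (f.residueFieldMap ξ).hom) (α β : X.residueField ξ ⟶ CommRingCat.of K)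
    (h : Spec.map α ≫ X.fromSpecResidueField ξ ≫ f = Spec.map β ≫ X.fromSpecResidueField ξ ≫ f) : α = β := by
  rw [← Scheme.Hom.SpecMap_residueFieldMap_fromSpecResidueField, ← Spec.map_comp_assoc, ← Spec.map_comp_assoc,
    cancel_mono, Spec.map_inj] at h
  ext x
  obtain ⟨y, rfl⟩ := hs x
  exact congr(($h).hom y)

/-- Two projections of a generic point of the fibre product agree. -/
theorem point_eq_of_surjective_residue {X Y : Scheme.{u}} (f : X ⟶ Y)
    (h2 : ∀ ξ : X, closure ({ξ} : Set X) ∈ irreducibleComponents (X : Type u) →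
      Function.Surjective (f.residueFieldMap ξ).hom)
    (h3 : Set.InjOn f.base {ξ : X | closure ({ξ} : Set X) ∈ irreducibleComponents (X : Type u)})
    (w : (pullback f f : Scheme.{u}))
    (h₁ : closure ({pullback.fst f f w} : Set X) ∈ irreducibleComponents (X : Type u))
    (h₂ : closure ({pullback.snd f f w} : Set X) ∈ irreducibleComponents (X : Type u)) :
    (pullback f f).fromSpecResidueField w ≫ pullback.fst f f =
      (pullback f f).fromSpecResidueField w ≫ pullback.snd f f := by
  have heq : pullback.fst f f w = pullback.snd f f w := h3 h₁ h₂ (by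
    rw [← Scheme.Hom.comp_apply, ← Scheme.Hom.comp_apply, pullback.condition])
  rw [← Scheme.Hom.SpecMap_residueFieldMap_fromSpecResidueField,
    ← Scheme.Hom.SpecMap_residueFieldMap_fromSpecResidueField,
    ← Scheme.residueFieldCongr_fromSpecResidueField heq, ← Spec.map_comp_assoc]
  congr 2
  refine residue_hom_ext (K := (pullback f f).residueField w) f _ (h2 _ h₁) _ _ ?_
  rw [Spec.map_comp, Category.assoc, reassoc_of% Scheme.residueFieldCongr_fromSpecResidueField heq,
    reassoc_of% Scheme.Hom.SpecMap_residueFieldMap_fromSpecResidueField (pullback.fst f f) w,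
    reassoc_of% Scheme.Hom.SpecMap_residueFieldMap_fromSpecResidueField (pullback.snd f f) w,
    pullback.condition]

end Groth.Agent.H13Desc
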