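import Mathlib.AlgebraicGeometry.Sites.Fpqc
import Mathlib.AlgebraicGeometry.Sites.Etale

universe u

open CategoryTheory CategoryTheory.Limits AlgebraicGeometry

namespace Groth.Agent.H13Desc

variable (R P : MorphismProperty Scheme.{u}) [IsZariskiLocalAtSource R] [IsZariskiLocalAtTarget R]
  [R.IsMultiplicative]

theorem exists_largest_open_source [P.IsLocalAtSource (Scheme.precoverage R)]
    (hopen : ∀ ⦃A B : Scheme.{u}⦄ (g : A ⟶ B), R g → IsOpenMap g) {X Y : Scheme.{u}} (f : X ⟶ Y) :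
    ∃ W : X.Opens, (P (W.ι ≫ f) ∧ ∀ W' : X.Opens, P (W'.ι ≫ f) → W' ≤ W) ∧
      ∀ (X' : Scheme.{u}) (g : X' ⟶ X) (V : X'.Opens), R g →
        (P (V.ι ≫ g ≫ f) ∧ ∀ V' : X'.Opens, P (V'.ι ≫ g ≫ f) → V' ≤ V) → V = g ⁻¹ᵁ W := by
  have hR : ∀ {A B : Scheme.{u}} (j : A ⟶ B) [IsOpenImmersion j], R j := fun j _ =>
    IsZariskiLocalAtSource.of_isOpenImmersion j
  let ι := {U : X.Opens // P (U.ι ≫ f)}
  let W : X.Opens := ⨆ U : ι, U.1
  have hW : P (W.ι ≫ f) := by
    have hmem : Presieve.ofArrows (fun U : ι => U.1.toScheme)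
        (fun U : ι => X.homOfLE (le_iSup (fun U : ι => U.1) U)) ∈ Scheme.precoverage R W.toScheme := by
      refine (Scheme.ofArrows_mem_precoverage_iff (P := R)).mpr ⟨fun x => ?_, fun i => hR _⟩
      obtain ⟨U, hU⟩ := TopologicalSpace.Opens.mem_iSup.mp x.2
      let x' : U.1.toScheme := ⟨x.1, hU⟩
      refine ⟨U, x', ?_⟩
      apply W.ι.isOpenEmbedding.injective
      show (_ ≫ W.ι) x' = _
      rw [Scheme.homOfLE_ι]; rfl
    refine MorphismProperty.IsLocalAtSource.of_forall_comp hmem fun U g hg => ?_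
    obtain ⟨U⟩ := hg
    rw [Scheme.homOfLE_ι_assoc]
    exact U.2
  refine ⟨W, ⟨hW, fun W' h => le_iSup (fun U : ι => U.1) ⟨W', h⟩⟩, fun X' g V hg ⟨hV, hmax⟩ => ?_⟩
  refine le_antisymm ?_ (hmax _ ?_)
  · let W0 : X.Opens := ⟨g '' (V : Set X'), hopen g hg _ V.2⟩
    have hle : V ≤ g ⁻¹ᵁ W0 := fun x hx => ⟨x, hx, rfl⟩
    have hmem : Presieve.singleton (g.resLE W0 V hle) ∈ Scheme.precoverage R W0.toScheme := by
      refine (Scheme.singleton_mem_precoverage_iff (P := R) _).mpr ⟨?_, ?_⟩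
      · rintro ⟨_, v, hv, rfl⟩
        let v' : V.toScheme := ⟨v, hv⟩
        refine ⟨v', ?_⟩
        apply W0.ι.isOpenEmbedding.injective
        calc W0.ι (g.resLE W0 V hle v') = (g.resLE W0 V hle ≫ W0.ι) v' := rfl
          _ = (V.ι ≫ g) v' := by rw [Scheme.Hom.resLE_comp_ι]
          _ = _ := rfl
      · exact IsZariskiLocalAtSource.resLE _ hg
    have hW0 : P (W0.ι ≫ f) := by
      refine MorphismProperty.IsLocalAtSource.of_forall_comp hmem fun U k hk => ?_
      cases hk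
      rw [Scheme.Hom.resLE_comp_ι_assoc]
      exact hV
    intro x hx
    exact le_iSup (fun U : ι => U.1) ⟨W0, hW0⟩ (⟨x, hx, rfl⟩ : g x ∈ W0)
  · have hmem : Presieve.ofArrows (fun b : Bool => cond b (g ⁻¹ᵁ W).toScheme W.toScheme)
        (fun b => match b with | true => g.resLE W (g ⁻¹ᵁ W) le_rfl | false => 𝟙 _) ∈
        Scheme.precoverage R W.toScheme := by
      refine (Scheme.ofArrows_mem_precoverage_iff (P := R)).mpr ⟨fun x => ⟨false, x, rfl⟩, fun b => ?_⟩
      cases b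
      · exact R.id_mem _
      · exact IsZariskiLocalAtSource.resLE _ hg
    have := MorphismProperty.IsLocalAtSource.comp hmem _ (Presieve.ofArrows.mk true) hW
    rwa [Scheme.Hom.resLE_comp_ι_assoc] at this

theorem exists_largest_open_target [R.IsStableUnderBaseChange] [P.IsLocalAtTarget (Scheme.precoverage R)]
    (hopen : ∀ ⦃A B : Scheme.{u}⦄ (g : A ⟶ B), R g → IsOpenMap g) {X Y : Scheme.{u}} (f : X ⟶ Y) :
    ∃ W : Y.Opens, P (f ∣_ W) ∧ (∀ W₀ : Y.Opens, P (f ∣_ W₀) → W₀ ≤ W) ∧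
      (∀ (Y' : Scheme.{u}) (g : Y' ⟶ Y), R g → P (pullback.snd f g) → Set.range g ⊆ (W : Set Y)) ∧
      (∀ (Y' : Scheme.{u}) (g : Y' ⟶ Y), R g →
        ∀ W' : Y'.Opens, P (pullback.snd f g ∣_ W') →
          (∀ W₀ : Y'.Opens, P (pullback.snd f g ∣_ W₀) → W₀ ≤ W') → W' = g ⁻¹ᵁ W) := by
  have hR : ∀ {A B : Scheme.{u}} (j : A ⟶ B) [IsOpenImmersion j], R j := fun j _ =>
    IsZariskiLocalAtSource.of_isOpenImmersion j
  -- pullback of `f ∣_ W` along a map into `W`
  have key : ∀ (W : Y.Opens) {T T' : Scheme.{u}} (t : T ⟶ W.toScheme) (a : T' ⟶ X) (b : T' ⟶ T),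
      IsPullback a b f (t ≫ W.ι) → (P (pullback.snd (f ∣_ W) t) ↔ P b) := by
    intro W T T' t a b sq
    have big := (IsPullback.of_hasPullback (f ∣_ W) t).paste_horiz (isPullback_morphismRestrict f W).flip
    rw [← IsPullback.isoIsPullback_hom_snd _ _ big sq, P.cancel_left_of_respectsIso]
  let ι := {U : Y.Opens // P (f ∣_ U)}
  let W : Y.Opens := ⨆ U : ι, U.1
  have hW : P (f ∣_ W) := by
    have hmem : Presieve.ofArrows (fun U : ι => U.1.toScheme)
        (fun U : ι => Y.homOfLE (le_iSup (fun U : ι => U.1) U)) ∈ Scheme.precoverage R W.toScheme := by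
      refine (Scheme.ofArrows_mem_precoverage_iff (P := R)).mpr ⟨fun x => ?_, fun i => hR _⟩
      obtain ⟨U, hU⟩ := TopologicalSpace.Opens.mem_iSup.mp x.2
      let x' : U.1.toScheme := ⟨x.1, hU⟩
      refine ⟨U, x', ?_⟩
      apply W.ι.isOpenEmbedding.injective
      show (_ ≫ W.ι) x' = _
      rw [Scheme.homOfLE_ι]; rfl
    refine MorphismProperty.IsLocalAtTarget.of_forall_pullbackSnd hmem fun {T t} _ ht => ?_
    obtain ⟨U⟩ := ht
    refine (key W _ (f ⁻¹ᵁ U.1).ι (f ∣_ U.1) ?_).mpr U.2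
    rw [Scheme.homOfLE_ι]
    exact (isPullback_morphismRestrict f U.1).flip
  have hrange : ∀ (Y' : Scheme.{u}) (g : Y' ⟶ Y), R g → P (pullback.snd f g) →
      Set.range g ⊆ (W : Set Y) := by
    intro Y' g hg hP
    let W0 : Y.Opens := ⟨Set.range g, (hopen g hg).isOpen_range⟩
    have hle : (⊤ : Y'.Opens) ≤ g ⁻¹ᵁ W0 := fun x _ => ⟨x, rfl⟩
    have hmem : Presieve.singleton (g.resLE W0 ⊤ hle) ∈ Scheme.precoverage R W0.toScheme := by
      refine (Scheme.singleton_mem_precoverage_iff (P := R) _).mpr ⟨?_, IsZariskiLocalAtSource.resLE _ hg⟩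
      rintro ⟨_, v, rfl⟩
      let v' : (⊤ : Y'.Opens).toScheme := ⟨v, trivial⟩
      refine ⟨v', ?_⟩
      apply W0.ι.isOpenEmbedding.injective
      show (g.resLE W0 ⊤ hle ≫ W0.ι) v' = _
      rw [Scheme.Hom.resLE_comp_ι]; rfl
    have hW0 : P (f ∣_ W0) := by
      refine MorphismProperty.IsLocalAtTarget.of_forall_pullbackSnd hmem fun {T t} _ ht => ?_
      cases ht
      refine (key W0 _ ((pullback.snd f g ⁻¹ᵁ ⊤).ι ≫ pullback.fst f g) (pullback.snd f g ∣_ ⊤) ?_).mpr ?_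
      · rw [Scheme.Hom.resLE_comp_ι]
        exact (isPullback_morphismRestrict (pullback.snd f g) ⊤).flip.paste_horiz (IsPullback.of_hasPullback f g)
      · have : IsIso (⊤ : Y'.Opens).ι := inferInstanceAs (IsIso Y'.topIso.hom)
        have : IsIso (pullback.snd f g ⁻¹ᵁ ⊤).ι := inferInstanceAs (IsIso (pullback f g).topIso.hom)
        rw [← P.cancel_right_of_respectsIso _ (⊤ : Y'.Opens).ι, morphismRestrict_ι,
          P.cancel_left_of_respectsIso]
        exact hP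
    rintro _ ⟨v, rfl⟩
    exact le_iSup (fun U : ι => U.1) ⟨W0, hW0⟩ (⟨v, rfl⟩ : g v ∈ W0)
  refine ⟨W, hW, fun W₀ h => le_iSup (fun U : ι => U.1) ⟨W₀, h⟩, hrange, fun Y' g hg W' hP hmax => ?_⟩
  refine le_antisymm ?_ (hmax _ ?_)
  · have := hrange _ (W'.ι ≫ g) (R.comp_mem _ _ (hR _) hg) (by
      rw [← IsPullback.isoIsPullback_hom_snd _ _
        ((isPullback_morphismRestrict (pullback.snd f g) W').flip.paste_horiz (IsPullback.of_hasPullback f g))
        (IsPullback.of_hasPullback f (W'.ι ≫ g)), P.cancel_left_of_respectsIso] at hP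
      exact hP)
    intro x hx
    exact this ⟨⟨x, hx⟩, rfl⟩
  · have hmem : Presieve.ofArrows (fun b : Bool => cond b (g ⁻¹ᵁ W).toScheme W.toScheme)
        (fun b => match b with | true => g ∣_ W | false => 𝟙 _) ∈
        Scheme.precoverage R W.toScheme := by
      refine (Scheme.ofArrows_mem_precoverage_iff (P := R)).mpr ⟨fun x => ⟨false, x, rfl⟩, fun b => ?_⟩
      cases b
      · exact R.id_mem _
      · exact R.of_isPullback (isPullback_morphismRestrict g W).flip hg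
    have := MorphismProperty.IsLocalAtTarget.pullbackSnd (f := f ∣_ W) hmem (Presieve.ofArrows.mk true) hW
    refine (key W _ ((pullback.snd f g ⁻¹ᵁ (g ⁻¹ᵁ W)).ι ≫ pullback.fst f g) _ ?_).mp this
    rw [morphismRestrict_ι]
    exact (isPullback_morphismRestrict (pullback.snd f g) (g ⁻¹ᵁ W)).flip.paste_horiz (IsPullback.of_hasPullback f g)

end Groth.Agent.H13Desc
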