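import Groth.Prelude.Def_Desc
import Mathlib.RingTheory.TensorProduct.Maps
import Mathlib.LinearAlgebra.TensorProduct.RightExactness
import Mathlib.RingTheory.Flat.Basic
import Mathlib.RingTheory.Flat.FaithfullyFlat.Basic
import Mathlib.RingTheory.RingHom.Flat

/-!
Effective descent of modules along faithfully flat ring maps.
-/

set_option backward.isDefEq.respectTransparency false
set_option backward.isDefEq.respectTransparency.types false
set_option linter.style.haveILetI false
set_option linter.unusedSectionVars false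

universe u

open CategoryTheory Opposite ModuleCat Pseudofunctor
open scoped ChangeOfRings TensorProduct

namespace Groth.Agent.H13Desc.ModDesc

section comparison

variable {A B C : CommRingCat.{u}ᵒᵖ} (g : C ⟶ B) (f : B ⟶ A) (h : C ⟶ A)

theorem mapComp_hom_app (M : ModuleCat.{u} A.unop) :
    ((Desc.ringModPF.{u}.mapComp f.op.toLoc g.op.toLoc).hom.toNatTrans.app M :
      (extendScalars (g ≫ f).unop.hom).obj M ⟶
        (extendScalars g.unop.hom).obj ((extendScalars f.unop.hom).obj M)) =
    (extendScalarsComp f.unop.hom g.unop.hom).hom.app M := by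
  simp [Desc.ringModPF, CommRingCat.moduleCatExtendScalarsPseudofunctor, Pseudofunctor.comp,
    Functor.toPseudofunctor]
  rfl

theorem mapComp'_hom_one (w : g ≫ f = h) (pf : f.op.toLoc ≫ g.op.toLoc = h.op.toLoc)
    (M : ModuleCat.{u} A.unop) (m : M) :
    ConcreteCategory.hom (X := (extendScalars h.unop.hom).obj M)
        (Y := (extendScalars g.unop.hom).obj ((extendScalars f.unop.hom).obj M))
        ((Desc.ringModPF.{u}.mapComp' f.op.toLoc g.op.toLoc h.op.toLoc pf).hom.toNatTrans.app M)
        ((1 : C.unop) ⊗ₜ[A.unop, h.unop.hom] m) =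
      (1 : C.unop) ⊗ₜ[B.unop, g.unop.hom] ((1 : B.unop) ⊗ₜ[A.unop, f.unop.hom] m) := by
  subst w
  rw [show Desc.ringModPF.{u}.mapComp' f.op.toLoc g.op.toLoc (g ≫ f).op.toLoc pf =
    Desc.ringModPF.{u}.mapComp f.op.toLoc g.op.toLoc from Pseudofunctor.mapComp'_eq_mapComp _ _ _]
  rw [mapComp_hom_app]
  exact extendScalarsComp_hom_app_one_tmul _ _ M m

theorem mapComp'_inv_one (w : g ≫ f = h) (pf : f.op.toLoc ≫ g.op.toLoc = h.op.toLoc)
    (M : ModuleCat.{u} A.unop) (m : M) :
    ConcreteCategory.hom (Y := (extendScalars h.unop.hom).obj M)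
        (X := (extendScalars g.unop.hom).obj ((extendScalars f.unop.hom).obj M))
        ((Desc.ringModPF.{u}.mapComp' f.op.toLoc g.op.toLoc h.op.toLoc pf).inv.toNatTrans.app M)
        ((1 : C.unop) ⊗ₜ[B.unop, g.unop.hom] ((1 : B.unop) ⊗ₜ[A.unop, f.unop.hom] m)) =
      (1 : C.unop) ⊗ₜ[A.unop, h.unop.hom] m := by
  rw [← mapComp'_hom_one g f h w pf]
  exact congr(ConcreteCategory.hom (X := (extendScalars h.unop.hom).obj M)
    (Y := (extendScalars h.unop.hom).obj M)
    $((Cat.Hom.toNatIso (Desc.ringModPF.{u}.mapComp' f.op.toLoc g.op.toLoc h.op.toLoc pf)).hom_inv_id_app M)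
    ((1 : C.unop) ⊗ₜ[A.unop, h.unop.hom] m))

end comparison

variable {R S : Type u} [CommRing R] [CommRing S] [Algebra R S]

/-- The ring map as a morphism. -/
abbrev φ (R S : Type u) [CommRing R] [CommRing S] [Algebra R S] : CommRingCat.of R ⟶ CommRingCat.of S :=
  CommRingCat.ofHom (algebraMap R S)

variable {N : Type u} [AddCommGroup N] [Module S N] [Module R N] [IsScalarTower R S N]

/-- The extension of scalars of the module along a point. -/
noncomputable abbrev E (N : Type u) [AddCommGroup N] [Module S N] {T : CommRingCat.{u}}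
    (b : CommRingCat.of S ⟶ T) : ModuleCat.{u} T :=
  (extendScalars b.hom).obj (ModuleCat.of S N)

/-- The generator. -/
noncomputable def gen {T : CommRingCat.{u}} (b : CommRingCat.of S ⟶ T) : N →+ E N b where
  toFun n := (1 : T) ⊗ₜ[S, b.hom] n
  map_zero' := TensorProduct.tmul_zero _ _
  map_add' := TensorProduct.tmul_add _

theorem gen_smul {T : CommRingCat.{u}} (b : CommRingCat.of S ⟶ T) (s : S) (n : N) :
    gen b (s • n) = b.hom s • gen b n := by
  letI := Module.compHom T b.hom
  show (1 : T) ⊗ₜ[S, b.hom] (s • n) = (b.hom s • (1 : T)) ⊗ₜ[S, b.hom] n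
  rw [← TensorProduct.smul_tmul]
  rfl

/-- Induction on generators. -/
theorem E_induction {T : CommRingCat.{u}} (b : CommRingCat.of S ⟶ T) {P : E N b → Prop}
    (h0 : P 0) (hadd : ∀ x y, P x → P y → P (x + y)) (h : ∀ (t : T) (n : N), P (t • gen b n))
    (x : E N b) : P x := by
  induction x using TensorProduct.induction_on with
  | zero => exact h0
  | add x y hx hy => exact hadd x y hx hy
  | tmul t n =>
    have e : ((show T from t) ⊗ₜ[S, b.hom] n : E N b) = (show T from t) • gen b n := by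
      show _ = ((show T from t) • (1 : T)) ⊗ₜ[S, b.hom] n
      rw [smul_eq_mul, mul_one]
    exact (congrArg P e).mpr (h _ n)

/-- Additive maps out of an extension of scalars. -/
noncomputable def liftE {T : CommRingCat.{u}} (b : CommRingCat.of S ⟶ T) {P : Type u} [AddCommGroup P]
    (β : T →+ N →+ P) (hβ : ∀ (s : S) (t : T) (n : N), β (b.hom s * t) n = β t (s • n)) : E N b →+ P :=
  letI := Module.compHom T b.hom
  TensorProduct.liftAddHom β fun s t n => hβ s t n

theorem liftE_smul_gen {T : CommRingCat.{u}} (b : CommRingCat.of S ⟶ T) {P : Type u} [AddCommGroup P]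
    (β : T →+ N →+ P) (hβ : ∀ (s : S) (t : T) (n : N), β (b.hom s * t) n = β t (s • n)) (t : T) (n : N) :
    liftE b β hβ (t • gen b n) = β t n := by
  show liftE b β hβ ((t • (1 : T)) ⊗ₜ[S, b.hom] n) = _
  rw [smul_eq_mul, mul_one]
  rfl

theorem compat_apply {T : CommRingCat.{u}} {a b : CommRingCat.of S ⟶ T} (h : φ R S ≫ a = φ R S ≫ b) (r : R) :
    a.hom (algebraMap R S r) = b.hom (algebraMap R S r) :=
  congr(($h).hom r)

/-- The canonical comparison `S ⊗_R N → T ⊗_S N` for two points `a, b` with the same restriction. -/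
noncomputable def ψ {T : CommRingCat.{u}} (a b : CommRingCat.of S ⟶ T) (h : φ R S ≫ a = φ R S ≫ b) :
    S ⊗[R] N →+ E N b :=
  TensorProduct.liftAddHom
    (AddMonoidHom.mk' (fun s => AddMonoidHom.mk' (fun n => a.hom s • gen b n)
        (fun n n' => by simp only [map_add, smul_add]))
      fun s s' => by ext n; simp [map_add, add_smul])
    fun r s n => by
      show a.hom (r • s) • gen b n = a.hom s • gen b (r • n)
      rw [← algebraMap_smul S r n, gen_smul, Algebra.smul_def, map_mul, compat_apply h r,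
        mul_comm, mul_smul]

theorem ψ_tmul {T : CommRingCat.{u}} (a b : CommRingCat.of S ⟶ T) (h : φ R S ≫ a = φ R S ≫ b) (s : S) (n : N) :
    ψ a b h (s ⊗ₜ[R] n) = a.hom s • gen b n := rfl

variable (R S N) in
/-- The gluing maps of a descent datum for modules, in element form. -/
structure Cocycle where
  /-- the gluing maps -/
  Φ : ∀ ⦃T : CommRingCat.{u}⦄ (a b : CommRingCat.of S ⟶ T), φ R S ≫ a = φ R S ≫ b → (E N a ⟶ E N b)
  natural : ∀ ⦃T T' : CommRingCat.{u}⦄ (a b : CommRingCat.of S ⟶ T) (h : φ R S ≫ a = φ R S ≫ b)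
    (g : T ⟶ T') (h' : φ R S ≫ a ≫ g = φ R S ≫ b ≫ g) (n : N) (x : S ⊗[R] N),
    Φ a b h (gen a n) = ψ a b h x → Φ (a ≫ g) (b ≫ g) h' (gen (a ≫ g) n) = ψ (a ≫ g) (b ≫ g) h' x
  self : ∀ ⦃T : CommRingCat.{u}⦄ (a : CommRingCat.of S ⟶ T) (n : N), Φ a a rfl (gen a n) = gen a n
  comp : ∀ ⦃T : CommRingCat.{u}⦄ (a b c : CommRingCat.of S ⟶ T) (h : φ R S ≫ a = φ R S ≫ b)
    (h' : φ R S ≫ b = φ R S ≫ c) (n : N), Φ b c h' (Φ a b h (gen a n)) = Φ a c (h.trans h') (gen a n)

/-- The ring of pairs. -/
abbrev T₂ (R S : Type u) [CommRing R] [CommRing S] [Algebra R S] : CommRingCat.{u} :=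
  CommRingCat.of (S ⊗[R] S)

/-- First inclusion. -/
noncomputable def i₁ (R S : Type u) [CommRing R] [CommRing S] [Algebra R S] : CommRingCat.of S ⟶ T₂ R S :=
  CommRingCat.ofHom Algebra.TensorProduct.includeLeftRingHom

/-- Second inclusion. -/
noncomputable def i₂ (R S : Type u) [CommRing R] [CommRing S] [Algebra R S] : CommRingCat.of S ⟶ T₂ R S :=
  CommRingCat.ofHom (Algebra.TensorProduct.includeRight (A := S) (B := S) (R := R)).toRingHom

theorem i_compat : φ R S ≫ i₁ R S = φ R S ≫ i₂ R S := by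
  ext r
  show (algebraMap R S r) ⊗ₜ[R] (1 : S) = (1 : S) ⊗ₜ[R] (algebraMap R S r)
  rw [Algebra.algebraMap_eq_smul_one, TensorProduct.smul_tmul]

/-- The action on the last factor. -/
noncomputable def act₂ (n : N) : S ⊗[R] S →ₗ[R] S ⊗[R] N :=
  LinearMap.lTensor S ((LinearMap.toSpanSingleton S N n).restrictScalars R)

/-- The inverse of the comparison on pairs. -/
noncomputable def κ : E N (i₂ R S) →+ S ⊗[R] N :=
  liftE (i₂ R S) (AddMonoidHom.mk' (fun t => AddMonoidHom.mk' (fun n => act₂ n t) (fun n n' => by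
      induction t using TensorProduct.induction_on with
      | zero => simp
      | add x y hx hy => simp only [map_add, hx, hy]; abel
      | tmul p q => simp [act₂, smul_add, TensorProduct.tmul_add]))
    fun t t' => by ext n; exact map_add (act₂ n) t t') fun s t n => by
      show act₂ n ((1 : S) ⊗ₜ[R] s * t) = act₂ (s • n) t
      induction t using TensorProduct.induction_on with
      | zero => simp
      | add x y hx hy => rw [mul_add, map_add, map_add, hx, hy]
      | tmul p q => simp [act₂, smul_smul, mul_comm s q]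

theorem κ_ψ (x : S ⊗[R] N) : κ (ψ (i₁ R S) (i₂ R S) i_compat x) = x := by
  induction x using TensorProduct.induction_on with
  | zero => simp
  | add x y hx hy => rw [map_add, map_add, hx, hy]
  | tmul s n =>
    rw [ψ_tmul, κ, liftE_smul_gen]
    show act₂ n (s ⊗ₜ[R] (1 : S)) = _
    simp [act₂]

theorem ψ_surjective (y : E N (i₂ R S)) : ∃ x, ψ (i₁ R S) (i₂ R S) i_compat x = y := by
  induction y using E_induction with
  | h0 => exact ⟨0, map_zero _⟩
  | hadd x y hx hy =>
    obtain ⟨x', rfl⟩ := hx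
    obtain ⟨y', rfl⟩ := hy
    exact ⟨x' + y', map_add _ _ _⟩
  | h t n =>
    induction t using TensorProduct.induction_on with
    | zero => exact ⟨0, by rw [map_zero, zero_smul]⟩
    | add x y hx hy =>
      obtain ⟨x', hx⟩ := hx
      obtain ⟨y', hy⟩ := hy
      exact ⟨x' + y', by rw [map_add, hx, hy, add_smul]⟩
    | tmul p q =>
      refine ⟨p ⊗ₜ[R] (q • n), ?_⟩
      rw [ψ_tmul, gen_smul, smul_smul]
      congr 1
      show (p ⊗ₜ[R] (1 : S)) * ((1 : S) ⊗ₜ[R] q) = _
      simp

/-- The ring of triples. -/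
abbrev T₃ (R S : Type u) [CommRing R] [CommRing S] [Algebra R S] : CommRingCat.{u} :=
  CommRingCat.of (S ⊗[R] (S ⊗[R] S))

/-- First inclusion into triples. -/
noncomputable def j₁ (R S : Type u) [CommRing R] [CommRing S] [Algebra R S] : CommRingCat.of S ⟶ T₃ R S :=
  CommRingCat.ofHom Algebra.TensorProduct.includeLeftRingHom

/-- Inclusion of pairs as the last two factors. -/
noncomputable def j₂₃ (R S : Type u) [CommRing R] [CommRing S] [Algebra R S] : T₂ R S ⟶ T₃ R S :=
  CommRingCat.ofHom (Algebra.TensorProduct.includeRight (A := S) (B := S ⊗[R] S) (R := R)).toRingHom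

variable (c : Cocycle R S N)

/-- The coaction. -/
noncomputable def Cocycle.ρ (n : N) : S ⊗[R] N := κ (c.Φ (i₁ R S) (i₂ R S) i_compat (gen _ n))

theorem Cocycle.ψ_ρ_univ (n : N) :
    ψ (i₁ R S) (i₂ R S) i_compat (c.ρ n) = c.Φ (i₁ R S) (i₂ R S) i_compat (gen _ n) := by
  obtain ⟨x, hx⟩ := ψ_surjective (R := R) (c.Φ (i₁ R S) (i₂ R S) i_compat (gen _ n))
  rw [Cocycle.ρ, ← hx, κ_ψ]

/-- The gluing maps are determined by the coaction. -/
theorem Cocycle.Φ_gen {T : CommRingCat.{u}} (a b : CommRingCat.of S ⟶ T) (h : φ R S ≫ a = φ R S ≫ b)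
    (n : N) : c.Φ a b h (gen a n) = ψ a b h (c.ρ n) := by
  algebraize [(φ R S ≫ a).hom]
  let a' : S →ₐ[R] T := { a.hom with commutes' := fun r => rfl }
  let b' : S →ₐ[R] T := { b.hom with commutes' := fun r => (compat_apply h r).symm }
  let g : T₂ R S ⟶ T := CommRingCat.ofHom (Algebra.TensorProduct.productMap a' b').toRingHom
  have ha : i₁ R S ≫ g = a := by
    ext s
    show Algebra.TensorProduct.productMap a' b' (s ⊗ₜ[R] (1 : S)) = a.hom s
    rw [Algebra.TensorProduct.productMap_apply_tmul, map_one, mul_one]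
    rfl
  have hb : i₂ R S ≫ g = b := by
    ext s
    show Algebra.TensorProduct.productMap a' b' ((1 : S) ⊗ₜ[R] s) = b.hom s
    rw [Algebra.TensorProduct.productMap_apply_tmul, map_one, one_mul]
    rfl
  have key := c.natural _ _ i_compat g
    (by rw [← Category.assoc, ← Category.assoc, i_compat]) n (c.ρ n) (c.ψ_ρ_univ n).symm
  clear_value g a' b'
  clear a' b'
  subst ha hb
  exact key

theorem Cocycle.ρ_add (n n' : N) : c.ρ (n + n') = c.ρ n + c.ρ n' := by
  simp only [Cocycle.ρ, map_add]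

theorem Cocycle.ρ_smul (s : S) (n : N) : c.ρ (s • n) = s • c.ρ n := by
  apply Function.LeftInverse.injective (κ_ψ (R := R) (S := S) (N := N))
  rw [c.ψ_ρ_univ, gen_smul, map_smul, ← c.ψ_ρ_univ]
  induction c.ρ n using TensorProduct.induction_on with
  | zero => simp
  | add x y hx hy => simp only [map_add, smul_add, hx, hy]
  | tmul p m => rw [TensorProduct.smul_tmul', ψ_tmul, ψ_tmul, smul_smul, ← map_mul, smul_eq_mul]

/-- The coaction as a linear map. -/
noncomputable def Cocycle.ρₗ : N →ₗ[S] S ⊗[R] N where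
  toFun := c.ρ
  map_add' := c.ρ_add
  map_smul' := c.ρ_smul

/-- The multiplication. -/
noncomputable def μ : S ⊗[R] N →ₗ[R] N := TensorProduct.lift ((LinearMap.lsmul S N).restrictScalars₁₂ R R)

theorem μ_tmul (s : S) (n : N) : μ (R := R) (s ⊗ₜ[R] n) = s • n := rfl

theorem Cocycle.μ_ρ (n : N) : μ (c.ρ n) = n := by
  let id' : CommRingCat.of S ⟶ CommRingCat.of S := 𝟙 _
  let e : E N id' →+ N :=
    liftE id' (AddMonoidHom.mk' (fun t : S => AddMonoidHom.mk' (fun n : N => t • n) (smul_add t))
      fun t t' => by ext n; exact add_smul t t' n) fun s t n => by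
        show (s * t) • n = t • s • n
        rw [smul_smul, mul_comm]
  have h1 : ∀ x : S ⊗[R] N, e (ψ id' id' rfl x) = μ x := by
    intro x
    induction x using TensorProduct.induction_on with
    | zero => simp
    | add x y hx hy => rw [map_add, map_add, map_add, hx, hy]
    | tmul s m => rw [ψ_tmul, μ_tmul]; exact liftE_smul_gen _ _ _ _ _
  rw [← h1, ← c.Φ_gen, c.self]
  calc e (gen id' n) = e ((1 : S) • gen id' n) := by rw [one_smul]
    _ = (1 : S) • n := liftE_smul_gen _ _ _ _ _
    _ = n := one_smul _ _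

/-- The difference of the coaction and the trivial one. -/
noncomputable def Cocycle.δ : N →ₗ[R] S ⊗[R] N :=
  c.ρₗ.restrictScalars R - TensorProduct.mk R S N 1

theorem Cocycle.coassoc (n : N) : c.δ.lTensor S (c.ρ n) = 0 := by
  let a := j₁ R S
  let b := i₁ R S ≫ j₂₃ R S
  let d := i₂ R S ≫ j₂₃ R S
  have hbd : φ R S ≫ b = φ R S ≫ d := by
    simp only [b, d, ← Category.assoc, i_compat]
  have hab : φ R S ≫ a = φ R S ≫ b := by
    ext r
    show (algebraMap R S r) ⊗ₜ[R] (1 : S ⊗[R] S) = (1 : S) ⊗ₜ[R] ((algebraMap R S r) ⊗ₜ[R] (1 : S))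
    rw [Algebra.algebraMap_eq_smul_one, TensorProduct.smul_tmul, ← TensorProduct.smul_tmul']
    rfl
  let β : E N d →+ S ⊗[R] (S ⊗[R] N) :=
    liftE d (AddMonoidHom.mk' (fun t => AddMonoidHom.mk' (fun m => (act₂ (R := R) m).lTensor S t) (fun m m' => by
        induction t using TensorProduct.induction_on with
        | zero => simp
        | add x y hx hy => simp only [map_add, hx, hy]; abel
        | tmul p q =>
          simp only [LinearMap.lTensor_tmul, ← TensorProduct.tmul_add]
          congr 1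
          induction q using TensorProduct.induction_on with
          | zero => simp
          | add x y hx hy => simp only [map_add, hx, hy]; abel
          | tmul v w => simp [act₂, smul_add, TensorProduct.tmul_add]))
      fun t t' => by ext m; exact map_add ((act₂ (R := R) m).lTensor S) t t') fun s t m => by
        show (act₂ (R := R) m).lTensor S ((1 : S) ⊗ₜ[R] ((1 : S) ⊗ₜ[R] s) * t) =
          (act₂ (R := R) (s • m)).lTensor S t
        induction t using TensorProduct.induction_on with
        | zero => simp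
        | add x y hx hy => rw [mul_add, map_add, map_add, hx, hy]
        | tmul p q =>
          rw [Algebra.TensorProduct.tmul_mul_tmul, one_mul, LinearMap.lTensor_tmul, LinearMap.lTensor_tmul]
          congr 1
          induction q using TensorProduct.induction_on with
          | zero => simp
          | add x y hx hy => rw [mul_add, map_add, map_add, hx, hy]
          | tmul v w => simp [act₂, smul_smul, mul_comm s w]
  -- transport twice
  have h1 : β (ψ a d (hab.trans hbd) (c.ρ n)) =
      (TensorProduct.mk R S N 1).lTensor S (c.ρ n) := by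
    induction c.ρ n using TensorProduct.induction_on with
    | zero => simp
    | add x y hx hy => simp only [map_add, hx, hy]
    | tmul s m =>
      rw [ψ_tmul, liftE_smul_gen]
      show (act₂ (R := R) m).lTensor S (s ⊗ₜ[R] (1 : S ⊗[R] S)) = _
      simp [act₂, Algebra.TensorProduct.one_def]
  have h2 : ∀ x : S ⊗[R] N, β (c.Φ b d hbd (ψ a b hab x)) = (c.ρₗ.restrictScalars R).lTensor S x := by
    intro x
    induction x using TensorProduct.induction_on with
    | zero => simp
    | add x y hx hy => simp only [map_add, hx, hy]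
    | tmul s m =>
      rw [ψ_tmul, map_smul, c.Φ_gen b d hbd]
      show _ = s ⊗ₜ[R] c.ρ m
      induction c.ρ m using TensorProduct.induction_on with
      | zero => simp
      | add x y hx hy => simp only [map_add, smul_add, hx, hy, TensorProduct.tmul_add]
      | tmul v w =>
        rw [ψ_tmul, smul_smul, liftE_smul_gen]
        show (act₂ (R := R) w).lTensor S ((s ⊗ₜ[R] (1 : S ⊗[R] S)) * ((1 : S) ⊗ₜ[R] (v ⊗ₜ[R] (1 : S)))) = _
        simp [act₂]
  have key := congrArg β (c.comp a b d hab hbd n)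
  rw [c.Φ_gen a b hab, c.Φ_gen a d, h1, h2] at key
  rw [Cocycle.δ, LinearMap.lTensor_sub, LinearMap.sub_apply, key, sub_self]

/-- The descended module. -/
noncomputable def Cocycle.inv : Submodule R N := LinearMap.ker c.δ

theorem Cocycle.ρ_inv (m : c.inv) : c.ρ m = (1 : S) ⊗ₜ[R] (m : N) := sub_eq_zero.mp m.2

/-- The comparison of the extension of the descended module with the module. -/
noncomputable def Cocycle.e : S ⊗[R] c.inv →ₗ[S] N :=
  TensorProduct.AlgebraTensorModule.lift
    { toFun := fun s => s • c.inv.subtype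
      map_add' := fun s s' => add_smul s s' _
      map_smul' := fun s s' => smul_smul s s' _ |>.symm }

theorem Cocycle.e_tmul (s : S) (m : c.inv) : c.e (s ⊗ₜ[R] m) = s • (m : N) := rfl

theorem Cocycle.ρ_e (z : S ⊗[R] c.inv) : c.ρ (c.e z) = c.inv.subtype.lTensor S z := by
  induction z using TensorProduct.induction_on with
  | zero => exact c.ρₗ.map_zero
  | add x y hx hy => rw [map_add, map_add, c.ρ_add, hx, hy]
  | tmul s m =>
    rw [c.e_tmul, c.ρ_smul, c.ρ_inv, TensorProduct.smul_tmul', smul_eq_mul, mul_one]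
    rfl

theorem Cocycle.e_eq_μ (z : S ⊗[R] c.inv) : c.e z = μ (c.inv.subtype.lTensor S z) := by
  induction z using TensorProduct.induction_on with
  | zero => simp
  | add x y hx hy => simp only [map_add, hx, hy]
  | tmul s m => rfl

/-- Effectivity. -/
theorem Cocycle.e_bijective [Module.Flat R S] : Function.Bijective c.e := by
  have hinj : Function.Injective (c.inv.subtype.lTensor S) :=
    Module.Flat.lTensor_preserves_injective_linearMap _ c.inv.subtype_injective
  refine ⟨fun x y h => hinj ?_, fun n => ?_⟩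
  · rw [← c.ρ_e, h, c.ρ_e]
  · have hex : Function.Exact (c.inv.subtype.lTensor S) (c.δ.lTensor S) :=
      Module.Flat.lTensor_exact S (LinearMap.exact_subtype_ker_map c.δ)
    obtain ⟨z, hz⟩ := (hex (c.ρ n)).mp (c.coassoc n)
    exact ⟨z, by rw [c.e_eq_μ, hz, c.μ_ρ]⟩

theorem Cocycle.Φ_inv {T : CommRingCat.{u}} (a b : CommRingCat.of S ⟶ T) (h : φ R S ≫ a = φ R S ≫ b)
    (s : S) (m : c.inv) : c.Φ a b h (gen a (s • (m : N))) = a.hom s • gen b (m : N) := by
  rw [c.Φ_gen, c.ρ_smul, c.ρ_inv, TensorProduct.smul_tmul', smul_eq_mul, mul_one, ψ_tmul]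

section datum

variable (D : Desc.ringModPF.{u}.DescentData (fun _ : PUnit.{u + 1} => (φ R S).op))

/-- The module of a descent datum. -/
noncomputable abbrev obj₀ : ModuleCat.{u} (CommRingCat.of S) := D.obj PUnit.unit

noncomputable instance : Module R (obj₀ D) := Module.compHom (obj₀ D) (algebraMap R S)

instance : IsScalarTower R S (obj₀ D) := ⟨fun r s n => by
  show (r • s) • n = algebraMap R S r • s • n
  rw [Algebra.smul_def, mul_smul]⟩

/-- The gluing maps of a descent datum. -/
noncomputable def glue {T : CommRingCat.{u}} (a b : CommRingCat.of S ⟶ T) (h : φ R S ≫ a = φ R S ≫ b) :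
    E (obj₀ D) a ⟶ E (obj₀ D) b :=
  D.hom (i₁ := PUnit.unit) (i₂ := PUnit.unit) (φ R S ≫ a).op a.op b.op rfl (congrArg Quiver.Hom.op h).symm

theorem glue_natural {T T' : CommRingCat.{u}} (a b : CommRingCat.of S ⟶ T) (h : φ R S ≫ a = φ R S ≫ b)
    (g : T ⟶ T') (h' : φ R S ≫ a ≫ g = φ R S ≫ b ≫ g) (n : obj₀ D) (x : S ⊗[R] obj₀ D)
    (hx : glue D a b h (gen a n) = ψ a b h x) :
    glue D (a ≫ g) (b ≫ g) h' (gen (a ≫ g) n) = ψ (a ≫ g) (b ≫ g) h' x := by
  have hn := D.pullHom_hom (i₁ := PUnit.unit) (i₂ := PUnit.unit) g.op (φ R S ≫ a).op (φ R S ≫ a ≫ g).op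
    (by rw [← op_comp, Category.assoc]) a.op b.op rfl (congrArg Quiver.Hom.op h).symm (a ≫ g).op (b ≫ g).op rfl rfl
  show ConcreteCategory.hom (X := E (obj₀ D) (a ≫ g)) (Y := E (obj₀ D) (b ≫ g))
    (D.hom (φ R S ≫ a ≫ g).op (a ≫ g).op (b ≫ g).op _ _) _ = _
  rw [← hn]
  let M : ModuleCat.{u} T' := (extendScalars g.hom).obj (E (obj₀ D) b)
  let C₁ : E (obj₀ D) (a ≫ g) ⟶ (extendScalars g.hom).obj (E (obj₀ D) a) :=
    (Desc.ringModPF.{u}.mapComp' a.op.op.toLoc g.op.op.toLoc (a ≫ g).op.op.toLoc rfl).hom.toNatTrans.app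
      (D.obj PUnit.unit)
  let C₂ : (extendScalars g.hom).obj (E (obj₀ D) b) ⟶ E (obj₀ D) (b ≫ g) :=
    (Desc.ringModPF.{u}.mapComp' b.op.op.toLoc g.op.op.toLoc (b ≫ g).op.op.toLoc rfl).inv.toNatTrans.app
      (D.obj PUnit.unit)
  show C₂ ((extendScalars g.hom).map (glue D a b h) (C₁ (gen (a ≫ g) n))) = _
  have e₁ : C₁ (gen (a ≫ g) n) = (1 : T') ⊗ₜ[T, g.hom] (gen a n) :=
    mapComp'_hom_one g.op a.op (a ≫ g).op rfl rfl (obj₀ D) n
  rw [e₁, ExtendScalars.map_tmul, hx]
  clear hx
  induction x using TensorProduct.induction_on with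
  | zero =>
    simp only [map_zero]
    exact (congrArg C₂ (TensorProduct.tmul_zero _ _)).trans C₂.hom.map_zero
  | add x y hx hy =>
    simp only [map_add]
    rw [← hx, ← hy]
    exact (congrArg C₂ (TensorProduct.tmul_add _ _ _)).trans (C₂.hom.map_add _ _)
  | tmul s m =>
    rw [ψ_tmul, ψ_tmul]
    have e₂ : C₂ ((1 : T') ⊗ₜ[T, g.hom] (gen b m)) = gen (b ≫ g) m :=
      mapComp'_inv_one g.op b.op (b ≫ g).op rfl rfl (obj₀ D) m
    have e₃ : ((1 : T') ⊗ₜ[T, g.hom] (a.hom s • gen b m) : (extendScalars g.hom).obj (E (obj₀ D) b)) =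
        g.hom (a.hom s) • ((1 : T') ⊗ₜ[T, g.hom] (gen b m) : (extendScalars g.hom).obj (E (obj₀ D) b)) := by
      letI := Module.compHom T' g.hom
      show (1 : T') ⊗ₜ[T, g.hom] (a.hom s • gen b m) = (g.hom (a.hom s) • (1 : T')) ⊗ₜ[T, g.hom] (gen b m)
      rw [← TensorProduct.smul_tmul]
      rfl
    refine ((congrArg C₂ e₃).trans (map_smul C₂.hom _ _)).trans ?_
    exact congrArg _ e₂

/-- The cocycle of a descent datum. -/
noncomputable def cocycle : Cocycle R S (obj₀ D) where
  Φ _ a b h := glue D a b h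
  natural _ _ a b h g h' n x hx := glue_natural D a b h g h' n x hx
  self T a n := by
    rw [show glue D a a rfl = 𝟙 _ from D.hom_self _ _ rfl]
    rfl
  comp T a b d h h' n := by
    have := D.hom_comp (i₁ := PUnit.unit) (i₂ := PUnit.unit) (i₃ := PUnit.unit) (φ R S ≫ a).op a.op b.op d.op
      rfl (congrArg Quiver.Hom.op h).symm (congrArg Quiver.Hom.op (h.trans h')).symm
    have h2 : glue D b d h' = D.hom (φ R S ≫ a).op b.op d.op (congrArg Quiver.Hom.op h).symm
        (congrArg Quiver.Hom.op (h.trans h')).symm := by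
      have e : (φ R S ≫ b).op = (φ R S ≫ a).op := congrArg Quiver.Hom.op h.symm
      unfold glue
      congr 1
    rw [h2]
    exact congr(ConcreteCategory.hom (X := E (obj₀ D) a) (Y := E (obj₀ D) d) $this (gen a n))

end datum

/-- Descent data for modules are effective as soon as their comparison maps are bijective. -/
theorem isEffective_of_bijective {R S : Type u} [CommRing R] [CommRing S] (f : R →+* S)
    (D : Desc.ringModPF.{u}.DescentData (fun _ : PUnit.{u + 1} => (CommRingCat.ofHom f).op))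
    (hbij : letI := f.toAlgebra; Function.Bijective (cocycle (R := R) (S := S) D).e) :
    ∃ M : ModuleCat.{u} R, Nonempty ((Desc.ringModPF.{u}.toDescentData
      (fun _ : PUnit.{u + 1} => (CommRingCat.ofHom f).op)).obj M ≅ D) := by
  letI := f.toAlgebra
  let c := cocycle (R := R) (S := S) D
  let M : ModuleCat.{u} R := ModuleCat.of R c.inv
  refine ⟨M, ⟨?_⟩⟩
  let e : (extendScalars (algebraMap R S)).obj M ≅ obj₀ (R := R) (S := S) D :=
    (LinearEquiv.ofBijective c.e hbij).toModuleIso
  refine DescentData.isoMk (fun _ => e) fun Y q i₁ i₂ f₁ f₂ hf₁ hf₂ => ?_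
  obtain ⟨a, rfl⟩ : ∃ a, a.op = f₁ := ⟨f₁.unop, rfl⟩
  obtain ⟨b, rfl⟩ : ∃ b, b.op = f₂ := ⟨f₂.unop, rfl⟩
  subst hf₁
  have h : φ R S ≫ a = φ R S ≫ b := (congrArg Quiver.Hom.unop hf₂).symm
  let P₁ : (extendScalars (φ R S ≫ a).hom).obj M ⟶ (extendScalars b.hom).obj ((extendScalars (algebraMap R S)).obj M) :=
    (Desc.ringModPF.{u}.mapComp' (φ R S).op.op.toLoc b.op.op.toLoc (φ R S ≫ a).op.op.toLoc (by rw [h]; rfl)).hom.toNatTrans.app M
  let P₀ : (extendScalars a.hom).obj ((extendScalars (algebraMap R S)).obj M) ⟶ (extendScalars (φ R S ≫ a).hom).obj M :=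
    (Desc.ringModPF.{u}.mapComp' (φ R S).op.op.toLoc a.op.op.toLoc (φ R S ≫ a).op.op.toLoc rfl).inv.toNatTrans.app M
  show (extendScalars a.hom).map e.hom ≫ glue D a b h = (P₀ ≫ P₁) ≫ (extendScalars b.hom).map e.hom
  apply ExtendScalars.hom_ext
  intro z
  induction z using TensorProduct.induction_on with
  | zero =>
    rw [show ((1 : Y.unop) ⊗ₜ[CommRingCat.of S, a.hom] (0 : (extendScalars (algebraMap R S)).obj M) :
      (extendScalars a.hom).obj ((extendScalars (algebraMap R S)).obj M)) = 0 from TensorProduct.tmul_zero _ _,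
      map_zero, map_zero]
  | add x y hx hy =>
    rw [show ((1 : Y.unop) ⊗ₜ[CommRingCat.of S, a.hom] (x + y) :
      (extendScalars a.hom).obj ((extendScalars (algebraMap R S)).obj M)) = _ from TensorProduct.tmul_add _ x y,
      map_add, map_add, hx, hy]
  | tmul s m =>
    obtain ⟨s, rfl⟩ : ∃ s' : S, s' = s := ⟨s, rfl⟩
    let w : (extendScalars (algebraMap R S)).obj M := (1 : S) ⊗ₜ[R, algebraMap R S] m
    have es : (s ⊗ₜ[R, algebraMap R S] m : (extendScalars (algebraMap R S)).obj M) = s • w := by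
      show _ = (s • (1 : S)) ⊗ₜ[R, algebraMap R S] m
      rw [smul_eq_mul, mul_one]
    have ez : ((1 : Y.unop) ⊗ₜ[CommRingCat.of S, a.hom] (s • w) :
        (extendScalars a.hom).obj ((extendScalars (algebraMap R S)).obj M)) =
        a.hom s • ((1 : Y.unop) ⊗ₜ[CommRingCat.of S, a.hom] w) := by
      letI := Module.compHom Y.unop a.hom
      show _ = (a.hom s • (1 : Y.unop)) ⊗ₜ[CommRingCat.of S, a.hom] w
      rw [← TensorProduct.smul_tmul]
      rfl
    have eg : ((1 : Y.unop) ⊗ₜ[CommRingCat.of S, a.hom] (s ⊗ₜ[R, algebraMap R S] m :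
        (extendScalars (algebraMap R S)).obj M) :
        (extendScalars a.hom).obj ((extendScalars (algebraMap R S)).obj M)) =
        a.hom s • ((1 : Y.unop) ⊗ₜ[CommRingCat.of S, a.hom] w) := (congrArg _ es).trans ez
    refine (congrArg _ eg).trans ((map_smul _ _ _).trans
      (Eq.trans ?_ ((congrArg _ eg).trans (map_smul _ _ _)).symm))
    refine congrArg (a.hom s • ·) ?_
    simp only [ConcreteCategory.comp_apply]
    have e₀ : P₀ ((1 : Y.unop) ⊗ₜ[CommRingCat.of S, a.hom] w) = (1 : Y.unop) ⊗ₜ[R, (φ R S ≫ a).hom] m :=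
      mapComp'_inv_one a.op (φ R S).op (φ R S ≫ a).op rfl rfl M m
    have e₁ : P₁ ((1 : Y.unop) ⊗ₜ[R, (φ R S ≫ a).hom] m) = (1 : Y.unop) ⊗ₜ[CommRingCat.of S, b.hom] w :=
      mapComp'_hom_one b.op (φ R S).op (φ R S ≫ a).op hf₂ _ M m
    have e₂ : e.hom w = (m : obj₀ D) := one_smul S _
    have key := c.Φ_inv a b h 1 m
    rw [one_smul, map_one, one_smul] at key
    have l₁ : (extendScalars a.hom).map e.hom ((1 : Y.unop) ⊗ₜ[CommRingCat.of S, a.hom] w) =
        gen a (m : obj₀ D) :=
      (ExtendScalars.map_tmul a.hom e.hom (1 : Y.unop) w).trans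
        (congrArg (fun z : obj₀ D => gen a z) e₂)
    have r₁ : (extendScalars b.hom).map e.hom ((1 : Y.unop) ⊗ₜ[CommRingCat.of S, b.hom] w) =
        gen b (m : obj₀ D) :=
      (ExtendScalars.map_tmul b.hom e.hom (1 : Y.unop) w).trans
        (congrArg (fun z : obj₀ D => gen b z) e₂)
    exact (congrArg (glue D a b h) l₁).trans (key.trans
      ((congrArg ((extendScalars b.hom).map e.hom) ((congrArg P₁ e₀).trans e₁)).trans r₁).symm)

/-- Descent data for modules relative to a flat ring map are effective. -/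
theorem isEffective {R S : Type u} [CommRing R] [CommRing S] (f : R →+* S) (hf : f.Flat)
    (D : Desc.ringModPF.{u}.DescentData (fun _ : PUnit.{u + 1} => (CommRingCat.ofHom f).op)) :
    ∃ M : ModuleCat.{u} R, Nonempty ((Desc.ringModPF.{u}.toDescentData
      (fun _ : PUnit.{u + 1} => (CommRingCat.ofHom f).op)).obj M ≅ D) := by
  letI := f.toAlgebra
  haveI : Module.Flat R S := hf
  exact isEffective_of_bijective f D (cocycle (R := R) (S := S) D).e_bijective

end Groth.Agent.H13Desc.ModDesc
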