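import Groth.Agent.H13Desc.ModDesc
import Groth.Prelude.Def_Pi1
import Mathlib.Algebra.Module.CharacterModule
import Mathlib.LinearAlgebra.Isomorphisms

/-!
Descent of modules along universally injective ring maps.
-/

set_option backward.isDefEq.respectTransparency false
set_option backward.isDefEq.respectTransparency.types false
set_option linter.style.haveILetI false
set_option linter.unusedSectionVars false

universe u

open CategoryTheory Opposite ModuleCat Pseudofunctor
open scoped ChangeOfRings TensorProduct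

namespace Groth.Agent.H13Desc.ModDesc

variable {R S : Type u} [CommRing R] [CommRing S] [Algebra R S]

/-- A universally injective algebra admits a section of the dual of its structure map. -/
theorem exists_dual_section (h : Pi1.UnivInjective R S) :
    ∃ σ : CharacterModule R →ₗ[R] CharacterModule S,
      ∀ (χ : CharacterModule R) (r : R), σ χ (algebraMap R S r) = χ r := by
  obtain ⟨c, hc⟩ := CharacterModule.dual_surjective_of_injective _ (h (CharacterModule R))
    (CharacterModule.uncurry (LinearMap.id : CharacterModule R →ₗ[R] CharacterModule R))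
  refine ⟨CharacterModule.curry c, fun χ r => ?_⟩
  exact DFunLike.congr_fun hc (χ ⊗ₜ[R] r)

variable (σ : CharacterModule R →ₗ[R] CharacterModule S)

/-- The natural section of the duals of the units. -/
noncomputable def sec (N : Type u) [AddCommGroup N] [Module R N] :
    CharacterModule N →ₗ[R] CharacterModule (S ⊗[R] N) :=
  CharacterModule.dual (TensorProduct.comm R S N).toLinearMap ∘ₗ CharacterModule.uncurry ∘ₗ
    LinearMap.llcomp R N (CharacterModule R) (CharacterModule S) σ ∘ₗ
    CharacterModule.curry ∘ₗ CharacterModule.dual (TensorProduct.rid R N).toLinearMap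

/-- The character `r ↦ χ (r • n)`. -/
noncomputable def chr {N : Type u} [AddCommGroup N] [Module R N] (χ : CharacterModule N) (n : N) :
    CharacterModule R :=
  CharacterModule.curry (CharacterModule.dual (TensorProduct.rid R N).toLinearMap χ) n

theorem chr_apply {N : Type u} [AddCommGroup N] [Module R N] (χ : CharacterModule N) (n : N) (r : R) :
    chr χ n r = χ (r • n) := by
  show χ (TensorProduct.rid R N (n ⊗ₜ[R] r)) = _
  rw [TensorProduct.rid_tmul]

theorem sec_tmul {N : Type u} [AddCommGroup N] [Module R N] (χ : CharacterModule N) (s : S) (n : N) :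
    sec σ N χ (s ⊗ₜ[R] n) = σ (chr χ n) s := rfl

theorem sec_one_tmul (hσ : ∀ χ r, σ χ (algebraMap R S r) = χ r) {N : Type u} [AddCommGroup N] [Module R N]
    (χ : CharacterModule N) (n : N) : sec σ N χ ((1 : S) ⊗ₜ[R] n) = χ n := by
  rw [sec_tmul, ← map_one (algebraMap R S), hσ, chr_apply, one_smul]

theorem sec_natural {N N' : Type u} [AddCommGroup N] [Module R N] [AddCommGroup N'] [Module R N']
    (f : N →ₗ[R] N') (χ : CharacterModule N') (z : S ⊗[R] N) :
    sec σ N' χ (f.lTensor S z) = sec σ N (CharacterModule.dual f χ) z := by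
  induction z using TensorProduct.induction_on with
  | zero => simp
  | add x y hx hy => rw [map_add, map_add, map_add, hx, hy]
  | tmul s n =>
    rw [LinearMap.lTensor_tmul, sec_tmul, sec_tmul]
    congr 2
    ext r
    rw [chr_apply, chr_apply]
    show _ = χ (f (r • n))
    rw [f.map_smul]

/-- A subgroup is detected by the characters vanishing on it. -/
theorem mem_range_of_characters {A B : Type u} [AddCommGroup A] [Module R A] [AddCommGroup B] [Module R B]
    (g : A →ₗ[R] B) (x : B) (h : ∀ χ : CharacterModule B, CharacterModule.dual g χ = 0 → χ x = 0) :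
    x ∈ LinearMap.range g := by
  rw [← Submodule.Quotient.mk_eq_zero]
  refine CharacterModule.eq_zero_of_character_apply fun c => ?_
  exact h (CharacterModule.dual (LinearMap.range g).mkQ c) (by
    rw [← LinearMap.comp_apply, ← CharacterModule.dual_comp, LinearMap.range_mkQ_comp,
      CharacterModule.dual_zero, LinearMap.zero_apply])

/-- A character killing a kernel factors through the map. -/
theorem exists_factor {A B : Type u} [AddCommGroup A] [Module R A] [AddCommGroup B] [Module R B]
    (g : A →ₗ[R] B) (χ : CharacterModule A)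
    (h : CharacterModule.dual (LinearMap.ker g).subtype χ = 0) :
    ∃ lam : CharacterModule B, CharacterModule.dual g lam = χ := by
  let q : CharacterModule (A ⧸ LinearMap.ker g) :=
    QuotientAddGroup.lift (LinearMap.ker g).toAddSubgroup χ fun a ha => by
      exact DFunLike.congr_fun h ⟨a, ha⟩
  obtain ⟨lam, hlam⟩ := CharacterModule.dual_surjective_of_injective ((LinearMap.ker g).liftQ g le_rfl)
    (LinearMap.ker_eq_bot.mp (Submodule.ker_liftQ_eq_bot _ g _ le_rfl)) q
  refine ⟨lam, DFunLike.ext _ _ fun a => ?_⟩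
  exact DFunLike.congr_fun hlam (Submodule.Quotient.mk a)

variable {N : Type u} [AddCommGroup N] [Module S N] [Module R N] [IsScalarTower R S N] (c : Cocycle R S N)

/-- The idempotent on characters. -/
noncomputable def proj : CharacterModule N →ₗ[R] CharacterModule N :=
  CharacterModule.dual (c.ρₗ.restrictScalars R) ∘ₗ sec σ N

theorem proj_sub (hσ : ∀ χ r, σ χ (algebraMap R S r) = χ r) (χ : CharacterModule N) :
    χ = proj σ c χ - CharacterModule.dual c.δ (sec σ N χ) := by
  ext n
  show χ n = sec σ N χ (c.ρ n) - sec σ N χ (c.ρ n - (1 : S) ⊗ₜ[R] n)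
  rw [map_sub, sec_one_tmul σ hσ, sub_sub_cancel]

theorem proj_eq_zero {χ : CharacterModule N} (h : CharacterModule.dual c.inv.subtype χ = 0) :
    proj σ c χ = 0 := by
  obtain ⟨lam, rfl⟩ := exists_factor c.δ χ h
  ext n
  show sec σ N (CharacterModule.dual c.δ lam) (c.ρ n) = 0
  rw [← sec_natural, c.coassoc, map_zero]

/-- Effectivity along universally injective maps. -/
theorem Cocycle.e_bijective_of_univInjective (h : Pi1.UnivInjective R S) : Function.Bijective c.e := by
  obtain ⟨σ, hσ⟩ := exists_dual_section h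
  have hinj : Function.Injective (c.inv.subtype.lTensor S) := by
    rw [← CharacterModule.dual_surjective_iff_injective]
    intro Ψ₀
    have hs : Function.Surjective (CharacterModule.dual c.inv.subtype) :=
      CharacterModule.dual_surjective_of_injective _ c.inv.subtype_injective
    let τ : CharacterModule c.inv →ₗ[R] CharacterModule N :=
      (LinearMap.ker (CharacterModule.dual c.inv.subtype)).liftQ (proj σ c)
          (fun χ hχ => proj_eq_zero σ c hχ) ∘ₗ
        (LinearMap.quotKerEquivOfSurjective _ hs).symm.toLinearMap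
    have hτ : ∀ y, CharacterModule.dual c.inv.subtype (τ y) = y := by
      intro y
      obtain ⟨χ, rfl⟩ := hs y
      have e : (LinearMap.quotKerEquivOfSurjective _ hs).symm (CharacterModule.dual c.inv.subtype χ) =
          Submodule.Quotient.mk χ := by
        rw [LinearEquiv.symm_apply_eq]
        rfl
      show CharacterModule.dual c.inv.subtype ((LinearMap.ker (CharacterModule.dual c.inv.subtype)).liftQ
        (proj σ c) (fun χ hχ => proj_eq_zero σ c hχ) _) = _
      rw [LinearEquiv.coe_coe, e, Submodule.liftQ_apply]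
      conv_rhs => rw [proj_sub σ c hσ χ, map_sub]
      have : CharacterModule.dual c.inv.subtype (CharacterModule.dual c.δ (sec σ N χ)) = 0 := by
        ext m
        show sec σ N χ (c.δ m.1) = 0
        rw [show c.δ m.1 = 0 from m.2, map_zero]
      rw [this, sub_zero]
    refine ⟨CharacterModule.uncurry (τ ∘ₗ CharacterModule.curry Ψ₀), DFunLike.ext _ _ fun z => ?_⟩
    induction z using TensorProduct.induction_on with
    | zero => simp only [map_zero]
    | add x y hx hy => simp only [map_add] at hx hy ⊢; rw [hx, hy]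
    | tmul s m => exact DFunLike.congr_fun (hτ (CharacterModule.curry Ψ₀ s)) m
  refine ⟨fun x y hxy => hinj ?_, fun n => ?_⟩
  · rw [← c.ρ_e, hxy, c.ρ_e]
  · obtain ⟨z, hz⟩ : c.ρ n ∈ LinearMap.range (c.inv.subtype.lTensor S) := by
      refine mem_range_of_characters _ _ fun Ψ hΨ => ?_
      let ψ := CharacterModule.curry Ψ
      have hψ : ∀ s, CharacterModule.dual c.inv.subtype (ψ s) = 0 := fun s =>
        DFunLike.ext _ _ fun m => DFunLike.congr_fun hΨ (s ⊗ₜ[R] m)
      let Λ : CharacterModule (S ⊗[R] (S ⊗[R] N)) := CharacterModule.uncurry (sec σ N ∘ₗ ψ)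
      have key : ∀ z, Ψ z = - Λ (c.δ.lTensor S z) := by
        intro z
        induction z using TensorProduct.induction_on with
        | zero => simp
        | add x y hx hy => simp only [map_add, hx, hy]; abel
        | tmul s m =>
          have := DFunLike.congr_fun (proj_sub σ c hσ (ψ s)) m
          rw [proj_eq_zero σ c (hψ s), zero_sub] at this
          exact this
      rw [key, c.coassoc, map_zero, neg_zero]
    exact ⟨z, by rw [c.e_eq_μ, hz, c.μ_ρ]⟩

/-- Exactness of the canonical sequence. -/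
theorem mem_range_unit (h : Pi1.UnivInjective R S) {M : Type u} [AddCommGroup M] [Module R M] (x : S ⊗[R] M)
    (hx : (TensorProduct.mk R S M 1).lTensor S x = (1 : S) ⊗ₜ[R] x) :
    x ∈ LinearMap.range (TensorProduct.mk R S M 1) := by
  obtain ⟨σ, hσ⟩ := exists_dual_section h
  refine mem_range_of_characters _ _ fun χ hχ => ?_
  rw [← sec_one_tmul σ hσ χ x, ← hx, sec_natural, hχ, map_zero]
  rfl

theorem unit_injective (h : Pi1.UnivInjective R S) (M : Type u) [AddCommGroup M] [Module R M] :
    Function.Injective (TensorProduct.mk R S M 1) := by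
  intro x y hxy
  apply (TensorProduct.rid R M).symm.injective
  apply h M
  apply (TensorProduct.comm R M S).injective
  simpa using hxy

theorem ofObj_hom_gen {T : CommRingCat.{u}} (M : ModuleCat.{u} R) (a b : CommRingCat.of S ⟶ T)
    (h : φ R S ≫ a = φ R S ≫ b) (m : M) :
    glue ((Desc.ringModPF.{u}.toDescentData (fun _ : PUnit.{u + 1} => (φ R S).op)).obj M) a b h
        (gen a ((1 : S) ⊗ₜ[R, algebraMap R S] m : (extendScalars (algebraMap R S)).obj M)) =
      gen b ((1 : S) ⊗ₜ[R, algebraMap R S] m : (extendScalars (algebraMap R S)).obj M) := by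
  let P₁ : (extendScalars (φ R S ≫ a).hom).obj M ⟶ (extendScalars b.hom).obj ((extendScalars (algebraMap R S)).obj M) :=
    (Desc.ringModPF.{u}.mapComp' (φ R S).op.op.toLoc b.op.op.toLoc (φ R S ≫ a).op.op.toLoc (by rw [h]; rfl)).hom.toNatTrans.app M
  let P₀ : (extendScalars a.hom).obj ((extendScalars (algebraMap R S)).obj M) ⟶ (extendScalars (φ R S ≫ a).hom).obj M :=
    (Desc.ringModPF.{u}.mapComp' (φ R S).op.op.toLoc a.op.op.toLoc (φ R S ≫ a).op.op.toLoc rfl).inv.toNatTrans.app M
  let w : (extendScalars (algebraMap R S)).obj M := (1 : S) ⊗ₜ[R, algebraMap R S] m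
  have e₀ : P₀ ((1 : T) ⊗ₜ[CommRingCat.of S, a.hom] w) = (1 : T) ⊗ₜ[R, (φ R S ≫ a).hom] m :=
    mapComp'_inv_one a.op (φ R S).op (φ R S ≫ a).op rfl rfl M m
  have e₁ : P₁ ((1 : T) ⊗ₜ[R, (φ R S ≫ a).hom] m) = (1 : T) ⊗ₜ[CommRingCat.of S, b.hom] w :=
    mapComp'_hom_one b.op (φ R S).op (φ R S ≫ a).op (congrArg Quiver.Hom.op h).symm _ M m
  exact (congrArg P₁ e₀).trans e₁


/-- Values of the gluing of a canonical datum. -/
theorem κ_glue_ofObj {R S : Type u} [CommRing R] [CommRing S] (f : R →+* S) (M : ModuleCat.{u} R) :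
    letI := f.toAlgebra
    ∀ (Φ : E ((extendScalars (algebraMap R S)).obj M) (i₁ R S) ⟶
        E ((extendScalars (algebraMap R S)).obj M) (i₂ R S)),
      (∀ m : M, Φ (gen (i₁ R S) ((1 : S) ⊗ₜ[R, algebraMap R S] m : (extendScalars (algebraMap R S)).obj M)) =
        gen (i₂ R S) ((1 : S) ⊗ₜ[R, algebraMap R S] m : (extendScalars (algebraMap R S)).obj M)) →
      ∀ y : S ⊗[R] M, κ (R := R) (S := S) (N := S ⊗[R] M)
        (Φ (gen (i₁ R S) (show (extendScalars (algebraMap R S)).obj M from y))) =
          (TensorProduct.mk R S M 1).lTensor S y := by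
  letI := f.toAlgebra
  intro Φ₀ hΦ y
  let Φ : E (S ⊗[R] M) (i₁ R S) ⟶ E (S ⊗[R] M) (i₂ R S) := Φ₀
  show κ (Φ (gen (i₁ R S) y)) = _
  induction y using TensorProduct.induction_on with
  | zero => simp only [map_zero]
  | add x y hx hy => simp only [map_add, hx, hy]
  | tmul s m =>
    have e : (s ⊗ₜ[R] (m : M) : S ⊗[R] M) = s • ((1 : S) ⊗ₜ[R] (m : M) : S ⊗[R] M) := by
      rw [TensorProduct.smul_tmul', smul_eq_mul, mul_one]
    have e0 : Φ (gen (i₁ R S) ((1 : S) ⊗ₜ[R] (m : M))) = gen (i₂ R S) ((1 : S) ⊗ₜ[R] (m : M)) := hΦ m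
    rw [e, gen_smul, map_smul, e0, ← ψ_tmul (i₁ R S) (i₂ R S) i_compat, κ_ψ, ← e,
      LinearMap.lTensor_tmul]
    rfl

theorem κ_gen {R S : Type u} [CommRing R] [CommRing S] [Algebra R S] {N : Type u} [AddCommGroup N] [Module S N]
    [Module R N] [IsScalarTower R S N] (y : N) : κ (R := R) (gen (i₂ R S) y) = (1 : S) ⊗ₜ[R] y := by
  have h := κ_ψ (R := R) (S := S) ((1 : S) ⊗ₜ[R] y)
  rwa [ψ_tmul, map_one, one_smul] at h

/-- Equalizer property of a morphism compatible with the canonical gluings. -/
theorem exists_unit_preimage {R S : Type u} [CommRing R] [CommRing S] (f : R →+* S)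
    (h : letI := f.toAlgebra; Pi1.UnivInjective R S) (M M' : ModuleCat.{u} R) :
    letI := f.toAlgebra
    ∀ (Φ : E ((extendScalars (algebraMap R S)).obj M) (i₁ R S) ⟶
        E ((extendScalars (algebraMap R S)).obj M) (i₂ R S))
      (Φ' : E ((extendScalars (algebraMap R S)).obj M') (i₁ R S) ⟶
        E ((extendScalars (algebraMap R S)).obj M') (i₂ R S))
      (_ : ∀ m : M, Φ (gen (i₁ R S) ((1 : S) ⊗ₜ[R, algebraMap R S] m : (extendScalars (algebraMap R S)).obj M)) =
        gen (i₂ R S) ((1 : S) ⊗ₜ[R, algebraMap R S] m : (extendScalars (algebraMap R S)).obj M))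
      (_ : ∀ m : M', Φ' (gen (i₁ R S) ((1 : S) ⊗ₜ[R, algebraMap R S] m : (extendScalars (algebraMap R S)).obj M')) =
        gen (i₂ R S) ((1 : S) ⊗ₜ[R, algebraMap R S] m : (extendScalars (algebraMap R S)).obj M'))
      (K : (extendScalars (algebraMap R S)).obj M ⟶ (extendScalars (algebraMap R S)).obj M')
      (_ : (extendScalars (i₁ R S).hom).map K ≫ Φ' = Φ ≫ (extendScalars (i₂ R S).hom).map K) (m : M),
      ∃ m' : M', (TensorProduct.mk R S M' 1) m' = K ((1 : S) ⊗ₜ[R, algebraMap R S] m) := by
  letI := f.toAlgebra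
  intro Φ Φ' hΦ hΦ' K hK m
  refine mem_range_unit h _ ?_
  refine (κ_glue_ofObj f M' Φ' hΦ' _).symm.trans
    ((congrArg (κ (R := R) (S := S) (N := S ⊗[R] M')) ?_).trans (κ_gen _))
  have hc : Φ' ((extendScalars (i₁ R S).hom).map K
      (gen (i₁ R S) ((1 : S) ⊗ₜ[R, algebraMap R S] m : (extendScalars (algebraMap R S)).obj M))) =
      (extendScalars (i₂ R S).hom).map K (Φ
        (gen (i₁ R S) ((1 : S) ⊗ₜ[R, algebraMap R S] m : (extendScalars (algebraMap R S)).obj M))) :=
    congr(ConcreteCategory.hom $hK (gen (i₁ R S)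
      ((1 : S) ⊗ₜ[R, algebraMap R S] m : (extendScalars (algebraMap R S)).obj M)))
  have l₁ : (extendScalars (i₁ R S).hom).map K
      (gen (i₁ R S) ((1 : S) ⊗ₜ[R, algebraMap R S] m : (extendScalars (algebraMap R S)).obj M)) =
      gen (i₁ R S) (K ((1 : S) ⊗ₜ[R, algebraMap R S] m)) := ExtendScalars.map_tmul (i₁ R S).hom K 1 _
  have r₁ : (extendScalars (i₂ R S).hom).map K
      (gen (i₂ R S) ((1 : S) ⊗ₜ[R, algebraMap R S] m : (extendScalars (algebraMap R S)).obj M)) =
      gen (i₂ R S) (K ((1 : S) ⊗ₜ[R, algebraMap R S] m)) := ExtendScalars.map_tmul (i₂ R S).hom K 1 _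
  exact (congrArg Φ' l₁).symm.trans (hc.trans
    ((congrArg ((extendScalars (i₂ R S).hom).map K) (hΦ m)).trans r₁))

/-- Variant with the objects of the canonical data. -/
theorem exists_unit_preimage' {R S : Type u} [CommRing R] [CommRing S] (f : R →+* S)
    (h : letI := f.toAlgebra; Pi1.UnivInjective R S) (M M' : ModuleCat.{u} R) :
    letI := f.toAlgebra
    ∀ (Φ : E (obj₀ ((Desc.ringModPF.{u}.toDescentData (fun _ : PUnit.{u + 1} => (φ R S).op)).obj M)) (i₁ R S) ⟶
        E (obj₀ ((Desc.ringModPF.{u}.toDescentData (fun _ : PUnit.{u + 1} => (φ R S).op)).obj M)) (i₂ R S))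
      (Φ' : E (obj₀ ((Desc.ringModPF.{u}.toDescentData (fun _ : PUnit.{u + 1} => (φ R S).op)).obj M')) (i₁ R S) ⟶
        E (obj₀ ((Desc.ringModPF.{u}.toDescentData (fun _ : PUnit.{u + 1} => (φ R S).op)).obj M')) (i₂ R S))
      (_ : ∀ m : M, Φ (gen (N := obj₀ ((Desc.ringModPF.{u}.toDescentData (fun _ : PUnit.{u + 1} => (φ R S).op)).obj M)) (i₁ R S) ((1 : S) ⊗ₜ[R, algebraMap R S] m : (extendScalars (algebraMap R S)).obj M)) =
        gen (N := obj₀ ((Desc.ringModPF.{u}.toDescentData (fun _ : PUnit.{u + 1} => (φ R S).op)).obj M)) (i₂ R S) ((1 : S) ⊗ₜ[R, algebraMap R S] m : (extendScalars (algebraMap R S)).obj M))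
      (_ : ∀ m : M', Φ' (gen (N := obj₀ ((Desc.ringModPF.{u}.toDescentData (fun _ : PUnit.{u + 1} => (φ R S).op)).obj M')) (i₁ R S) ((1 : S) ⊗ₜ[R, algebraMap R S] m : (extendScalars (algebraMap R S)).obj M')) =
        gen (N := obj₀ ((Desc.ringModPF.{u}.toDescentData (fun _ : PUnit.{u + 1} => (φ R S).op)).obj M')) (i₂ R S) ((1 : S) ⊗ₜ[R, algebraMap R S] m : (extendScalars (algebraMap R S)).obj M'))
      (K : (extendScalars (algebraMap R S)).obj M ⟶ (extendScalars (algebraMap R S)).obj M')
      (_ : (extendScalars (i₁ R S).hom).map K ≫ Φ' = Φ ≫ (extendScalars (i₂ R S).hom).map K) (m : M),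
      ∃ m' : M', (TensorProduct.mk R S M' 1) m' = K ((1 : S) ⊗ₜ[R, algebraMap R S] m) := by
  letI := f.toAlgebra
  intro Φ Φ' hΦ hΦ' K hK m
  exact exists_unit_preimage f h M M' Φ Φ' hΦ hΦ' K hK m

/-- Morphisms of descent data commute with the gluings. -/
theorem map_comp_glue {R S : Type u} [CommRing R] [CommRing S] [Algebra R S]
    {D D' : Desc.ringModPF.{u}.DescentData (fun _ : PUnit.{u + 1} => (φ R S).op)} (k : D ⟶ D')
    {T : CommRingCat.{u}} (a b : CommRingCat.of S ⟶ T) (h : φ R S ≫ a = φ R S ≫ b) :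
    (extendScalars a.hom).map (k.hom PUnit.unit) ≫ glue D' a b h =
      glue D a b h ≫ (extendScalars b.hom).map (k.hom PUnit.unit) :=
  k.comm (i₁ := PUnit.unit) (i₂ := PUnit.unit) (φ R S ≫ a).op a.op b.op rfl (congrArg Quiver.Hom.op h).symm

/-- Every morphism of canonical descent data descends. -/
theorem exists_preimage {R S : Type u} [CommRing R] [CommRing S] (f : R →+* S)
    (h : letI := f.toAlgebra; Pi1.UnivInjective R S) (M M' : ModuleCat.{u} R)
    (k : (Desc.ringModPF.{u}.toDescentData (fun _ : PUnit.{u + 1} => (CommRingCat.ofHom f).op)).obj M ⟶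
      (Desc.ringModPF.{u}.toDescentData (fun _ : PUnit.{u + 1} => (CommRingCat.ofHom f).op)).obj M') :
    ∃ g : M ⟶ M', (Desc.ringModPF.{u}.toDescentData
      (fun _ : PUnit.{u + 1} => (CommRingCat.ofHom f).op)).map g = k := by
  letI := f.toAlgebra
  let F := Desc.ringModPF.{u}.toDescentData (fun _ : PUnit.{u + 1} => (φ R S).op)
  let K : (extendScalars (algebraMap R S)).obj M ⟶ (extendScalars (algebraMap R S)).obj M' := k.hom PUnit.unit
  have hy : ∀ m : M, ∃ m' : M', (TensorProduct.mk R S M' 1) m' = K ((1 : S) ⊗ₜ[R, algebraMap R S] m) :=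
    exists_unit_preimage' f h M M' (glue (F.obj M) (i₁ R S) (i₂ R S) i_compat)
      (glue (F.obj M') (i₁ R S) (i₂ R S) i_compat)
      (fun m => ofObj_hom_gen M (i₁ R S) (i₂ R S) i_compat m)
      (fun m => ofObj_hom_gen M' (i₁ R S) (i₂ R S) i_compat m) K
      (map_comp_glue (D := F.obj M) (D' := F.obj M') k (i₁ R S) (i₂ R S) i_compat)
  choose g hg using hy
  let G : M →ₗ[R] M' :=
    { toFun := g
      map_add' := fun m n => by
        apply unit_injective h M'
        rw [map_add, hg, hg, hg]
        exact (congrArg K (TensorProduct.tmul_add _ m n)).trans (map_add K.hom _ _)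
      map_smul' := fun r m => by
        apply unit_injective h M'
        rw [RingHom.id_apply, map_smul, hg, hg]
        have e : ((1 : S) ⊗ₜ[R] (r • m) : S ⊗[R] M) = algebraMap R S r • ((1 : S) ⊗ₜ[R] m : S ⊗[R] M) := by
          rw [algebraMap_smul, TensorProduct.tmul_smul]
        exact ((congrArg K e).trans (map_smul K.hom _ _)).trans
          (algebraMap_smul S r (show S ⊗[R] M' from K ((1 : S) ⊗ₜ[R, algebraMap R S] m))) }
  refine ⟨ModuleCat.ofHom G, ?_⟩
  have e : (extendScalars (algebraMap R S)).map (ModuleCat.ofHom G) = K := by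
    apply ExtendScalars.hom_ext
    intro m
    exact (ExtendScalars.map_tmul (algebraMap R S) (ModuleCat.ofHom G) 1 m).trans (hg m)
  exact DescentData.hom_ext fun _ => e

/-- Full faithfulness and effectivity of descent along universally injective ring maps. -/
theorem isEquivalence_toDescentData {R S : Type u} [CommRing R] [CommRing S] (f : R →+* S)
    (h : letI := f.toAlgebra; Pi1.UnivInjective R S) :
    (Desc.ringModPF.{u}.toDescentData (fun _ : PUnit.{u + 1} => (CommRingCat.ofHom f).op)).IsEquivalence := by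
  letI := f.toAlgebra
  let F := Desc.ringModPF.{u}.toDescentData (fun _ : PUnit.{u + 1} => (φ R S).op)
  have h3 : F.EssSurj := ⟨fun D => by
    obtain ⟨M, hM⟩ := isEffective_of_bijective f D ((cocycle (R := R) (S := S) D).e_bijective_of_univInjective h)
    exact ⟨M, hM⟩⟩
  have unit : ∀ (M : ModuleCat.{u} R) (m : M),
      ((1 : S) ⊗ₜ[R, algebraMap R S] m : (extendScalars (algebraMap R S)).obj M) =
        ((1 : S) ⊗ₜ[R] m : S ⊗[R] M) := fun M m => rfl
  have hfaith : ∀ {M M' : ModuleCat.{u} R} (g g' : M ⟶ M'), F.map g = F.map g' → g = g' := by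
    intro M M' g g' hg
    ext m
    apply unit_injective h M'
    have := congr(ConcreteCategory.hom (X := (extendScalars (algebraMap R S)).obj M)
      (Y := (extendScalars (algebraMap R S)).obj M') (DescentData.Hom.hom $hg PUnit.unit)
      ((1 : S) ⊗ₜ[R, algebraMap R S] m))
    exact (ExtendScalars.map_tmul (algebraMap R S) g 1 m).symm.trans
      (this.trans (ExtendScalars.map_tmul (algebraMap R S) g' 1 m))
  have h2 : F.Faithful := ⟨fun {M M' g g'} hg => hfaith g g' hg⟩
  have h1 : F.Full := ⟨fun {M M'} k => exists_preimage f h M M' k⟩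
  exact { }

theorem univInjective_of_faithful {R S : Type u} [CommRing R] [CommRing S] (f : R →+* S)
    (hF : (Desc.ringModPF.{u}.toDescentData (fun _ : PUnit.{u + 1} => (CommRingCat.ofHom f).op)).Faithful) :
    letI := f.toAlgebra; Pi1.UnivInjective R S := by
  letI := f.toAlgebra
  intro P _ _
  rw [injective_iff_map_eq_zero]
  intro z hz
  obtain ⟨x, rfl⟩ := (TensorProduct.rid R P).symm.surjective z
  rw [TensorProduct.rid_symm_apply, LinearMap.lTensor_tmul] at hz
  have h0 : ((1 : S) ⊗ₜ[R] x : S ⊗[R] P) = 0 := by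
    have := congrArg (TensorProduct.comm R P S) hz
    simpa using this
  let g : ModuleCat.of R R ⟶ ModuleCat.of R P := ModuleCat.ofHom (LinearMap.toSpanSingleton R P x)
  have : g = 0 := hF.map_injective (by
    ext i : 1
    apply ExtendScalars.hom_ext
    intro r
    refine (ExtendScalars.map_tmul (algebraMap R S) g 1 r).trans ?_
    refine Eq.trans ?_ (ExtendScalars.map_tmul (algebraMap R S) (0 : ModuleCat.of R R ⟶ ModuleCat.of R P) 1 r).symm
    show ((1 : S) ⊗ₜ[R] (LinearMap.toSpanSingleton R P x r) : S ⊗[R] P) = (1 : S) ⊗ₜ[R] (0 : P)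
    rw [LinearMap.toSpanSingleton_apply, TensorProduct.tmul_smul, h0, smul_zero, TensorProduct.tmul_zero])
  have hx : x = 0 := by
    have := congr(($this).hom (1 : R))
    simpa [g] using this
  rw [hx, TensorProduct.rid_symm_apply, TensorProduct.zero_tmul]

end Groth.Agent.H13Desc.ModDesc
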