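import Groth.Agent.H7Lim.DescendUnramified
import Groth.Prelude.Def_SGA3x
import Mathlib.AlgebraicGeometry.Morphisms.Flat
import Mathlib.AlgebraicGeometry.Morphisms.UniversallyOpen
import Mathlib.AlgebraicGeometry.Fiber

/-!
The multiplication of a flat group scheme restricted to a flat, fibrewise dominant `V ⟶ G`
is flat, locally of finite presentation and surjective.
-/

set_option autoImplicit false
set_option backward.isDefEq.respectTransparency false

universe u

open CategoryTheory CategoryTheory.Limits MonoidalCategory CartesianMonoidalCategory MonObj GrpObj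
  AlgebraicGeometry

namespace Groth.Agent.H13Desc.ProdCover

variable {S : Scheme.{u}}

/-- `mu` is a shear followed by the second projection. -/
theorem mul_prop (P : MorphismProperty Scheme.{u}) [P.IsStableUnderBaseChange]
    (G : Over S) [GrpObj G] (h : P G.hom) : P (μ[G]).left := by
  let a : G ⊗ G ⟶ G ⊗ G := lift (fst G G) (fst G G * snd G G)
  let b : G ⊗ G ⟶ G ⊗ G := lift (fst G G) ((fst G G)⁻¹ * snd G G)
  have hab : a ≫ b = 𝟙 _ := by
    apply CartesianMonoidalCategory.hom_ext <;> simp [a, b, MonObj.comp_mul, GrpObj.comp_inv]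
  have hba : b ≫ a = 𝟙 _ := by
    apply CartesianMonoidalCategory.hom_ext <;> simp [a, b, MonObj.comp_mul, GrpObj.comp_inv]
  have : IsIso a := ⟨b, hab, hba⟩
  have : IsIso a.left := (Over.forget S).map_isIso a
  have e : μ[G] = a ≫ snd G G := by simp [a, MonObj.mul_eq_mul]
  rw [e, Over.comp_left, P.cancel_left_of_respectsIso, Over.snd_left]
  exact MorphismProperty.pullback_snd _ _ h

/-- Maximal points of a fibre generalise every point of it. -/
theorem exists_maximal {Y : Scheme.{u}} (g : Y ⟶ S) (s : S) (y : ↥(g.base ⁻¹' {s})) :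
    ∃ mη : ↥(g.base ⁻¹' {s}), closure {mη} ∈ irreducibleComponents ↥(g.base ⁻¹' {s}) ∧ mη ⤳ y := by
  have : QuasiSober ↥(g.base ⁻¹' {s}) :=
    (g.fiberHomeo s).symm.isOpenEmbedding.quasiSober
  have hC : IsIrreducible (irreducibleComponent y) := isIrreducible_irreducibleComponent
  refine ⟨hC.genericPoint, ?_, ?_⟩
  · rw [hC.closure_genericPoint isClosed_irreducibleComponent]
    exact irreducibleComponent_mem_irreducibleComponents y
  · exact (hC.isGenericPoint_genericPoint isClosed_irreducibleComponent).specializes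
      mem_irreducibleComponent

/-- In the base change of `G` to a field point over `s`, every nonempty open set contains a point
over a maximal point of the fibre at `s`. -/
theorem exists_mem_map_maximal (G : Over S) (X : Scheme.{u}) (x : X) (s : S)
    (i : S.residueField s ⟶ X.residueField x)
    (W : Set ↥((Over.mk (Spec.map i ≫ S.fromSpecResidueField s) ⊗ G).left)) (hW : IsOpen W)
    (hne : W.Nonempty) :
    ∃ z ∈ W, ∃ mη : ↥(G.hom.base ⁻¹' {s}),
      closure {mη} ∈ irreducibleComponents ↥(G.hom.base ⁻¹' {s}) ∧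
      (snd (Over.mk (Spec.map i ≫ S.fromSpecResidueField s)) G).left z = mη.1 := by
  let q : pullback (Spec.map i ≫ S.fromSpecResidueField s) G.hom ⟶ G.hom.fiber s :=
    pullback.lift (pullback.snd _ _) (pullback.fst _ _ ≫ Spec.map i)
      (by rw [Category.assoc, pullback.condition])
  have hq : IsPullback (pullback.fst _ _) q (Spec.map i) (G.hom.fiberToSpecResidueField s) := by
    refine IsPullback.flip (IsPullback.of_right (h₁₂ := G.hom.fiberι s)
      (h₂₂ := S.fromSpecResidueField s) ?_ ?_ (IsPullback.of_hasPullback G.hom (S.fromSpecResidueField s)))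
    · simpa [q, Scheme.Hom.fiberι] using!
        (IsPullback.of_hasPullback (Spec.map i ≫ S.fromSpecResidueField s) G.hom).flip
    · simp [q, Scheme.Hom.fiberToSpecResidueField]
  have : Flat (Spec.map i) := by
    rw [HasRingHomProperty.Spec_iff (P := @Flat)]
    let := i.hom.toAlgebra
    exact (inferInstance : Module.Flat (S.residueField s) (X.residueField x))
  have : Flat q := MorphismProperty.of_isPullback hq inferInstance
  obtain ⟨z, hz⟩ := hne
  have hyeq : q ≫ G.hom.fiberι s = pullback.snd _ _ := by simp [q, Scheme.Hom.fiberι]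
  let y := G.hom.fiberHomeo s (q z)
  obtain ⟨mη, hmη, hs⟩ := exists_maximal G.hom s y
  obtain ⟨z', hz', hqz'⟩ := (Flat.generalizingMap q)
    (a := z) (b := (G.hom.fiberHomeo s).symm mη)
    (by
      have := hs.map (G.hom.fiberHomeo s).symm.continuous
      simpa [y] using this)
  refine ⟨z', hz'.mem_open hW hz, mη, hmη, ?_⟩
  change pullback.snd _ G.hom z' = _
  rw [← hyeq, Scheme.Hom.comp_apply, hqz', Scheme.Hom.fiberι_fiberHomeo_symm]

variable {G : Over S} [GrpObj G]

theorem surjective_mul (V : Over S) (v : V ⟶ G) (hopen : IsOpen (Set.range v.left))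
    (hv : ∀ (s : S) (mη : ↥(G.hom.base ⁻¹' {s})),
      closure {mη} ∈ irreducibleComponents ↥(G.hom.base ⁻¹' {s}) → mη.1 ∈ Set.range v.left) :
    Surjective ((v ⊗ₘ v) ≫ μ[G]).left := by
  constructor
  intro g
  let T : Over S := Over.mk (Spec.map (G.hom.residueFieldMap g) ≫ S.fromSpecResidueField (G.hom g))
  let γ : T ⟶ G := Over.homMk (G.left.fromSpecResidueField g)
    (G.hom.SpecMap_residueFieldMap_fromSpecResidueField g).symm
  let γ' : T ⊗ G ⟶ G := fst T G ≫ γ
  let θ : T ⊗ G ⟶ G := (snd T G)⁻¹ * γ'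
  let σ : T ⊗ G ⟶ T ⊗ G := lift (fst T G) θ
  let σ' : T ⊗ G ⟶ T ⊗ G := lift (fst T G) (γ' * (snd T G)⁻¹)
  have h₂ : σ' ≫ σ = 𝟙 _ := by
    apply CartesianMonoidalCategory.hom_ext
    · simp [σ, σ']
    · simp [σ, σ', θ, γ', MonObj.comp_mul, GrpObj.comp_inv, _root_.mul_assoc]
  have main : ∀ W : Set ↥((T ⊗ G).left), IsOpen W → W.Nonempty →
      ∃ z ∈ W, (snd T G).left z ∈ Set.range v.left := by
    intro W hW hne
    obtain ⟨z, hz, mη, hmη, e⟩ := exists_mem_map_maximal G G.left g (G.hom g)
      (G.hom.residueFieldMap g) W hW hne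
    exact ⟨z, hz, e ▸ hv _ mη hmη⟩
  have hne : Nonempty ↥((T ⊗ G).left) :=
    ⟨(lift (𝟙 T) (toUnit T ≫ η[G])).left (IsLocalRing.closedPoint (G.left.residueField g))⟩
  obtain ⟨z₀, -, hz₀⟩ := main Set.univ isOpen_univ Set.univ_nonempty
  have hσ : (σ.left) (σ'.left z₀) = z₀ := by
    rw [← Scheme.Hom.comp_apply, ← Over.comp_left, h₂]
    rfl
  obtain ⟨z, hz, hz'⟩ := main ((σ ≫ snd T G).left ⁻¹' Set.range v.left)
    (hopen.preimage (σ ≫ snd T G).left.continuous)
    ⟨σ'.left z₀, by rw [Set.mem_preimage, Over.comp_left, Scheme.Hom.comp_apply, hσ]; exact hz₀⟩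
  have eθ : σ ≫ snd T G = θ := lift_snd _ _
  rw [eθ, Set.mem_preimage] at hz
  have hw : (lift (snd T G) θ).left z ∈ Set.range (v ⊗ₘ v).left := by
    rw [Over.tensorHom_left]
    refine (Scheme.Pullback.range_map V.hom V.hom G.hom G.hom v.left v.left (𝟙 S) _ _).ge ⟨?_, ?_⟩
    · change ((lift (snd T G) θ).left ≫ (fst G G).left) z ∈ Set.range v.left
      rw [← Over.comp_left, lift_fst]
      exact hz'
    · change ((lift (snd T G) θ).left ≫ (snd G G).left) z ∈ Set.range v.left
      rw [← Over.comp_left, lift_snd]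
      exact hz
  obtain ⟨p, hp⟩ := hw
  refine ⟨p, ?_⟩
  have e : lift (snd T G) θ ≫ μ[G] = γ' := by
    change snd T G * θ = γ'
    rw [← _root_.mul_assoc, mul_inv_cancel, _root_.one_mul]
  rw [Over.comp_left, Scheme.Hom.comp_apply, hp, ← Scheme.Hom.comp_apply, ← Over.comp_left, e]
  change G.left.fromSpecResidueField g ((fst T G).left z) = g
  exact Scheme.fromSpecResidueField_apply _ _

end Groth.Agent.H13Desc.ProdCover
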