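import Groth.Agent.H13Desc.Saturated
import Groth.Agent.H05EGA4.SerreCond
import Groth.Agent.H05EGA4.NormalTensorGeom
import Mathlib.RingTheory.MvPolynomial.Homogeneous
import Mathlib.RingTheory.GradedAlgebra.Radical

/-!
# Complete intersection cones normal off the vertex are normal domains
-/

set_option autoImplicit false
set_option linter.style.haveILetI false

universe u

open IsLocalRing MvPolynomial

namespace Groth.Agent.H13Desc.ProjNormal

attribute [local instance] MvPolynomial.gradedAlgebra

/-- Localisation commutes with quotients. -/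
theorem exists_quotient_localization_equiv {S : Type u} [CommRing S] (J M0 : Ideal S) [M0.IsPrime] (h : J ≤ M0)
    [(M0.map (Ideal.Quotient.mk J)).IsPrime] :
    Nonempty ((Localization.AtPrime M0 ⧸ J.map (algebraMap S (Localization.AtPrime M0))) ≃+*
      Localization.AtPrime (M0.map (Ideal.Quotient.mk J))) := by
  let R := Localization.AtPrime M0
  let T := R ⧸ J.map (algebraMap S R)
  letI : Algebra (S ⧸ J) T :=
    (Ideal.quotientMap (J.map (algebraMap S R)) (algebraMap S R) Ideal.le_comap_map).toAlgebra
  haveI : IsLocalization (M0.primeCompl.map (Ideal.Quotient.mk J)) T :=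
    IsLocalization.of_surjective M0.primeCompl R (Ideal.Quotient.mk J) Ideal.Quotient.mk_surjective
      (Ideal.Quotient.mk (J.map (algebraMap S R))) Ideal.Quotient.mk_surjective (RingHom.ext fun _ => rfl)
      (le_of_eq (by rw [Ideal.mk_ker, Ideal.mk_ker]))
  have hcompl : M0.primeCompl.map (Ideal.Quotient.mk J) = (M0.map (Ideal.Quotient.mk J)).primeCompl := by
    ext z
    refine ⟨?_, fun hz => ?_⟩
    · rintro ⟨a, ha, rfl⟩ hmem
      obtain ⟨b, hb, hab⟩ := (Ideal.mem_map_iff_of_surjective _ Ideal.Quotient.mk_surjective).mp hmem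
      exact ha (by simpa using M0.sub_mem hb (h (Ideal.Quotient.eq.mp hab)))
    · obtain ⟨a, rfl⟩ := Ideal.Quotient.mk_surjective z
      exact ⟨a, fun ha => hz (Ideal.mem_map_of_mem _ ha), rfl⟩
  haveI : IsLocalization (M0.map (Ideal.Quotient.mk J)).primeCompl T := hcompl ▸ ‹_›
  exact ⟨(IsLocalization.algEquiv (M0.map (Ideal.Quotient.mk J)).primeCompl T
    (Localization.AtPrime (M0.map (Ideal.Quotient.mk J)))).toRingEquiv⟩

theorem rsLocal_of_normal (L : Type u) [CommRing L] [IsLocalRing L] [IsNoetherianRing L] [IsDomain L]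
    [IsIntegrallyClosed L] : H05EGA4.RSLocal 1 2 L := by
  have hL : EGA4.IsNormalRing L := fun p _ =>
    ⟨IsLocalization.isDomain_of_le_nonZeroDivisors _ p.primeCompl_le_nonZeroDivisors,
      isIntegrallyClosed_of_isLocalization (Localization.AtPrime p) p.primeCompl p.primeCompl_le_nonZeroDivisors⟩
  have hm := H05EGA4.isNormalRing_iff_rs.mp hL (maximalIdeal L)
  haveI : IsLocalization.AtPrime L (maximalIdeal L) := IsLocalization.self fun z hz => by
    simpa [IsUnit.mem_submonoid_iff] using hz
  exact H05EGA4.RSLocal.of_ringEquiv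
    (IsLocalization.algEquiv (maximalIdeal L).primeCompl (Localization.AtPrime (maximalIdeal L)) L).toRingEquiv hm

variable (k : Type u) [Field k] (m r : ℕ) (f : Fin r → MvPolynomial (Fin m) k) (d : Fin r → ℕ)
  (hf : ∀ i, (f i).IsHomogeneous (d i)) (hd : ∀ i, 0 < d i)

include hf in
theorem le_ker_of_minimalPrimes {P : Ideal (MvPolynomial (Fin m) k)}
    (hP : P ∈ (Ideal.span (Set.range f)).minimalPrimes) :
    P ≤ RingHom.ker (constantCoeff (σ := Fin m) (R := k)) := by
  let 𝒜 := homogeneousSubmodule (Fin m) k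
  have hPp : P.IsPrime := hP.1.1
  have hJ : (Ideal.span (Set.range f)).IsHomogeneous 𝒜 :=
    Ideal.homogeneous_span 𝒜 _ (by rintro _ ⟨i, rfl⟩; exact ⟨d i, hf i⟩)
  have hcore : (P.homogeneousCore 𝒜).toIdeal = P := by
    refine (hP.2 ⟨hPp.homogeneousCore, ?_⟩ (Ideal.toIdeal_homogeneousCore_le 𝒜 P)).antisymm' ?_
    · exact (hJ.toIdeal_homogeneousCore_eq_self).ge.trans (Ideal.homogeneousCore_mono 𝒜 hP.1.2)
    · exact Ideal.toIdeal_homogeneousCore_le 𝒜 P
  intro p hp
  have hh := (P.homogeneousCore 𝒜).isHomogeneous 0 (hcore.ge hp)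
  rw [hcore, show (DirectSum.decompose 𝒜 p 0 : MvPolynomial (Fin m) k) = homogeneousComponent 0 p from
    decomposition.decompose'_apply p 0, homogeneousComponent_zero, ← constantCoeff_eq] at hh
  by_contra hne
  exact hPp.ne_top (Ideal.eq_top_of_isUnit_mem _ hh (isUnit_iff_ne_zero.mpr (by simpa using hne) |>.map C))

set_option maxHeartbeats 1600000 in
include hf hd in
theorem result (hr : r + 1 < m) (hJ : (Ideal.span (Set.range f)).height = r)
    (hnorm : ∀ (Q : Ideal (MvPolynomial (Fin m) k ⧸ Ideal.span (Set.range f))) [Q.IsPrime],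
      (∃ i, Ideal.Quotient.mk (Ideal.span (Set.range f)) (X i) ∉ Q) →
        IsDomain (Localization.AtPrime Q) ∧ IsIntegrallyClosed (Localization.AtPrime Q)) :
    IsDomain (MvPolynomial (Fin m) k ⧸ Ideal.span (Set.range f)) ∧
      IsIntegrallyClosed (MvPolynomial (Fin m) k ⧸ Ideal.span (Set.range f)) := by
  let S := MvPolynomial (Fin m) k
  let J : Ideal S := Ideal.span (Set.range f)
  let M0 : Ideal S := RingHom.ker (constantCoeff (σ := Fin m) (R := k))
  haveI hmax : M0.IsMaximal :=
    RingHom.ker_isMaximal_of_surjective _ fun a => ⟨C a, constantCoeff_C _ a⟩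
  have hJM : J ≤ M0 := Ideal.span_le.mpr (by
    rintro _ ⟨i, rfl⟩
    show constantCoeff (f i) = 0
    rw [constantCoeff_eq]
    exact (hf i).coeff_eq_zero (by simpa using (hd i).ne))
  let v : Ideal (S ⧸ J) := M0.map (Ideal.Quotient.mk J)
  have hv : v.IsPrime := Ideal.map_isPrime_of_surjective Ideal.Quotient.mk_surjective (by rwa [Ideal.mk_ker])
  haveI := hv
  -- the local ring at the vertex is Cohen–Macaulay of dimension at least two
  let R := Localization.AtPrime M0
  haveI : IsRegularLocalRing R := inferInstanceAs (IsRegularLocalRing (Localization.AtPrime M0))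
  have hvert : H05EGA4.RSLocal 1 2 (Localization.AtPrime v) := by
    let fR : Fin r → R := fun i => algebraMap S R (f i)
    have hfR : Ideal.span (Set.range fR) = J.map (algebraMap S R) := by
      rw [Ideal.map_span, ← Set.range_comp]
      rfl
    have hfm : ∀ i, fR i ∈ maximalIdeal R := fun i =>
      (IsLocalization.AtPrime.to_map_mem_maximal_iff R M0 _).mpr (hJM (Ideal.subset_span ⟨i, rfl⟩))
    have hdim : ringKrullDim (R ⧸ Ideal.span (Set.range fR)) + (r : WithBot ℕ∞) ≤ ringKrullDim R := by
      refine Saturated.dim_quotient_add_le _ r fun Q hQ hJQ => ?_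
      rw [← IsLocalization.height_under M0.primeCompl Q, ← hJ]
      exact Ideal.height_mono (Ideal.map_le_iff_le_comap.mp (hfR ▸ hJQ))
    have hdimR : ringKrullDim R = (m : WithBot ℕ∞) := by
      rw [IsLocalization.AtPrime.ringKrullDim_eq_height M0 R]
      have h := H8Props.FieldDim.height_add_dim_quotient (k := k) S M0
      rw [ringKrullDim_eq_zero_of_isField (Ideal.Quotient.maximal_ideal_iff_isField_quotient _ |>.mp hmax),
        add_zero, MvPolynomial.ringKrullDim_of_isNoetherianRing, ringKrullDim_eq_zero_of_field, zero_add,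
        Nat.card_fin] at h
      exact h
    have hreg := H9CI.isRegular_of_dim_le fR hfm hdim
    have hcm := (H4Depth.isCohenMacaulayLocalRing_of_regular R).supportDim_eq_depth
    have hmem : ∀ x ∈ List.ofFn fR, x ∈ maximalIdeal R := fun x hx => by
      obtain ⟨i, rfl⟩ := List.mem_ofFn.mp hx
      exact hfm i
    obtain ⟨hM, hsum⟩ := (H05EGA4.DepthMisc.isCM_main _ hmem R hcm).1 hreg.toIsWeaklyRegular
    have hI : (Ideal.ofList (List.ofFn fR) • ⊤ : Submodule R R) = J.map (algebraMap S R) := by
      rw [smul_eq_mul, Ideal.mul_top, ← hfR]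
      exact congrArg Ideal.span (Set.ext fun x => List.mem_ofFn)
    rw [hI] at hM hsum
    let T := R ⧸ J.map (algebraMap S R)
    haveI : Nontrivial T := H4Depth.IsCM.nontrivial hM
    haveI : IsLocalRing T := IsLocalRing.of_surjective' _ Ideal.Quotient.mk_surjective
    have hTdepth : ringKrullDim T = ((LocCoh.depth T T : ℕ∞) : WithBot ℕ∞) := by
      rw [← Module.supportDim_quotient_eq_ringKrullDim]
      unfold LocCoh.IsCohenMacaulayModule at hM
      rw [hM]
      exact congrArg _ (H8Props.FlatDepth.depth_eq_of_surjective (R := R) (S := T) (M := T) Ideal.Quotient.mk_surjective).symm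
    have hT : H05EGA4.RSLocal 1 2 T := by
      refine ⟨fun h1 => ?_, (min_le_right _ _).trans hTdepth.le⟩
      exfalso
      rw [Module.supportDim_quotient_eq_ringKrullDim, List.length_ofFn, Module.supportDim_self_eq_ringKrullDim,
        hdimR] at hsum
      have h2 : (m : WithBot ℕ∞) ≤ ((r + 1 : ℕ) : WithBot ℕ∞) := by
        rw [← hsum, Nat.cast_add, Nat.cast_one, add_comm (r : WithBot ℕ∞)]
        exact add_le_add h1 le_rfl
      exact absurd (Nat.cast_le.mp h2) (not_le.mpr hr)
    obtain ⟨e⟩ := exists_quotient_localization_equiv J M0 hJM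
    exact H05EGA4.RSLocal.of_ringEquiv e hT
  have hnr : EGA4.IsNormalRing (S ⧸ J) := by
    rw [H05EGA4.isNormalRing_iff_rs]
    intro Q _
    by_cases h : ∃ i, Ideal.Quotient.mk J (X i) ∉ Q
    · obtain ⟨h1, h2⟩ := hnorm Q h
      haveI := h1
      haveI := h2
      exact rsLocal_of_normal (Localization.AtPrime Q)
    · push Not at h
      have hQ : Q = v := by
        rw [← Ideal.map_comap_of_surjective _ Ideal.Quotient.mk_surjective Q]
        exact congrArg (Ideal.map (Ideal.Quotient.mk J)) (Saturated.eq_ker_constantCoeff k m fun i => h i)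
      subst hQ
      exact hvert
  -- one minimal prime, and reduced
  haveI : IsReduced (S ⧸ J) := by
    refine isReduced_ofLocalizationMaximal _ fun P _ => ?_
    haveI := (hnr P).1
    infer_instance
  obtain ⟨hdom, -⟩ := hnr v
  haveI := hdom
  have hdomain : IsDomain (S ⧸ J) := by
    suffices h : Function.Injective (algebraMap (S ⧸ J) (Localization.AtPrime v)) from h.isDomain _
    rw [injective_iff_map_eq_zero]
    intro z hz
    obtain ⟨⟨s, hs⟩, hsz⟩ := (IsLocalization.map_eq_zero_iff v.primeCompl _ z).mp hz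
    have : z ∈ nilradical (S ⧸ J) := by
      rw [nilradical, ← Ideal.sInf_minimalPrimes, Submodule.mem_sInf]
      intro P hP
      haveI := hP.1.1
      have hPv : P ≤ v := by
        have h1 : Ideal.comap (Ideal.Quotient.mk J) P ∈ J.minimalPrimes := by
          rw [Ideal.minimalPrimes_eq_comap]
          exact ⟨P, hP, rfl⟩
        rw [← Ideal.map_comap_of_surjective _ Ideal.Quotient.mk_surjective P]
        exact Ideal.map_mono (le_ker_of_minimalPrimes k m r f d hf h1)
      exact (Ideal.IsPrime.mem_or_mem inferInstance (show s * z ∈ P by rw [show s * z = 0 from hsz]; exact P.zero_mem)).resolve_left fun h => hs (hPv h)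
    exact (mem_nilradical.mp this).eq_zero
  exact ⟨hdomain, @H05EGA4.isIntegrallyClosed_of_isNormalRing _ _ hdomain hnr⟩

end Groth.Agent.H13Desc.ProjNormal
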