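import Groth.Agent.H10Coh.BaseChange
import Groth.Agent.H10Coh.QCohOps
import Groth.Agent.H29Fitt.PullbackQCoh
import Groth.Agent.H06Mod.StalkFaithful
import Groth.Agent.H16Derived.KFlat.RestrictD
import Groth.Agent.H17.PushColim

/-!
# Quasi-coherence descends along flat, surjective, quasi-compact morphisms, for arbitrary modules
-/

set_option autoImplicit false
set_option linter.style.haveILetI false
set_option backward.isDefEq.respectTransparency false

universe w v₁ v₂ u₁ u₂ u

open CategoryTheory CategoryTheory.Limits AlgebraicGeometry Opposite TopologicalSpace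
open scoped TensorProduct

namespace Groth.Agent.H13Desc

section Adjunction

variable {C : Type u₁} [Category.{v₁} C] [Abelian C] {D : Type u₂} [Category.{v₂} D] [Abelian D]
  {L : C ⥤ D} {R : D ⥤ C} (adj : L ⊣ R) (M : C)

/-- The kernel of the Amitsur pair of an adjunction. -/
noncomputable abbrev amitsurPair : R.obj (L.obj M) ⟶ R.obj (L.obj (R.obj (L.obj M))) :=
  let a : R.obj (L.obj M) ⟶ R.obj (L.obj (R.obj (L.obj M))) := R.map (L.map (adj.unit.app M))
  let b : R.obj (L.obj M) ⟶ R.obj (L.obj (R.obj (L.obj M))) := adj.unit.app (R.obj (L.obj M))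
  a - b

theorem unit_amitsurPair : adj.unit.app M ≫ amitsurPair adj M = 0 := by
  rw [amitsurPair, Preadditive.comp_sub, sub_eq_zero]
  exact (adj.unit.naturality (adj.unit.app M)).symm

noncomputable def toEqualizer : M ⟶ kernel (amitsurPair adj M) :=
  kernel.lift _ (adj.unit.app M) (unit_amitsurPair adj M)

theorem isIso_map_toEqualizer [PreservesFiniteLimits L] : IsIso (L.map (toEqualizer adj M)) := by
  haveI : L.Additive := by
    haveI := adj.leftAdjoint_preservesColimits
    exact Functor.additive_of_preserves_binary_products L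
  let k := L.map (kernel.ι (amitsurPair adj M))
  have hk : k ≫ L.map (amitsurPair adj M) = 0 := by
    rw [← L.map_comp, kernel.condition, L.map_zero]
  have hlift : L.map (toEqualizer adj M) ≫ k = L.map (adj.unit.app M) := by
    rw [← L.map_comp]
    exact congrArg L.map (kernel.lift_ι ..)
  refine ⟨k ≫ adj.counit.app (L.obj M), ?_, ?_⟩
  · rw [← Category.assoc, hlift]
    exact adj.left_triangle_components M
  · rw [← cancel_mono k, Category.id_comp]
    have h1 : k ≫ L.map (R.map (L.map (adj.unit.app M))) = k ≫ L.map (adj.unit.app (R.obj (L.obj M))) := by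
      simp only [amitsurPair, L.map_sub, Preadditive.comp_sub, sub_eq_zero] at hk
      exact hk
    calc ((k ≫ adj.counit.app (L.obj M)) ≫ L.map (toEqualizer adj M)) ≫ k
        = k ≫ adj.counit.app (L.obj M) ≫ L.map (adj.unit.app M) := by simp only [Category.assoc, hlift]
      _ = k ≫ L.map (R.map (L.map (adj.unit.app M))) ≫ adj.counit.app (L.obj (R.obj (L.obj M))) :=
          congrArg (k ≫ ·) (adj.counit.naturality (L.map (adj.unit.app M))).symm
      _ = k := by
          rw [← Category.assoc, h1, Category.assoc, adj.left_triangle_components, Category.comp_id]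

end Adjunction

variable {X Y : Scheme.{u}}

attribute [local instance] H06Mod.stalkAlgebra

/-- Inverse image along a flat surjective morphism reflects isomorphisms. -/
theorem isIso_of_pullback (f : X ⟶ Y) [Flat f] [Surjective f] {M N : Y.Modules} (φ : M ⟶ N)
    [IsIso ((Scheme.Modules.pullback f).map φ)] : IsIso φ := by
  refine H17.PushColim.isIso_of_stalkAb φ fun y => ?_
  obtain ⟨x, rfl⟩ := f.surjective y
  haveI := H06Mod.faithfullyFlat_stalk f x
  have hF : Function.Bijective
      ((TopCat.Presheaf.stalkFunctor Ab.{u} x).map ((Scheme.Modules.pullback f).map φ).mapPresheaf) :=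
    ConcreteCategory.bijective_of_isIso
      ((TopCat.Presheaf.stalkFunctor Ab.{u} x).map
        ((Scheme.Modules.toPresheaf X).map ((Scheme.Modules.pullback f).map φ)))
  let ψ : M.presheaf.stalk (f x) →ₗ[Y.presheaf.stalk (f x)] N.presheaf.stalk (f x) :=
    H06Mod.stalkLin φ (f x)
  have hψ : Function.Bijective ψ := by
    rw [← Module.FaithfullyFlat.lTensor_bijective_iff_bijective (Y.presheaf.stalk (f x)) (X.presheaf.stalk x) ψ]
    have key : ∀ z, H06Mod.pullStalkLin f N x (ψ.lTensor (X.presheaf.stalk x) z) =
        (TopCat.Presheaf.stalkFunctor Ab.{u} x).map ((Scheme.Modules.pullback f).map φ).mapPresheaf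
          (H06Mod.pullStalkLin f M x z) := by
      intro z
      induction z using TensorProduct.induction_on with
      | zero => simp; exact (map_zero _).symm
      | add a b ha hb => simp only [map_add, ha, hb]
      | tmul r m =>
        rw [LinearMap.lTensor_tmul, H06Mod.pullStalkLin_tmul, H06Mod.pullStalkLin_tmul]
        refine Eq.trans ?_ (H06Mod.stalkMap_smul ((Scheme.Modules.pullback f).map φ) x r _).symm
        rw [H06Mod.pullStalk_naturality]
        rfl
    have hN := H06Mod.pullStalkLin_bijective f N x
    have hM := H06Mod.pullStalkLin_bijective f M x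
    have h2 : Function.Bijective ((H06Mod.pullStalkLin f N x) ∘ (ψ.lTensor (X.presheaf.stalk x))) := by
      rw [show (H06Mod.pullStalkLin f N x) ∘ (ψ.lTensor (X.presheaf.stalk x)) = _ from funext key]
      exact hF.comp hM
    exact hN.of_comp_iff' _ |>.mp h2
  exact (ConcreteCategory.isIso_iff_bijective _).mpr hψ

theorem isQCoh_of_pullback_affineHom (f : X ⟶ Y) [Flat f] [Surjective f] [IsAffineHom f] (M : Y.Modules)
    (h : Coh.IsQCoh ((Scheme.Modules.pullback f).obj M)) : Coh.IsQCoh M := by
  let adj := Scheme.Modules.pullbackPushforwardAdjunction f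
  haveI := H16Derived.KFlat.Stalk.preservesFiniteLimits_pullback_of_flat f
  haveI := isIso_map_toEqualizer adj M
  haveI := isIso_of_pullback f (toEqualizer adj M)
  haveI : ((Scheme.Modules.pullback f).obj M).IsQuasicoherent := h
  let RLM := (Scheme.Modules.pushforward f).obj ((Scheme.Modules.pullback f).obj M)
  haveI h1 : RLM.IsQuasicoherent := H10Coh.isQuasicoherent_pushforward_of_isAffineHom f _
  haveI h2 : ((Scheme.Modules.pullback f).obj RLM).IsQuasicoherent := H29Fitt.isQCoh_pullback f RLM h1
  haveI h3 : ((Scheme.Modules.pushforward f).obj ((Scheme.Modules.pullback f).obj RLM)).IsQuasicoherent :=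
    H10Coh.isQuasicoherent_pushforward_of_isAffineHom f _
  haveI h4 := H10Coh.isQuasicoherent_kernel (amitsurPair adj M)
  exact H10Coh.isQuasicoherent_of_iso (asIso (toEqualizer adj M)).symm

/-- Quasi-coherence descends along flat, surjective, quasi-compact morphisms. -/
theorem isQCoh_of_pullback (f : X ⟶ Y) [Flat f] [Surjective f] [QuasiCompact f] (M : Y.Modules)
    (h : Coh.IsQCoh ((Scheme.Modules.pullback f).obj M)) : Coh.IsQCoh M := by
  refine H10Coh.isQuasicoherent_of_forall_affine M fun U hU => ?_
  let j := hU.fromSpec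
  haveI : CompactSpace ↥(pullback f j) := inferInstance
  let 𝒰 := (pullback f j).affineCover.finiteSubcover
  haveI : ∀ i, IsAffine (𝒰.X i) := fun i => inferInstanceAs (IsAffine ((pullback f j).affineCover.X _))
  let p := Sigma.desc 𝒰.f
  haveI : Surjective p := ⟨fun x => by
    obtain ⟨i, y, rfl⟩ := 𝒰.exists_eq x
    exact ⟨Sigma.ι 𝒰.X i y, by rw [← Scheme.Hom.comp_apply, Sigma.ι_desc]⟩⟩
  haveI : ∀ i, Flat (𝒰.f i) := fun i => inferInstance
  haveI : Flat p := inferInstance
  let g := p ≫ pullback.snd f j
  haveI : IsAffineHom g := isAffineHom_of_isAffine g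
  have hfM : Coh.IsQCoh ((Scheme.Modules.pullback g).obj ((Scheme.Modules.pullback j).obj M)) := by
    haveI : ((Scheme.Modules.pullback (p ≫ pullback.fst f j)).obj
        ((Scheme.Modules.pullback f).obj M)).IsQuasicoherent := H29Fitt.isQCoh_pullback _ _ h
    refine H10Coh.isQuasicoherent_of_iso (M := (Scheme.Modules.pullback (p ≫ pullback.fst f j)).obj
        ((Scheme.Modules.pullback f).obj M)) ?_
    exact (Scheme.Modules.pullbackComp (p ≫ pullback.fst f j) f).app M ≪≫
      (Scheme.Modules.pullbackCongr (show (p ≫ pullback.fst f j) ≫ f = g ≫ j by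
        simp only [g, Category.assoc, pullback.condition])).app M ≪≫
      ((Scheme.Modules.pullbackComp g j).app M).symm
  have := isQCoh_of_pullback_affineHom g _ hfM
  exact H10Coh.isQuasicoherent_of_iso ((Scheme.Modules.restrictFunctorIsoPullback j).app M).symm

end Groth.Agent.H13Desc
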