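import Groth.Agent.H4Depth.CM
import Groth.Agent.H4Depth.Regular
import Groth.Agent.H05EGA4.DepthMisc
import Groth.Agent.H9CI.RegLocal
import Groth.Agent.H9CI.Cover
import Groth.Agent.H8Props.FieldDimHeight
import Mathlib.RingTheory.MvPolynomial.Ideal

/-!
# Ideals of complete intersections in polynomial rings are saturated
-/

set_option autoImplicit false
set_option linter.style.haveILetI false

universe u

open IsLocalRing

namespace Groth.Agent.H13Desc.Saturated

/-- If every prime containing `J` has height at least `r` in a local ring of dimension `d`, then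
`dim R/J + r ≤ d`. -/
theorem dim_quotient_add_le {R : Type u} [CommRing R] (J : Ideal R) (r : ℕ)
    (hJ : ∀ Q : Ideal R, Q.IsPrime → J ≤ Q → (r : ℕ∞) ≤ Q.height) :
    ringKrullDim (R ⧸ J) + (r : WithBot ℕ∞) ≤ ringKrullDim R := by
  rcases isEmpty_or_nonempty (PrimeSpectrum.zeroLocus (J : Set R)) with h | h
  · rw [ringKrullDim_quotient, Order.krullDim_eq_bot]
    simp
  · rw [ringKrullDim_quotient, Order.krullDim_eq_iSup_coheight_of_nonempty, ← WithBot.coe_natCast,
      ← WithBot.coe_add, ENat.iSup_add]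
    obtain ⟨x⟩ := h
    have : Nonempty (PrimeSpectrum R) := ⟨x.1⟩
    rw [ringKrullDim, Order.krullDim_eq_iSup_height_add_coheight_of_nonempty, WithBot.coe_le_coe]
    refine iSup_le fun Q => le_trans ?_ (le_iSup _ Q.1)
    rw [add_comm]
    refine add_le_add ?_ ?_
    · rw [← PrimeSpectrum.height_eq_orderHeight]
      exact hJ Q.1.asIdeal Q.1.isPrime Q.2
    · exact Order.coheight_le_coheight_apply_of_strictMono Subtype.val (fun _ _ h => h) Q

/-- No nonzero element of a Cohen–Macaulay quotient of positive dimension is killed by an ideal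
contained only in the maximal ideal. -/
theorem eq_zero_of_colon {R : Type u} [CommRing R] [IsRegularLocalRing R] {c : ℕ} (f : Fin c → R)
    (hf : ∀ i, f i ∈ maximalIdeal R)
    (hdim : ringKrullDim (R ⧸ Ideal.span (Set.range f)) + (c : WithBot ℕ∞) ≤ ringKrullDim R)
    (hlt : (c : WithBot ℕ∞) < ringKrullDim R) (I : Ideal R)
    (hI : ∀ P : Ideal R, P.IsPrime → I ≤ P → P = maximalIdeal R)
    (g : R) (hg : ∀ a ∈ I, a * g ∈ Ideal.span (Set.range f)) : g ∈ Ideal.span (Set.range f) := by
  have hreg := H9CI.isRegular_of_dim_le f hf hdim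
  have hcm := (H4Depth.isCohenMacaulayLocalRing_of_regular R).supportDim_eq_depth
  have hmem : ∀ x ∈ List.ofFn f, x ∈ maximalIdeal R := fun x hx => by
    obtain ⟨i, rfl⟩ := List.mem_ofFn.mp hx
    exact hf i
  obtain ⟨hM, hd⟩ := (H05EGA4.DepthMisc.isCM_main _ hmem R hcm).1 hreg.toIsWeaklyRegular
  let J : Ideal R := Ideal.ofList (List.ofFn f) • ⊤
  have hJ : J = Ideal.span (Set.range f) := by
    simp only [J, smul_eq_mul, Ideal.mul_top]
    exact congrArg Ideal.span (Set.ext fun x => List.mem_ofFn)
  rw [← hJ] at hg ⊢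
  by_contra hne
  have hne' : (Submodule.Quotient.mk g : R ⧸ J) ≠ 0 := fun h => hne ((Submodule.Quotient.mk_eq_zero J).mp h)
  obtain ⟨P, hP, hle⟩ := exists_le_isAssociatedPrime_of_isNoetherianRing R _ hne'
  have hPm : P = maximalIdeal R := hI P hP.isPrime (fun a ha => hle (by
    rw [Submodule.mem_colon_singleton, Submodule.mem_bot, ← Submodule.Quotient.mk_smul,
      Submodule.Quotient.mk_eq_zero]
    exact hg a ha))
  have h0 := H4Depth.IsCM.ringKrullDim_quotient_eq hM (p := P) hP
  rw [hPm, ringKrullDim_eq_zero_of_isField (Ideal.Quotient.maximal_ideal_iff_isField_quotient _ |>.mp inferInstance)] at h0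
  rw [← h0, zero_add, List.length_ofFn, Module.supportDim_self_eq_ringKrullDim] at hd
  exact hlt.ne hd

variable (k : Type u) [Field k] (m : ℕ)

theorem eq_ker_constantCoeff {P : Ideal (MvPolynomial (Fin m) k)} [P.IsPrime]
    (hX : ∀ i, MvPolynomial.X i ∈ P) :
    P = RingHom.ker (MvPolynomial.constantCoeff (σ := Fin m) (R := k)) := by
  haveI : (RingHom.ker (MvPolynomial.constantCoeff (σ := Fin m) (R := k))).IsMaximal :=
    RingHom.ker_isMaximal_of_surjective _ fun a => ⟨MvPolynomial.C a, MvPolynomial.constantCoeff_C _ a⟩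
  have key : ∀ p : MvPolynomial (Fin m) k, p - MvPolynomial.C (MvPolynomial.constantCoeff p) ∈ P := by
    intro p
    induction p using MvPolynomial.induction_on with
    | C a => simp
    | add p q hp hq => simpa [add_sub_add_comm] using P.add_mem hp hq
    | mul_X p i _ => simpa using P.mul_mem_left p (hX i)
  refine (Ideal.IsMaximal.eq_of_le ‹(RingHom.ker (MvPolynomial.constantCoeff (σ := Fin m) (R := k))).IsMaximal› (J := P)
    (Ideal.IsPrime.ne_top ‹_›) fun p hp => ?_).symm
  have := key p
  rwa [RingHom.mem_ker.mp hp, map_zero, sub_zero] at this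

theorem mem_span (r : ℕ) (hr : r < m) (f : Fin r → MvPolynomial (Fin m) k)
    (hf : ∀ i, MvPolynomial.constantCoeff (f i) = 0) (hJ : (Ideal.span (Set.range f)).height = r)
    (g : MvPolynomial (Fin m) k)
    (hg : ∀ i, ∃ e : ℕ, MvPolynomial.X i ^ e * g ∈ Ideal.span (Set.range f)) :
    g ∈ Ideal.span (Set.range f) := by
  let S := MvPolynomial (Fin m) k
  let J : Ideal S := Ideal.span (Set.range f)
  let M0 : Ideal S := RingHom.ker (MvPolynomial.constantCoeff (σ := Fin m) (R := k))
  haveI hmax : M0.IsMaximal :=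
    RingHom.ker_isMaximal_of_surjective _ fun a => ⟨MvPolynomial.C a, MvPolynomial.constantCoeff_C _ a⟩
  let R := Localization.AtPrime M0
  haveI : IsRegularLocalRing R := inferInstanceAs (IsRegularLocalRing (Localization.AtPrime M0))
  have hdimR : ringKrullDim R = (m : WithBot ℕ∞) := by
    rw [IsLocalization.AtPrime.ringKrullDim_eq_height M0 R]
    have h := H8Props.FieldDim.height_add_dim_quotient (k := k) S M0
    rw [ringKrullDim_eq_zero_of_isField (Ideal.Quotient.maximal_ideal_iff_isField_quotient _ |>.mp hmax),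
      add_zero, MvPolynomial.ringKrullDim_of_isNoetherianRing, ringKrullDim_eq_zero_of_field, zero_add,
      Nat.card_fin] at h
    exact h
  by_contra hne
  let C : Ideal S := Submodule.colon J {g}
  have hC : C ≠ ⊤ := fun h => hne (by
    have h1 : (1 : S) ∈ C := h ▸ Submodule.mem_top
    rw [Submodule.mem_colon_singleton, one_smul] at h1
    exact h1)
  obtain ⟨P, hP, hCP⟩ := Ideal.exists_le_maximal C hC
  haveI := hP
  have hPM : P = M0 := eq_ker_constantCoeff k m fun i => by
    obtain ⟨e, he⟩ := hg i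
    exact Ideal.IsPrime.mem_of_pow_mem inferInstance e (hCP (Submodule.mem_colon_singleton.mpr he))
  let fR : Fin r → R := fun i => algebraMap S R (f i)
  have hfR : Ideal.span (Set.range fR) = J.map (algebraMap S R) := by
    rw [Ideal.map_span, ← Set.range_comp]
    rfl
  have hdim : ringKrullDim (R ⧸ Ideal.span (Set.range fR)) + (r : WithBot ℕ∞) ≤ ringKrullDim R := by
    refine dim_quotient_add_le _ r fun Q hQ hJQ => ?_
    rw [← IsLocalization.height_under M0.primeCompl Q, ← hJ]
    exact Ideal.height_mono (Ideal.map_le_iff_le_comap.mp (hfR ▸ hJQ))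
  have hmem : algebraMap S R g ∈ Ideal.span (Set.range fR) := by
    refine eq_zero_of_colon fR (fun i => ?_) hdim (by rw [hdimR]; exact_mod_cast hr)
      (C.map (algebraMap S R)) (fun Q hQ hCQ => ?_) _ ?_
    · exact (IsLocalization.AtPrime.to_map_mem_maximal_iff R M0 _).mpr (hf i)
    · haveI := hQ
      have hX : ∀ i, MvPolynomial.X i ∈ Q.comap (algebraMap S R) := fun i => by
        obtain ⟨e, he⟩ := hg i
        exact Ideal.IsPrime.mem_of_pow_mem inferInstance e
          (Ideal.map_le_iff_le_comap.mp hCQ (Submodule.mem_colon_singleton.mpr he))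
      refine (IsLocalRing.le_maximalIdeal hQ.ne_top).antisymm fun z hz => ?_
      obtain ⟨a, s, rfl⟩ := IsLocalization.exists_mk'_eq M0.primeCompl z
      rw [IsLocalization.mk'_mem_iff]
      exact (eq_ker_constantCoeff k m hX).ge ((IsLocalization.AtPrime.mk'_mem_maximal_iff R M0 a s).mp hz)
    · rw [hfR]
      intro a ha
      have : C.map (algebraMap S R) * Ideal.span {algebraMap S R g} ≤ J.map (algebraMap S R) := by
        rw [← Set.image_singleton, ← Ideal.map_span, ← Ideal.map_mul]
        refine Ideal.map_mono (Ideal.mul_le.mpr fun c hc z hz => ?_)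
        obtain ⟨w, rfl⟩ := Ideal.mem_span_singleton'.mp hz
        have := J.mul_mem_left w (Submodule.mem_colon_singleton.mp hc)
        rwa [smul_eq_mul, show w * (c * g) = c * (w * g) by ring] at this
      exact this (Ideal.mul_mem_mul ha (Ideal.mem_span_singleton_self _))
  rw [hfR] at hmem
  obtain ⟨⟨⟨a, ha⟩, ⟨s, hs⟩⟩, h⟩ := (IsLocalization.mem_map_algebraMap_iff M0.primeCompl R).mp hmem
  rw [← map_mul] at h
  obtain ⟨⟨t, ht⟩, h'⟩ := (IsLocalization.eq_iff_exists M0.primeCompl R).mp h
  have hin : t * s ∈ C := Submodule.mem_colon_singleton.mpr (by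
    rw [smul_eq_mul, show t * s * g = t * (g * s) by ring, h']
    exact J.mul_mem_left t ha)
  exact (mul_mem ht hs : t * s ∈ M0.primeCompl) (hPM ▸ hCP hin)

end Groth.Agent.H13Desc.Saturated
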